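import Mathlib
import Cfsg.Prelude.Def_OddOrderLocal

/-!
# Shared hypotheses for the S1352 / S1353 / S1354 chain (BG 13.7, regular structure)

* `H137 G` : the statement of BG Lemma 13.7 (`tau12_regular`), complement form.
* `HS M K` : the "regular structure" of a maximal subgroup `M` with a nontrivial cyclic Hall
  `κ(M)`-subgroup `K`: what S1352, S1353, S1354 need.
-/

set_option autoImplicit false

namespace Cfsg.Agent.Lib.Helper36.BG142

open Cfsg

/-- **BG Lemma 13.7** for all maximal subgroups: a subgroup `P` of prime order `p ∈ τ₁(M)` of a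
complement `E` of `M_σ` which is not fixed-point-free on `M_σ` has trivial centralizer in every
elementary abelian subgroup `A ≤ E` of order `u ^ 2`, `u ∈ τ₂(M)`. -/
def H137 (G : Type*) [Group G] : Prop :=
  ∀ (M : Subgroup G), IsCoatom M → ∀ (E : Subgroup G), IsComplIn E (sigmaCore M) M →
    ∀ (p : ℕ) [Fact p.Prime], p ∈ tau1 M → ∀ (P : Subgroup G), P ≤ E → Nat.card P = p →
      sigmaCore M ⊓ Subgroup.centralizer (P : Set G) ≠ ⊥ →
    ∀ (u : ℕ) [Fact u.Prime], u ∈ tau2 M → ∀ (A : Subgroup G), A ≤ E →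
      IsElementaryAbelian u A → Nat.card A = u ^ 2 →
        A ⊓ Subgroup.centralizer (P : Set G) = ⊥

/-- The regular structure `M = U K M_σ`, `C_M(k) = K × K*` attached to a nontrivial cyclic Hall
`κ(M)`-subgroup `K`. -/
def HS {G : Type*} [Group G] (M K : Subgroup G) : Prop :=
  ∃ U : Subgroup G, IsComplIn U (K ⊔ sigmaCore M) M ∧ K ≤ Subgroup.normalizer (U : Set G) ∧
    M ≤ Subgroup.normalizer ((U ⊔ sigmaCore M : Subgroup G) : Set G) ∧
    sigmaCore M ⊓ Subgroup.centralizer (K : Set G) ≠ ⊥ ∧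
    ∀ k ∈ K, k ≠ 1 → M ⊓ Subgroup.centralizer ({k} : Set G) =
      K ⊔ (sigmaCore M ⊓ Subgroup.centralizer (K : Set G))

end Cfsg.Agent.Lib.Helper36.BG142
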