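import Mathlib
import Cfsg.Agent.Lib.Helper36.BG142Defs
import Cfsg.Agent.Lib.Helper13.BG12A
import Cfsg.Agent.Lib.Helper13.BG12B
import Cfsg.Agent.Lib.Helper82.BG134D5
import Cfsg.Agent.Lib.Helper83.BG11e
import Cfsg.Agent.Lib.Helper71.BG11a
import Cfsg.Agent.Lib.Helper20.BG1211S
import Cfsg.Agent.Lib.Helper01.Coprime
import Cfsg.Agent.S0046

/-!
# S1352, S1353, S1354 from the regular structure `HS M K`

`K = ⊥` is elementary; for `K ≠ ⊥` everything follows from `HS M K` (see `BG142Defs`).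
-/

set_option autoImplicit false

namespace Cfsg.Agent.Lib.Helper36.BG142

open Cfsg

variable {G : Type*} [Group G] [Finite G]

theorem coatom_ne_bot' (hG : IsMinSimpleOddOrder G) {M : Subgroup G} (hM : IsCoatom M) : M ≠ ⊥ := by
  haveI : IsSimpleGroup G := hG.2.1
  refine Cfsg.Agent.S0046.coatom_ne_bot ?_ M hM
  intro h
  exact hG.2.2.1 ⟨⟨h⟩⟩

theorem sigmaCore_ne_bot' (hG : IsMinSimpleOddOrder G) {M : Subgroup G} (hM : IsCoatom M) :
    sigmaCore M ≠ ⊥ :=
  Cfsg.Agent.Lib.Helper83.BG11.sigmaCore_ne_bot hG hM (coatom_ne_bot' hG hM)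

/-- `K ⊓ M_σ = ⊥` for a `κ(M)`-group `K`. -/
theorem kappa_inf_sigmaCore (hG : IsMinSimpleOddOrder G) {M K : Subgroup G} (hM : IsCoatom M)
    (hK : ∀ p : ℕ, p.Prime → p ∣ Nat.card K → p ∈ kappa M) : K ⊓ sigmaCore M = ⊥ := by
  have hH := Cfsg.Agent.Lib.Helper82.BG134.hallOf hG hM
  apply Subgroup.inf_eq_bot_of_coprime
  apply Cfsg.Agent.Lib.Helper13.BG12.coprime_of_primes_disjoint (π := sigma M)
  · intro p hp hpK
    exact (hK p hp hpK).2.2.1
  · intro p hp hpS
    exact hH.2.1 p hp hpS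

/-- the sup of a complement pair is everything -/
theorem sup_eq_of_complIn {A B M : Subgroup G} (h : IsComplIn A B M) : A ⊔ B = M := by
  apply le_antisymm (sup_le h.1 h.2.1)
  intro m hm
  obtain ⟨a, ha, b, hb, rfl⟩ := h.2.2.2 m hm
  exact mul_mem (Subgroup.mem_sup_left ha) (Subgroup.mem_sup_right hb)

/-- no prime of `κ(M)` divides the order of a complement `U` of `K M_σ`, `K` a Hall
`κ(M)`-subgroup -/
theorem coprime_card_of_decomposition {M K U : Subgroup G} (hK : IsPiHallOf (kappa M) K M)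
    (hU : IsComplIn U (K ⊔ sigmaCore M) M) : (Nat.card U).Coprime (Nat.card K) := by
  apply Cfsg.Agent.Lib.Helper13.BG12.coprime_of_primes_disjoint (π := kappa M)
  · intro p hp hpU hpκ
    have h1 : (K ⊔ sigmaCore M).relIndex M = Nat.card U :=
      Cfsg.Agent.Lib.Helper13.BG12.relIndex_eq_card_of_complIn hU
    have h2 : (K ⊔ sigmaCore M).relIndex M ∣ K.relIndex M :=
      Subgroup.relIndex_dvd_of_le_left M le_sup_left
    exact hK.2.2 p hp hpκ (dvd_trans (h1 ▸ hpU) h2)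
  · intro p hp hpK
    exact hK.2.1 p hp hpK

/-- **uniqueness of `U M_σ`**: two complements `U`, `U'` of `K M_σ` in `M`, the first with
`U M_σ ⊲ M`, have `U' M_σ = U M_σ`. -/
theorem sup_sigmaCore_eq (hG : IsMinSimpleOddOrder G) {M K U U' : Subgroup G} (hM : IsCoatom M)
    (hK : IsPiHallOf (kappa M) K M)
    (hU : IsComplIn U (K ⊔ sigmaCore M) M)
    (hN : M ≤ Subgroup.normalizer ((U ⊔ sigmaCore M : Subgroup G) : Set G))
    (hU' : IsComplIn U' (K ⊔ sigmaCore M) M) :
    U' ⊔ sigmaCore M = U ⊔ sigmaCore M := by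
  have hσM : sigmaCore M ≤ M := Cfsg.Agent.Lib.Helper71.BG11.sigmaCore_le M
  have hMσ : M ≤ Subgroup.normalizer (sigmaCore M : Set G) :=
    Cfsg.Agent.Lib.Helper71.BG11.le_normalizer_sigmaCore M
  have hKM : K ≤ M := hK.1
  have hKσ : K ⊓ sigmaCore M = ⊥ := kappa_inf_sigmaCore hG hM hK.2.1
  -- `M = N ⊔ K`
  have hMeq : M = (U ⊔ sigmaCore M) ⊔ K := by
    have h := sup_eq_of_complIn hU
    rw [sup_assoc, sup_comm (sigmaCore M) K]
    exact h.symm
  -- `U' ≤ N`
  have hU'N : U' ≤ U ⊔ sigmaCore M := by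
    intro u hu
    have huM : u ∈ (U ⊔ sigmaCore M) ⊔ K := hMeq ▸ hU'.1 hu
    refine Cfsg.Agent.Lib.Helper20.BG1211.mem_of_mem_sup_of_coprime (U ⊔ sigmaCore M) K
      (hKM.trans hN) huM ?_
    have h1 : orderOf u ∣ Nat.card U' := by
      have := orderOf_dvd_natCard (⟨u, hu⟩ : U')
      rwa [Subgroup.orderOf_mk] at this
    exact Nat.Coprime.coprime_dvd_left h1 (coprime_card_of_decomposition hK hU')
  -- `N ⊓ K = ⊥`
  have hNK : ∀ k ∈ K, k ∈ U ⊔ sigmaCore M → k = 1 := by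
    intro k hk hkN
    obtain ⟨a, ha, s, hs, rfl⟩ :=
      Cfsg.Agent.Lib.Helper01.exists_mul_of_mem_sup (hU.1.trans hMσ) hkN
    have ha' : a ∈ K ⊔ sigmaCore M := by
      have : a = (a * s) * s⁻¹ := by group
      rw [this]
      exact mul_mem (Subgroup.mem_sup_left hk) (Subgroup.mem_sup_right (inv_mem hs))
    have ha1 : a = 1 := by
      have : a ∈ U ⊓ (K ⊔ sigmaCore M) := ⟨ha, ha'⟩
      rw [hU.2.2.1] at this
      exact Subgroup.mem_bot.mp this
    subst ha1
    rw [one_mul] at hk ⊢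
    have : s ∈ K ⊓ sigmaCore M := ⟨hk, hs⟩
    rw [hKσ] at this
    exact Subgroup.mem_bot.mp this
  apply le_antisymm (sup_le hU'N le_sup_right)
  apply sup_le _ le_sup_right
  intro a ha
  obtain ⟨u', hu', b, hb, hab⟩ := hU'.2.2.2 a (hU.1 ha)
  obtain ⟨k, hk, s, hs, rfl⟩ :=
    Cfsg.Agent.Lib.Helper01.exists_mul_of_mem_sup (hKM.trans hMσ) hb
  have hk1 : k = 1 := by
    apply hNK k hk
    have : k = u'⁻¹ * a * s⁻¹ := by rw [hab]; group
    rw [this]
    exact mul_mem (mul_mem (inv_mem (hU'N hu')) (Subgroup.mem_sup_left ha))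
      (Subgroup.mem_sup_right (inv_mem hs))
  subst hk1
  rw [hab, one_mul]
  exact mul_mem (Subgroup.mem_sup_left hu') (Subgroup.mem_sup_right hs)

/-- **S1352** from the regular structure. -/
theorem s1352_of (hG : IsMinSimpleOddOrder G) (M : Subgroup G) (hM : IsCoatom M) (K : Subgroup G)
    (hKc : IsCyclic K) (hK : IsPiHallOf (kappa M) K M) (hs : K ≠ ⊥ → HS M K) :
    (∃ U : Subgroup G, IsSigmaDecomposition M K U) ∧
      ∀ U : Subgroup G, IsSigmaDecomposition M K U →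
        M ≤ Subgroup.normalizer ((U ⊔ sigmaCore M : Subgroup G) : Set G) := by
  by_cases hKb : K = ⊥
  · subst hKb
    have hH := Cfsg.Agent.Lib.Helper82.BG134.hallOf hG hM
    constructor
    · obtain ⟨E, hE, -⟩ := Cfsg.Agent.Lib.Helper13.BG12.exists_complIn_ge hG hM hH
        (K := ⊥) bot_le (by
          intro p hp hpd
          rw [Subgroup.card_bot] at hpd
          exact absurd (Nat.dvd_one.mp hpd) hp.ne_one)
      refine ⟨E, hKc, hK, ?_, bot_le⟩
      rw [bot_sup_eq]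
      exact hE
    · intro U hU
      have h := hU.compl
      rw [bot_sup_eq] at h
      rw [sup_eq_of_complIn h]
      exact Subgroup.le_normalizer
  · obtain ⟨U, hU, hKU, hN, -, -⟩ := hs hKb
    constructor
    · exact ⟨U, hKc, hK, hU, hKU⟩
    · intro U' hU'
      rw [sup_sigmaCore_eq hG hM hK hU hN hU'.compl]
      exact hN

/-- **S1353** from the regular structure. -/
theorem s1353_of (M : Subgroup G) (K U : Subgroup G)
    (hKU : IsSigmaDecomposition M K U) (hs : K ≠ ⊥ → HS M K) :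
    ∀ k ∈ K, k ≠ 1 → U ⊓ Subgroup.centralizer ({k} : Set G) = ⊥ := by
  intro k hk hk1
  have hKb : K ≠ ⊥ := by
    intro h
    rw [h] at hk
    exact hk1 (Subgroup.mem_bot.mp hk)
  obtain ⟨U₀, -, -, -, -, hC⟩ := hs hKb
  rw [eq_bot_iff]
  intro x hx
  have hxM : x ∈ M ⊓ Subgroup.centralizer ({k} : Set G) := ⟨hKU.compl.1 hx.1, hx.2⟩
  rw [hC k hk hk1] at hxM
  have hx' : x ∈ K ⊔ sigmaCore M := (sup_le_sup_left inf_le_left K) hxM
  have : x ∈ U ⊓ (K ⊔ sigmaCore M) := ⟨hx.1, hx'⟩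
  rw [hKU.compl.2.2.1] at this
  exact this

/-- **S1354** from the regular structure. -/
theorem s1354_of (hG : IsMinSimpleOddOrder G) (M : Subgroup G) (hM : IsCoatom M) (K : Subgroup G)
    (hs : K ≠ ⊥ → HS M K) :
    sigmaCore M ⊓ Subgroup.centralizer (K : Set G) ≠ ⊥ ∧
      (K ≠ ⊥ → ∀ k ∈ K, k ≠ 1 →
        M ⊓ Subgroup.centralizer ({k} : Set G) =
          K ⊔ (sigmaCore M ⊓ Subgroup.centralizer (K : Set G))) := by
  constructor
  · by_cases hKb : K = ⊥
    · subst hKb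
      have : Subgroup.centralizer (((⊥ : Subgroup G) : Subgroup G) : Set G) = ⊤ := by
        rw [Subgroup.coe_bot]
        exact Subgroup.centralizer_eq_top_iff_subset.mpr (by
          intro x hx
          rw [Set.mem_singleton_iff] at hx
          subst hx
          exact Subgroup.one_mem _)
      rw [this, inf_top_eq]
      exact sigmaCore_ne_bot' hG hM
    · obtain ⟨U, -, -, -, h, -⟩ := hs hKb
      exact h
  · intro hKb
    obtain ⟨U, -, -, -, -, h⟩ := hs hKb
    exact h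

end Cfsg.Agent.Lib.Helper36.BG142
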