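import Mathlib
import Cfsg.Agent.Lib.Helper36.BG142Glue
import Cfsg.Agent.Lib.Helper03.FrobSub
import Cfsg.Agent.Lib.Helper03.FrobThompson
import Cfsg.Agent.Lib.Helper29.Sup
import Cfsg.Agent.Lib.Helper13.BG135
import Cfsg.Agent.S1353
import Cfsg.Agent.S1429
import Cfsg.Agent.S1430

/-!
# BG 14.7(f), first half: in a standard factorisation `M = K U M_σ` with `K ≠ 1` and `U ≠ 1`,
`K` has prime order and `M_σ` is nilpotent

Two applications of the Frobenius–Wielandt fixed point formula (`Helper03.FrobSub.wielandt_sub`),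
to the Frobenius groups `U K` and `U X` (`X ≤ K` of prime order) acting on `M_σ`, together with
the prime action of `K` on `M_σ` (S1430), show that `U` centralizes `M_σ` unless `|K|` is prime;
and `U ≠ 1` cannot centralize `M_σ` (S1429).
-/

set_option autoImplicit false

namespace Cfsg.Agent.Lib.Helper36.BG14

open Cfsg Cfsg.Agent.Lib.Helper36.BG142

variable {G : Type*} [Group G] [Finite G]

/-- a prime divisor of `|U|` is outside `σ(M)` and `κ(M)` -/
theorem not_mem_of_dvd_card_U (hG : IsMinSimpleOddOrder G) {M K U : Subgroup G} (hM : IsCoatom M)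
    (hK : IsPiHallOf (kappa M) K M) (hU : IsComplIn U (K ⊔ sigmaCore M) M) {r : ℕ} (hr : r.Prime)
    (hrU : r ∣ Nat.card U) : r ∉ sigma M ∧ r ∉ kappa M := by
  have hH := Cfsg.Agent.Lib.Helper82.BG134.hallOf hG hM
  have h1 : (K ⊔ sigmaCore M).relIndex M = Nat.card U :=
    Cfsg.Agent.Lib.Helper13.BG12.relIndex_eq_card_of_complIn hU
  constructor
  · intro hσ
    have h2 : (K ⊔ sigmaCore M).relIndex M ∣ (sigmaCore M).relIndex M :=
      Subgroup.relIndex_dvd_of_le_left M le_sup_right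
    exact hH.2.2 r hr hσ (dvd_trans (h1 ▸ hrU) h2)
  · intro hκ
    have h2 : (K ⊔ sigmaCore M).relIndex M ∣ K.relIndex M :=
      Subgroup.relIndex_dvd_of_le_left M le_sup_left
    exact hK.2.2 r hr hκ (dvd_trans (h1 ▸ hrU) h2)

/-- `U ≠ 1` does not centralize `M_σ`. -/
theorem not_sigmaCore_le_centralizer (hG : IsMinSimpleOddOrder G) {M K U : Subgroup G}
    (hM : IsCoatom M) (hK : IsPiHallOf (kappa M) K M) (hU : IsComplIn U (K ⊔ sigmaCore M) M)
    (hU1 : U ≠ ⊥) : ¬ sigmaCore M ≤ Subgroup.centralizer (U : Set G) := by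
  intro hcent
  have hH := Cfsg.Agent.Lib.Helper82.BG134.hallOf hG hM
  have hσM : sigmaCore M ≤ M := Cfsg.Agent.Lib.Helper71.BG11.sigmaCore_le M
  have hMσ : M ≤ Subgroup.normalizer (sigmaCore M : Set G) :=
    Cfsg.Agent.Lib.Helper71.BG11.le_normalizer_sigmaCore M
  have hUc : Nat.card U ≠ 1 := fun h => hU1 (Subgroup.card_eq_one.mp h)
  obtain ⟨r, hr, hrU⟩ := Nat.exists_prime_and_dvd hUc
  haveI : Fact r.Prime := ⟨hr⟩
  obtain ⟨hrσ, hrκ⟩ := not_mem_of_dvd_card_U hG hM hK hU hr hrU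
  have hrM : r ∣ Nat.card M := dvd_trans hrU (Subgroup.card_dvd_of_le hU.1)
  -- every element of `M` of order dividing `r` centralizes `M_σ`
  have hkey : ∀ x ∈ M, x ^ r = 1 → x ∈ Subgroup.centralizer ((sigmaCore M : Subgroup G) : Set G) := by
    intro x hxM hxr
    set N : Subgroup G := M ⊓ Subgroup.centralizer ((sigmaCore M : Subgroup G) : Set G) with hN
    have hHn : K ⊔ sigmaCore M ≤ Subgroup.normalizer (N : Set G) := by
      intro g hg
      have hgM : g ∈ M := (sup_le hK.1 hσM) hg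
      have hconj : ∀ g ∈ M, ∀ n ∈ N, g * n * g⁻¹ ∈ N := by
        intro g hgM n hn
        refine Subgroup.mem_inf.mpr ⟨mul_mem (mul_mem hgM hn.1) (inv_mem hgM), ?_⟩
        rw [Subgroup.mem_centralizer_iff]
        intro y hy
        have hy' : g⁻¹ * y * g⁻¹⁻¹ ∈ sigmaCore M :=
          (Subgroup.mem_normalizer_iff.mp (hMσ (inv_mem hgM)) y).mp hy
        have hc := (Subgroup.mem_centralizer_iff.mp hn.2) _ hy'
        -- hc : (g⁻¹ y g) * n = n * (g⁻¹ y g)
        calc y * (g * n * g⁻¹) = g * ((g⁻¹ * y * g⁻¹⁻¹) * n) * g⁻¹ := by group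
          _ = g * (n * (g⁻¹ * y * g⁻¹⁻¹)) * g⁻¹ := by rw [hc]
          _ = g * n * g⁻¹ * y := by group
      rw [Subgroup.mem_normalizer_iff]
      intro n
      constructor
      · exact hconj g hgM n
      · intro hn
        have := hconj g⁻¹ (inv_mem hgM) _ hn
        have h3 : g⁻¹ * (g * n * g⁻¹) * g⁻¹⁻¹ = n := by group
        rwa [h3] at this
    have hxsup : x ∈ N ⊔ (K ⊔ sigmaCore M) := by
      obtain ⟨a, ha, b, hb, rfl⟩ := hU.2.2.2 x hxM
      exact mul_mem (Subgroup.mem_sup_left ⟨hU.1 ha, (Subgroup.le_centralizer_iff.mp hcent) ha⟩)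
        (Subgroup.mem_sup_right hb)
    have hcop : (orderOf x).Coprime (Nat.card ↥(K ⊔ sigmaCore M)) := by
      have h1 : orderOf x ∣ r := orderOf_dvd_of_pow_eq_one hxr
      have h2 : Nat.card ↥(sigmaCore M ⊔ K) ∣ Nat.card (sigmaCore M) * Nat.card K :=
        Cfsg.Agent.Lib.Helper29.card_sup_dvd_of_le_normalizer (sigmaCore M) K (hK.1.trans hMσ)
      rw [sup_comm] at h2
      apply Nat.Coprime.coprime_dvd_left h1
      apply Nat.Coprime.coprime_dvd_right h2
      apply Nat.Coprime.mul_right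
      · exact (Nat.Prime.coprime_iff_not_dvd hr).mpr (fun h => hrσ (hH.2.1 r hr h))
      · exact (Nat.Prime.coprime_iff_not_dvd hr).mpr (fun h => hrκ (hK.2.1 r hr h))
    exact (Cfsg.Agent.Lib.Helper20.BG1211.mem_of_mem_sup_of_coprime N (K ⊔ sigmaCore M)
      hHn hxsup hcop).2
  -- a Sylow `r`-subgroup of `M`
  obtain ⟨S⟩ : Nonempty (Sylow r M) := inferInstance
  have hP1 : ¬ (∀ q : ℕ, q.Prime → q ∣ Nat.card M → q ∉ sigma M → q ∈ kappa M) :=
    fun h => hrκ (h r hr hrM hrσ)
  have h29 := (Cfsg.Agent.S1429.result hG M hM hP1 r hrM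
    (by rintro (h | h); exact hrσ h; exact hrκ h) S).2.1
  have hle : sigmaCore M ≤ Subgroup.centralizer
      ((Subgroup.closure {x : G | x ∈ (S : Subgroup M).map M.subtype ∧ x ^ r = 1} : Subgroup G) :
        Set G) := by
    rw [Subgroup.le_centralizer_iff, Subgroup.closure_le]
    rintro x ⟨hxS, hxr⟩
    have hxM : x ∈ M := by
      obtain ⟨y, -, rfl⟩ := Subgroup.mem_map.mp hxS
      exact y.2
    exact hkey x hxM hxr
  rw [inf_eq_left.mpr hle] at h29
  exact sigmaCore_ne_bot' hG hM h29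

/-- `M_σ` is nilpotent when `U ≠ 1`. -/
theorem sigmaCore_nilpotent_of_ne_bot (hG : IsMinSimpleOddOrder G) (M : Subgroup G)
    (hM : IsCoatom M) (K U : Subgroup G) (hKU : IsSigmaDecomposition M K U) (hU1 : U ≠ ⊥) :
    Group.IsNilpotent (sigmaCore M) := by
  have hUc : Nat.card U ≠ 1 := fun h => hU1 (Subgroup.card_eq_one.mp h)
  obtain ⟨r, hr, hrU⟩ := Nat.exists_prime_and_dvd hUc
  haveI : Fact r.Prime := ⟨hr⟩
  obtain ⟨hrσ, hrκ⟩ := not_mem_of_dvd_card_U hG hM hKU.hall hKU.compl hr hrU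
  have hrM : r ∣ Nat.card M := dvd_trans hrU (Subgroup.card_dvd_of_le hKU.compl.1)
  obtain ⟨S⟩ : Nonempty (Sylow r M) := inferInstance
  have hP1 : ¬ (∀ q : ℕ, q.Prime → q ∣ Nat.card M → q ∉ sigma M → q ∈ kappa M) :=
    fun h => hrκ (h r hr hrM hrσ)
  exact (Cfsg.Agent.S1429.result hG M hM hP1 r hrM
    (by rintro (h | h); exact hrσ h; exact hrκ h) S).2.2

/-- **`U ≠ 1 ⇒ |K|` prime** (BG 14.7(f) / first clause of S1372). -/
theorem card_prime_of_ne_bot (hG : IsMinSimpleOddOrder G) (M : Subgroup G) (hM : IsCoatom M)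
    (K U : Subgroup G) (hKU : IsSigmaDecomposition M K U) (hK1 : K ≠ ⊥) (hU1 : U ≠ ⊥) :
    (Nat.card K).Prime := by
  have hK := hKU.hall
  have hU := hKU.compl
  have hH := Cfsg.Agent.Lib.Helper82.BG134.hallOf hG hM
  have hσM : sigmaCore M ≤ M := Cfsg.Agent.Lib.Helper71.BG11.sigmaCore_le M
  have hMσ : M ≤ Subgroup.normalizer (sigmaCore M : Set G) :=
    Cfsg.Agent.Lib.Helper71.BG11.le_normalizer_sigmaCore M
  have hKM : K ≤ M := hK.1
  have hUM : U ≤ M := hU.1
  have hfree := Cfsg.Agent.S1353.result hG M hM K U hKU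
  have hprime := (Cfsg.Agent.S1430.result hG M hM K hK hK1).1
  -- a subgroup `X ≤ K` of prime order
  have hKc : Nat.card K ≠ 1 := fun h => hK1 (Subgroup.card_eq_one.mp h)
  obtain ⟨p, hp, hpK⟩ := Nat.exists_prime_and_dvd hKc
  haveI : Fact p.Prime := ⟨hp⟩
  obtain ⟨x, hx⟩ := exists_prime_orderOf_dvd_card' p hpK
  have hx1 : (x : G) ≠ 1 := by
    intro h
    have : x = 1 := Subtype.ext h
    rw [this, orderOf_one] at hx
    exact hp.ne_one hx.symm
  by_contra hnp
  set X : Subgroup G := Subgroup.zpowers (x : G) with hX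
  have hXK : X ≤ K := by
    rw [hX, Subgroup.zpowers_le]
    exact x.2
  have hXc : Nat.card X = p := by
    rw [hX, Nat.card_zpowers, Subgroup.orderOf_coe, hx]
  -- the actions
  have hUnK : ∀ e ∈ K, ∀ u ∈ U, e * u * e⁻¹ ∈ U := fun e he u hu =>
    (Subgroup.mem_normalizer_iff.mp (hKU.normal he) u).mp hu
  have hfpfK : ∀ e ∈ K, e ≠ 1 → ∀ u ∈ U, e * u = u * e → u = 1 := by
    intro e he he1 u hu hc
    have : u ∈ U ⊓ Subgroup.centralizer ({e} : Set G) :=
      Subgroup.mem_inf.mpr ⟨hu, by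
        rw [Subgroup.mem_centralizer_iff]
        intro y hy
        rw [Set.mem_singleton_iff] at hy
        subst hy
        exact hc⟩
    rw [hfree e he he1] at this
    exact Subgroup.mem_bot.mp this
  have hnil : Group.IsNilpotent U :=
    Cfsg.Agent.Lib.Helper03.FrobThompson.isNilpotent_of_fpf U K hK1 hUnK hfpfK
  haveI hsM : Group.IsSolvable ↥M := Cfsg.Agent.Lib.Helper55.ms_solvable hG hM.1
  have hsolv : Group.IsSolvable ↥(sigmaCore M) :=
    solvable_of_solvable_injective (Subgroup.inclusion_injective hσM)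
  have hUKM : U ⊔ K ≤ M := sup_le hUM hKM
  have hUXK : U ⊔ X ≤ U ⊔ K := sup_le_sup_left hXK U
  have hHnK : ∀ y ∈ U ⊔ K, ∀ h ∈ sigmaCore M, y * h * y⁻¹ ∈ sigmaCore M := fun y hy h hh =>
    (Subgroup.mem_normalizer_iff.mp (hMσ (hUKM hy)) h).mp hh
  have hcopK : Nat.Coprime (Nat.card (sigmaCore M)) (Nat.card ↥(U ⊔ K)) := by
    have h2 : Nat.card ↥(U ⊔ K) ∣ Nat.card U * Nat.card K :=
      Cfsg.Agent.Lib.Helper29.card_sup_dvd_of_le_normalizer U K hKU.normal
    apply Nat.Coprime.coprime_dvd_right h2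
    apply Cfsg.Agent.Lib.Helper13.BG12.coprime_of_primes_disjoint (π := (sigma M)ᶜ)
    · intro q hq hqd hqc
      exact hqc (hH.2.1 q hq hqd)
    · intro q hq hqd
      rcases (Nat.Prime.dvd_mul hq).mp hqd with h | h
      · exact (not_mem_of_dvd_card_U hG hM hK hU hq h).1
      · exact (hK.2.1 q hq h).2.2.1
  have hcopX : Nat.Coprime (Nat.card (sigmaCore M)) (Nat.card ↥(U ⊔ X)) :=
    Nat.Coprime.coprime_dvd_right (Subgroup.card_dvd_of_le hUXK) hcopK
  have hW1 := Cfsg.Agent.Lib.Helper03.FrobSub.wielandt_sub U K (sigmaCore M) hUnK hfpfK hnil hHnK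
    hsolv hcopK
  have hW2 := Cfsg.Agent.Lib.Helper03.FrobSub.wielandt_sub U X (sigmaCore M)
    (fun e he u hu => hUnK e (hXK he) u hu) (fun e he he1 u hu hc => hfpfK e (hXK he) he1 u hu hc)
    hnil (fun y hy h hh => hHnK y (hUXK hy) h hh) hsolv hcopX
  -- prime action: `C_H(X) = C_H(K)`
  have hCX : sigmaCore M ⊓ Subgroup.centralizer (X : Set G) =
      sigmaCore M ⊓ Subgroup.centralizer (K : Set G) := by
    rw [← hprime (x : G) x.2 hx1]
    apply le_antisymm
    · exact inf_le_inf_left _ (Subgroup.centralizer_le (by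
        rw [Set.singleton_subset_iff]; exact Subgroup.mem_zpowers _))
    · intro y hy
      exact Subgroup.mem_inf.mpr ⟨hy.1, Cfsg.Agent.Lib.Helper13.BG135.mem_centralizer_zpowers hy.2⟩
  have hCUX : sigmaCore M ⊓ Subgroup.centralizer ((U ⊔ X : Subgroup G) : Set G) =
      sigmaCore M ⊓ Subgroup.centralizer ((U ⊔ K : Subgroup G) : Set G) := by
    apply le_antisymm
    · intro y hy
      have hyX : y ∈ sigmaCore M ⊓ Subgroup.centralizer (X : Set G) :=
        Subgroup.mem_inf.mpr ⟨hy.1, Subgroup.centralizer_le (by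
          exact_mod_cast (le_sup_right : X ≤ U ⊔ X)) hy.2⟩
      rw [hCX] at hyX
      have hyU : y ∈ Subgroup.centralizer (U : Set G) :=
        Subgroup.centralizer_le (by exact_mod_cast (le_sup_left : U ≤ U ⊔ X)) hy.2
      refine Subgroup.mem_inf.mpr ⟨hy.1, ?_⟩
      have hle : U ⊔ K ≤ Subgroup.centralizer ({y} : Set G) := by
        apply sup_le
        · intro u hu
          rw [Subgroup.mem_centralizer_iff]
          intro z hz
          rw [Set.mem_singleton_iff] at hz
          subst hz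
          exact ((Subgroup.mem_centralizer_iff.mp hyU) u hu).symm
        · intro u hu
          rw [Subgroup.mem_centralizer_iff]
          intro z hz
          rw [Set.mem_singleton_iff] at hz
          subst hz
          exact ((Subgroup.mem_centralizer_iff.mp hyX.2) u hu).symm
      rw [Subgroup.mem_centralizer_iff]
      intro z hz
      exact ((Subgroup.mem_centralizer_iff.mp (hle hz)) y rfl).symm
    · exact inf_le_inf_left _ (Subgroup.centralizer_le (by exact_mod_cast hUXK))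
  rw [hCX, hCUX, hXc] at hW2
  -- arithmetic
  set c := Nat.card ↥(sigmaCore M ⊓ Subgroup.centralizer ((U ⊔ K : Subgroup G) : Set G)) with hc
  set d := Nat.card ↥(sigmaCore M ⊓ Subgroup.centralizer (K : Set G)) with hd
  set f := Nat.card ↥(sigmaCore M ⊓ Subgroup.centralizer (U : Set G)) with hf
  set h := Nat.card ↥(sigmaCore M) with hh
  set k := Nat.card K with hk
  have hcpos : 0 < c := Nat.card_pos
  have hdpos : 0 < d := Nat.card_pos
  have hfpos : 0 < f := Nat.card_pos
  have hhpos : 0 < h := Nat.card_pos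
  have hpk : p < k := by
    have hle : p ≤ k := Nat.le_of_dvd Nat.card_pos hpK
    rcases lt_or_eq_of_le hle with h1 | h1
    · exact h1
    · exact absurd (h1 ▸ hp) hnp
  -- hW1 : c ^ k * h = d ^ k * f ;  hW2 : c ^ p * h = d ^ p * f
  have hcd : c = d := by
    obtain ⟨m, hm⟩ := Nat.exists_eq_add_of_lt hpk
    have hkm : k = p + (m + 1) := by omega
    have e1 : c ^ k * h * (d ^ p * f) = d ^ k * f * (c ^ p * h) := by rw [hW1, hW2]
    rw [hkm] at e1
    have e1' : c ^ p * c ^ (m + 1) * h * (d ^ p * f) = d ^ p * d ^ (m + 1) * f * (c ^ p * h) := by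
      rw [← pow_add, ← pow_add]; exact e1
    have e2 : c ^ (m + 1) * (c ^ p * d ^ p * h * f) = d ^ (m + 1) * (c ^ p * d ^ p * h * f) := by
      calc c ^ (m + 1) * (c ^ p * d ^ p * h * f)
          = c ^ p * c ^ (m + 1) * h * (d ^ p * f) := by ring
        _ = d ^ p * d ^ (m + 1) * f * (c ^ p * h) := e1'
        _ = d ^ (m + 1) * (c ^ p * d ^ p * h * f) := by ring
    have hpos : 0 < c ^ p * d ^ p * h * f := by positivity
    have e3 : c ^ (m + 1) = d ^ (m + 1) := Nat.eq_of_mul_eq_mul_right hpos e2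
    exact Nat.pow_left_injective (Nat.succ_ne_zero m) e3
  have hhf : h = f := by
    rw [hcd] at hW1
    exact Nat.eq_of_mul_eq_mul_left (by positivity) hW1
  -- so `U` centralizes `M_σ`
  have hcent : sigmaCore M ≤ Subgroup.centralizer (U : Set G) := by
    have hle : sigmaCore M ⊓ Subgroup.centralizer (U : Set G) ≤ sigmaCore M := inf_le_left
    have heq : sigmaCore M ⊓ Subgroup.centralizer (U : Set G) = sigmaCore M :=
      Subgroup.eq_of_le_of_card_ge hle (by rw [← hh, ← hf, hhf])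
    rw [← heq]
    exact inf_le_right
  exact not_sigmaCore_le_centralizer hG hM hK hU hU1 hcent

end Cfsg.Agent.Lib.Helper36.BG14
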