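import Mathlib
import Cfsg.Agent.Lib.Helper36.BG14P2K
import Cfsg.Agent.S1352
import Cfsg.Agent.S1354

/-!
# S1373 from S1366 + S1368 + S1369 (BG 14.7) and `U ≠ 1 ⇒ |K|` prime

`M = K U M_σ`, `K ≠ 1`, `U = 1`: the partner `M*` has `U* ≠ 1` (S1369), `K*` is a cyclic
(S1368) Hall `κ(M*)`-subgroup of `M*`, so it has a standard factorisation (S1352) with `U* ≠ 1`,
and `|K*|` is prime by `card_prime_of_ne_bot` for `M*`.
-/

set_option autoImplicit false

namespace Cfsg.Agent.Lib.Helper36.BG14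

open Cfsg

variable {G : Type*} [Group G] [Finite G]

/-- **S1373** modulo the statements of S1366 (existence), S1368 (cyclic), S1369 (first clause),
each for the given `M`, `K`, `U`. -/
theorem s1373_of (hG : IsMinSimpleOddOrder G) (M : Subgroup G) (hM : IsCoatom M)
    (K U : Subgroup G) (hKU : IsSigmaDecomposition M K U) (hK1 : K ≠ ⊥) (hU : U = ⊥)
    (h66 : ∃ Mstar : Subgroup G, IsCoatom Mstar ∧
      K = sigmaCore Mstar ⊓ Subgroup.centralizer
        ((sigmaCore M ⊓ Subgroup.centralizer (K : Set G)) : Set G) ∧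
      IsPiHallOf (kappa Mstar) (sigmaCore M ⊓ Subgroup.centralizer (K : Set G)) Mstar)
    (h68 : ∀ Mstar : Subgroup G, IsCoatom Mstar →
      K = sigmaCore Mstar ⊓ Subgroup.centralizer
        ((sigmaCore M ⊓ Subgroup.centralizer (K : Set G)) : Set G) →
      IsPiHallOf (kappa Mstar) (sigmaCore M ⊓ Subgroup.centralizer (K : Set G)) Mstar →
      IsCyclic ↥(K ⊔ (sigmaCore M ⊓ Subgroup.centralizer (K : Set G))))
    (h69 : ∀ Mstar : Subgroup G, IsCoatom Mstar →
      K = sigmaCore Mstar ⊓ Subgroup.centralizer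
        ((sigmaCore M ⊓ Subgroup.centralizer (K : Set G)) : Set G) →
      IsPiHallOf (kappa Mstar) (sigmaCore M ⊓ Subgroup.centralizer (K : Set G)) Mstar →
      (U ≠ ⊥ ∨ ∀ Ustar : Subgroup G,
        IsSigmaDecomposition Mstar (sigmaCore M ⊓ Subgroup.centralizer (K : Set G)) Ustar →
          Ustar ≠ ⊥)) :
    (Nat.card ↥(sigmaCore M ⊓ Subgroup.centralizer (K : Set G))).Prime := by
  obtain ⟨Mstar, hMstar, hKst, hKstH⟩ := h66
  have hcyc := h68 Mstar hMstar hKst hKstH
  have hKsc : IsCyclic ↥(sigmaCore M ⊓ Subgroup.centralizer (K : Set G)) := by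
    haveI := hcyc
    have hle : sigmaCore M ⊓ Subgroup.centralizer (K : Set G) ≤
        K ⊔ (sigmaCore M ⊓ Subgroup.centralizer (K : Set G)) := le_sup_right
    exact isCyclic_of_injective (Subgroup.inclusion hle) (Subgroup.inclusion_injective hle)
  have hKs1 : sigmaCore M ⊓ Subgroup.centralizer (K : Set G) ≠ ⊥ :=
    (Cfsg.Agent.S1354.result hG M hM K hKU.cyclic hKU.hall).1
  obtain ⟨Ustar, hdec⟩ := (Cfsg.Agent.S1352.result hG Mstar hMstar _ hKsc hKstH).1
  have hUs1 : Ustar ≠ ⊥ := by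
    rcases h69 Mstar hMstar hKst hKstH with h | h
    · exact absurd hU h
    · exact h Ustar hdec
  exact card_prime_of_ne_bot hG Mstar hMstar _ Ustar hdec hKs1 hUs1

end Cfsg.Agent.Lib.Helper36.BG14
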