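import Mathlib
import Cfsg.Agent.Lib.Helper16.BG1363Defs
import Cfsg.Agent.Lib.Helper55.Basic
import Cfsg.Agent.Lib.Helper71.BG11a
import Cfsg.Agent.Lib.Helper13.BG127
import Cfsg.Agent.Lib.Helper14.NilpHall
import Cfsg.Agent.S1361

/-!
# Pack K-1363 (S1363), keystone 136306 K-1363-F `NU.inf_sigma_bot`: `H_σ ⊓ M_σ = ⊥`
(parallel hand by helper36; spec `notes/S1363_keystones.lean.txt`).
-/

set_option autoImplicit false

namespace Cfsg.Agent.Lib.Helper36.BG1363

open Cfsg Subgroup Cfsg.Agent.Lib.Helper55 Cfsg.Agent.Lib.Helper11.BG14D Cfsg.Agent.Lib.Helper16.BG1363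

variable {G : Type*} [Group G] [Finite G]

/-- KEYSTONE 136306  K-1363-F: `H_σ ⊓ M_σ = ⊥`. -/
theorem NU.inf_sigma_bot (hG : IsMinSimpleOddOrder G) {M K U R H : Subgroup G} {r : ℕ} (c : NU M K U R H r)
    (hrM : r ∉ sigma M) (hUKH : U ⊔ K ≤ H) (hnc : ∀ g : G, H ≠ M.map (MulAut.conj g).toMonoidHom)
    (hnil : Group.IsNilpotent (sigmaCore H))
    (hcent : ∀ u ∈ U, (orderOf u).Coprime (Nat.card (sigmaCore H)) → u ∈ centralizer (sigmaCore H : Set G)) :
    sigmaCore H ⊓ sigmaCore M = ⊥ := by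
  classical
  by_contra hne
  obtain ⟨⟨x, hxmem⟩, hx1⟩ := (Subgroup.ne_bot_iff_exists_ne_one).mp hne
  have hx1' : x ≠ 1 := fun h => hx1 (Subtype.ext h)
  have hxH : x ∈ sigmaCore H := hxmem.1
  have hxM : x ∈ sigmaCore M := hxmem.2
  haveI : Fact r.Prime := ⟨c.hr⟩
  -- the order of `x` is prime to `r`
  have hxr : (orderOf x).Coprime r := by
    rw [Nat.coprime_comm, Nat.Prime.coprime_iff_not_dvd c.hr]
    intro hdvd
    have h1 : orderOf x ∣ Nat.card (sigmaCore M) := by
      have := orderOf_dvd_natCard (⟨x, hxM⟩ : sigmaCore M)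
      rwa [Subgroup.orderOf_mk] at this
    exact hrM (Cfsg.Agent.Lib.Helper71.BG11.sigmaCore_pi hG c.hM c.hr (hdvd.trans h1))
  -- `x` commutes with every element of `R`
  have hcomm : ∀ y ∈ R, y * x = x * y := by
    intro y hy
    have hyU : y ∈ U := c.hRU hy
    obtain ⟨n, hn⟩ := (IsPGroup.iff_orderOf.mp c.hRp) ⟨y, hy⟩
    have hyo : orderOf y = r ^ n := by
      have : orderOf (⟨y, hy⟩ : R) = orderOf y := Subgroup.orderOf_mk y hy
      rw [← this]; exact hn
    by_cases hrH : r ∣ Nat.card (sigmaCore H)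
    · -- `r ∈ σ(H)`, `R ≤ H_σ`, coprime orders in a nilpotent group
      have hrσ : r ∈ sigma H := Cfsg.Agent.Lib.Helper71.BG11.sigmaCore_pi hG c.hH c.hr hrH
      have hRH : R ≤ H := c.hRU.trans (le_sup_left.trans hUKH)
      have hRσ : R ≤ sigmaCore H :=
        Cfsg.Agent.Lib.Helper13.BG127.pgroup_le_sigmaCore hG c.hH hrσ hRH c.hRp
      haveI := hnil
      have hcop : (orderOf (⟨y, hRσ hy⟩ : sigmaCore H)).Coprime (orderOf (⟨x, hxH⟩ : sigmaCore H)) := by
        rw [Subgroup.orderOf_mk, Subgroup.orderOf_mk, hyo]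
        exact Nat.Coprime.pow_left n hxr.symm
      have := Cfsg.Agent.Lib.Helper14.commute_of_coprime_orderOf (sigmaCore H) _ _ hcop
      have h2 := congrArg Subtype.val this.eq
      simpa using h2
    · have hcop : (orderOf y).Coprime (Nat.card (sigmaCore H)) := by
        rw [hyo]
        exact Nat.Coprime.pow_left n ((Nat.Prime.coprime_iff_not_dvd c.hr).mpr hrH)
      have := hcent y hyU hcop
      rw [Subgroup.mem_centralizer_iff] at this
      exact (this x hxH).symm
  -- so `M_σ ⊓ C_G(R) ≠ ⊥`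
  have hXc : sigmaCore M ⊓ centralizer (R : Set G) ≠ ⊥ := by
    intro hbot
    have : x ∈ sigmaCore M ⊓ centralizer (R : Set G) := by
      refine ⟨hxM, ?_⟩
      show x ∈ centralizer (R : Set G)
      rw [Subgroup.mem_centralizer_iff]
      intro y hy
      exact hcomm y hy
    rw [hbot, Subgroup.mem_bot] at this
    exact hx1' this
  have h61 := Cfsg.Agent.S1361.result hG M c.hM K U c.hKU R c.hRU c.hR1 hXc
  have hCH : centralizer (R : Set G) ≤ H :=
    (Subgroup.centralizer_le_normalizer (R : Set G)).trans c.hNH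
  have hHM : H = M := h61.2 H c.hH hCH
  refine hnc 1 ?_
  rw [hHM]
  ext z
  simp
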