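import Mathlib
import Cfsg.Agent.Lib.Helper16.BG1363Defs
import Cfsg.Agent.Lib.Helper55.Basic
import Cfsg.Agent.Lib.Helper55.Uniq2
import Cfsg.Agent.Lib.Helper71.BG11a
import Cfsg.Agent.Lib.Helper90.BG14DW1
import Cfsg.Agent.Lib.Helper31.BenderFit
import Cfsg.Agent.Lib.Helper31.FitUniq
import Cfsg.Agent.Lib.Helper31.Transitivity
import Cfsg.Agent.Lib.Helper54.Conj
import Cfsg.Agent.S1430
import Cfsg.Agent.S1439

/-!
# Pack K-1363 (S1363), keystone 136309 K-1363-I `NU.normal_of_le`: if `H_σ ≤ U` then `H` normalizes `U`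
(parallel hand by helper36; spec `notes/S1363_keystones.lean.txt`).
-/

set_option autoImplicit false

namespace Cfsg.Agent.Lib.Helper36.BG1363

open Cfsg Subgroup Cfsg.Agent.Lib.Helper55 Cfsg.Agent.Lib.Helper11.BG14D Cfsg.Agent.Lib.Helper16.BG1363

variable {G : Type*} [Group G] [Finite G]

/-- In an abelian group `U` normalized by `k` with `C_U(k) = 1`, every element of `U` is a commutator
`k u' k⁻¹ u'⁻¹` with `u' ∈ U`. -/
theorem exists_comm_eq {U : Subgroup G} {k : G} (hkU : ∀ u ∈ U, k * u * k⁻¹ ∈ U)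
    (hfree : U ⊓ centralizer ({k} : Set G) = ⊥) :
    ∀ u ∈ U, ∃ u' ∈ U, u = k * u' * k⁻¹ * u'⁻¹ := by
  classical
  let f : U → U := fun a => ⟨k * a.1 * k⁻¹ * a.1⁻¹, U.mul_mem (hkU a.1 a.2) (U.inv_mem a.2)⟩
  have hinj : Function.Injective f := by
    intro a b hab
    have h1 : k * a.1 * k⁻¹ * a.1⁻¹ = k * b.1 * k⁻¹ * b.1⁻¹ := congrArg Subtype.val hab
    -- d := b⁻¹ a is centralized by k
    have hd : b.1⁻¹ * a.1 ∈ U ⊓ centralizer ({k} : Set G) := by
      refine ⟨U.mul_mem (U.inv_mem b.2) a.2, ?_⟩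
      show b.1⁻¹ * a.1 ∈ centralizer ({k} : Set G)
      rw [Subgroup.mem_centralizer_iff]
      intro h hh
      rw [Set.mem_singleton_iff] at hh
      subst hh
      -- from h1: k a k⁻¹ = k b k⁻¹ b⁻¹ a
      have h2 : h * a.1 * h⁻¹ = h * b.1 * h⁻¹ * b.1⁻¹ * a.1 := by
        have := congrArg (· * a.1) h1
        simpa [mul_assoc] using this
      -- k (b⁻¹ a) k⁻¹ = b⁻¹ a
      have h3 : h * (b.1⁻¹ * a.1) * h⁻¹ = b.1⁻¹ * a.1 := by
        have : h * (b.1⁻¹ * a.1) * h⁻¹ = (h * b.1 * h⁻¹)⁻¹ * (h * a.1 * h⁻¹) := by group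
        rw [this, h2]; group
      have : h * (b.1⁻¹ * a.1) = (b.1⁻¹ * a.1) * h := by
        have := congrArg (· * h) h3
        simpa [mul_assoc] using this
      exact this
    rw [hfree, Subgroup.mem_bot] at hd
    have : a.1 = b.1 := by
      have := congrArg (b.1 * ·) hd
      simpa [mul_assoc] using this
    exact Subtype.ext this
  have hsurj : Function.Surjective f := Finite.surjective_of_injective hinj
  intro u hu
  obtain ⟨a, ha⟩ := hsurj ⟨u, hu⟩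
  exact ⟨a.1, a.2, (congrArg Subtype.val ha).symm⟩

/-- If `a y₀ a⁻¹` and `b y₀ b⁻¹` are powers of `y₀`, then `a⁻¹ b⁻¹ a b` commutes with `y₀`. -/
theorem comm_commutes {a b y₀ : G} {m n : ℤ} (ha : a * y₀ * a⁻¹ = y₀ ^ m) (hb : b * y₀ * b⁻¹ = y₀ ^ n) :
    (a⁻¹ * b⁻¹ * a * b) * y₀ = y₀ * (a⁻¹ * b⁻¹ * a * b) := by
  have h1 : (a * b) * y₀ * (a * b)⁻¹ = y₀ ^ (m * n) := by
    have : (a * b) * y₀ * (a * b)⁻¹ = a * (b * y₀ * b⁻¹) * a⁻¹ := by group
    rw [this, hb, ← conj_zpow, ha, ← zpow_mul]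
  have h2 : (b * a) * y₀ * (b * a)⁻¹ = y₀ ^ (m * n) := by
    have : (b * a) * y₀ * (b * a)⁻¹ = b * (a * y₀ * a⁻¹) * b⁻¹ := by group
    rw [this, ha, ← conj_zpow, hb, ← zpow_mul, mul_comm]
  have h3 : (a * b) * y₀ * (a * b)⁻¹ = (b * a) * y₀ * (b * a)⁻¹ := by rw [h1, h2]
  have h4 : (b * a)⁻¹ * ((a * b) * y₀ * (a * b)⁻¹) * (b * a) = y₀ := by
    rw [h3]; group
  have h5 : a⁻¹ * b⁻¹ * a * b * y₀ = ((b * a)⁻¹ * ((a * b) * y₀ * (a * b)⁻¹) * (b * a)) * (a⁻¹ * b⁻¹ * a * b) := by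
    group
  rw [h5, h4]

/-- KEYSTONE 136309  K-1363-I: if `H_σ ≤ U` then `H` normalizes `U`. -/
theorem NU.normal_of_le (hG : IsMinSimpleOddOrder G) {M K U R H : Subgroup G} {r : ℕ} (c : NU M K U R H r)
    (hUKH : U ⊔ K ≤ H) (hle : sigmaCore H ≤ U) :
    H ≤ normalizer (U : Set G) := by
  classical
  have h30 : H1430 G := fun M hM K hK hK1 => Cfsg.Agent.S1430.result hG M hM K hK hK1
  obtain ⟨hab, hfree⟩ := Cfsg.Agent.Lib.Helper90.BG14D.free_action hG h30 M c.hM K U c.hKU c.hK1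
  have hUc : ∀ a ∈ U, ∀ b ∈ U, a * b = b * a := by
    intro a ha b hb
    have := hab.is_comm.comm (⟨a, ha⟩ : U) ⟨b, hb⟩
    exact congrArg Subtype.val this
  have hUH : U ≤ H := le_sup_left.trans hUKH
  have hKH : K ≤ H := le_sup_right.trans hUKH
  -- a non-identity element of K
  obtain ⟨⟨k, hkK⟩, hk1⟩ := (Subgroup.ne_bot_iff_exists_ne_one).mp c.hK1
  have hk1' : k ≠ 1 := fun h => hk1 (Subtype.ext h)
  have hkU : ∀ u ∈ U, k * u * k⁻¹ ∈ U := by
    intro u hu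
    have := c.hKU.normal hkK
    rw [Subgroup.mem_normalizer_iff] at this
    exact (this u).mp hu
  have hcommform := exists_comm_eq hkU (hfree k hkK hk1')
  -- the subgroup Y
  set π : Set ℕ := {q | q.Prime ∧ q ∉ sigma H} with hπ
  set F : Subgroup G := fittingOf H with hF
  set Y : Subgroup G := piCoreOf π F with hY
  obtain ⟨hYc, _, hFeq⟩ := Cfsg.Agent.S1439.result hG H c.hH
  have hFH : F ≤ H := Cfsg.Agent.Lib.Helper31.BenderFit.fittingOf_le' H
  have hYF : Y ≤ F := Cfsg.Agent.Lib.Helper31.piCoreOf_le π F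
  have hYH : Y ≤ H := hYF.trans hFH
  have hHY : H ≤ normalizer (Y : Set G) :=
    (Cfsg.Agent.Lib.Helper31.BenderFit.le_normalizer_fittingOf H).trans
      (Cfsg.Agent.Lib.Helper31.BenderFit.normalizer_le_normalizer_piCoreOf π F)
  -- a generator of Y
  obtain ⟨⟨y₀, hy₀Y⟩, hgen⟩ := hYc.exists_generator
  have hgen' : ∀ y ∈ Y, ∃ j : ℤ, y = y₀ ^ j := by
    intro y hy
    obtain ⟨j, hj⟩ := Subgroup.mem_zpowers_iff.mp (hgen ⟨y, hy⟩)
    refine ⟨j, ?_⟩
    have := congrArg Subtype.val hj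
    simpa using this.symm
  have hact : ∀ h ∈ H, ∃ m : ℤ, h * y₀ * h⁻¹ = y₀ ^ m := by
    intro h hh
    have := hHY hh
    rw [Subgroup.mem_normalizer_iff] at this
    exact hgen' _ ((this y₀).mp hy₀Y)
  -- conjugation by h ∈ H maps y ∈ Y to a power of y
  have hactY : ∀ h ∈ H, ∀ y ∈ Y, ∃ m : ℤ, h * y * h⁻¹ = y ^ m := by
    intro h hh y hy
    obtain ⟨j, rfl⟩ := hgen' y hy
    obtain ⟨m, hm⟩ := hact h hh
    refine ⟨m, ?_⟩
    rw [← conj_zpow, hm, ← zpow_mul, ← zpow_mul, mul_comm]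
  -- U centralizes Y
  have hUY : ∀ u ∈ U, ∀ y ∈ Y, u * y = y * u := by
    intro u hu y hy
    obtain ⟨u', hu', rfl⟩ := hcommform u hu
    obtain ⟨j, rfl⟩ := hgen' y hy
    obtain ⟨m, hm⟩ := hact k⁻¹ (H.inv_mem (hKH hkK))
    obtain ⟨n, hn⟩ := hact u'⁻¹ (H.inv_mem (hUH hu'))
    have h1 := comm_commutes hm hn
    simp only [inv_inv] at h1
    -- `k u' k⁻¹ u'⁻¹` commutes with `y₀`, hence with its powers
    have h2 : Commute (k * u' * k⁻¹ * u'⁻¹) y₀ := h1
    exact (h2.zpow_right j).eq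
  -- U centralizes F
  have hA : fittingOf (sigmaCore H) ≤ sigmaCore H :=
    Cfsg.Agent.Lib.Helper31.BenderFit.fittingOf_le' (sigmaCore H)
  have hFcent : F ≤ centralizer (U : Set G) := by
    rw [hF, hFeq]
    refine sup_le ?_ ?_
    · intro a ha
      rw [Subgroup.mem_centralizer_iff]
      intro u hu
      exact hUc u hu a (hle (hA ha))
    · intro y hy
      rw [Subgroup.mem_centralizer_iff]
      intro u hu
      exact hUY u hu y hy
  have hUF : U ≤ F := by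
    have hs : Group.IsSolvable ↥H := Cfsg.Agent.Lib.Helper55.ms_solvable hG c.hH.1
    refine le_trans ?_ (Cfsg.Agent.Lib.Helper31.FitUniq.inf_centralizer_fittingOf_le H hs)
    refine le_inf hUH ?_
    exact (Subgroup.le_centralizer_iff).mp hFcent
  -- decomposition of the elements of U
  have hAY : fittingOf (sigmaCore H) ≤ normalizer (Y : Set G) :=
    (hA.trans (Cfsg.Agent.Lib.Helper71.BG11.sigmaCore_le H)).trans hHY
  -- conjugation
  have hconj : ∀ h ∈ H, ∀ u ∈ U, h * u * h⁻¹ ∈ U := by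
    intro h hh u hu
    have huF : u ∈ Y ⊔ fittingOf (sigmaCore H) := by
      have := hUF hu
      rwa [hF, hFeq, sup_comm] at this
    obtain ⟨y, hy, a, ha, rfl⟩ :=
      Cfsg.Agent.Lib.Helper54.exists_mul_of_mem_sup_of_le_normalizer hAY huF
    have haσ : a ∈ sigmaCore H := hA ha
    have haU : a ∈ U := hle haσ
    have hyU : y ∈ U := by
      have : y = (y * a) * a⁻¹ := by group
      rw [this]
      exact U.mul_mem hu (U.inv_mem haU)
    have h1 : h * a * h⁻¹ ∈ U := by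
      have := Cfsg.Agent.Lib.Helper71.BG11.le_normalizer_sigmaCore H hh
      rw [Subgroup.mem_normalizer_iff] at this
      exact hle ((this a).mp haσ)
    have h2 : h * y * h⁻¹ ∈ U := by
      obtain ⟨m, hm⟩ := hactY h hh y hy
      rw [hm]
      exact U.zpow_mem hyU m
    have : h * (y * a) * h⁻¹ = (h * y * h⁻¹) * (h * a * h⁻¹) := by group
    rw [this]
    exact U.mul_mem h2 h1
  intro h hh
  rw [Subgroup.mem_normalizer_iff]
  intro u
  constructor
  · intro hu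
    exact hconj h hh u hu
  · intro hu
    have := hconj h⁻¹ (H.inv_mem hh) _ hu
    have h2 : h⁻¹ * (h * u * h⁻¹) * h⁻¹⁻¹ = u := by group
    rwa [h2] at this

end Cfsg.Agent.Lib.Helper36.BG1363
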