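import Mathlib
import Cfsg.Agent.Lib.Helper73.RUDefs

/-!
# Pack K-RU (S2280), leaf G (keystone 228007): columns and rows of `cMat δ`, and `phi δ * cMat δ = e_last`.
-/

set_option autoImplicit false

namespace Cfsg.Agent.Lib.Helper36.RU

open Matrix Cfsg.Agent.Lib.Helper73.RU

theorem cMat_mulVec_single (m : ℕ) (F : Type*) [Field F] (δ : F) (j : Fin (m + 3))
    (hj : j.val + 1 < m + 3) :
    cMat m F δ *ᵥ (Pi.single j 1 : Fin (m + 3) → F) =
      Pi.single j 1 + cMu m F δ j • Pi.single ⟨j.val + 1, hj⟩ 1 := by
  rw [Matrix.mulVec_single_one]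
  ext i
  simp only [Matrix.col_apply, cMat, Matrix.of_apply, cMu, Pi.add_apply, Pi.smul_apply,
    Pi.single_apply, smul_eq_mul, Fin.ext_iff, Fin.val_last]
  by_cases h1 : i.val = j.val
  · have h2 : ¬ i.val = j.val + 1 := by omega
    rw [if_pos h1, if_pos h1, if_neg h2]
    simp
  · rw [if_neg h1, if_neg h1]
    by_cases h2 : i.val = j.val + 1
    · rw [if_pos h2, if_pos h2]
      by_cases h3 : i.val = m + 2
      · have h4 : j.val + 2 = m + 3 := by omega
        rw [if_pos h3, if_pos h4]
        simp
      · have h4 : ¬ j.val + 2 = m + 3 := by omega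
        rw [if_neg h3, if_neg h4]
        simp
    · rw [if_neg h2, if_neg h2]
      simp

theorem single_vecMul_cMat (m : ℕ) (F : Type*) [Field F] (δ : F) (j : Fin (m + 3))
    (hj : j.val + 1 < m + 3) :
    (Pi.single ⟨j.val + 1, hj⟩ 1 : Fin (m + 3) → F) ᵥ* cMat m F δ =
      Pi.single ⟨j.val + 1, hj⟩ 1 + cMu m F δ j • Pi.single j 1 := by
  rw [Matrix.single_one_vecMul]
  ext i
  simp only [Matrix.row_apply, cMat, Matrix.of_apply, cMu, Pi.add_apply, Pi.smul_apply,
    Pi.single_apply, smul_eq_mul, Fin.ext_iff, Fin.val_last]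
  by_cases h1 : i.val = j.val + 1
  · have h2 : ¬ i.val = j.val := by omega
    have h3 : j.val + 1 = i.val := h1.symm
    rw [if_pos h3, if_pos h1, if_neg h2]
    simp
  · have h0 : ¬ j.val + 1 = i.val := fun h => h1 h.symm
    rw [if_neg h0, if_neg h1]
    by_cases h2 : i.val = j.val
    · have h5 : j.val + 1 = i.val + 1 := by omega
      rw [if_pos h5, if_pos h2]
      by_cases h3 : j.val + 1 = m + 2
      · have h4 : j.val + 2 = m + 3 := by omega
        rw [if_pos h3, if_pos h4]
        simp
      · have h4 : ¬ j.val + 2 = m + 3 := by omega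
        rw [if_neg h3, if_neg h4]
        simp
    · have h5 : ¬ j.val + 1 = i.val + 1 := by omega
      rw [if_neg h5, if_neg h2]
      simp

/-- `(φ c)_j = φ_j + φ_(j+1) c_(j+1,j)`: `j = last`: `1`; `j + 1 = last`: `-δ + δ`; else
`(-1)^k δ + (-1)^(k-1) δ`. -/
theorem phi_vecMul_cMat (m : ℕ) (F : Type*) [Field F] (δ : F) :
    phi m F δ ᵥ* cMat m F δ = Pi.single (Fin.last (m + 2)) 1 := by
  ext j
  rw [Matrix.vecMul, dotProduct]
  by_cases hj : j.val + 1 < m + 3
  · -- two nonzero terms: i = j and i = j+1
    have hne : j ≠ (⟨j.val + 1, hj⟩ : Fin (m + 3)) := by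
      intro h
      have := congrArg Fin.val h
      simp at this
    rw [Finset.sum_eq_add_of_mem j ⟨j.val + 1, hj⟩ (Finset.mem_univ _) (Finset.mem_univ _) hne]
    · have hjl : j ≠ Fin.last (m + 2) := by
        intro h
        have := congrArg Fin.val h
        simp at this
        omega
      have e1 : cMat m F δ j j = 1 := by simp [cMat]
      rw [e1, mul_one, Pi.single_apply, if_neg hjl]
      by_cases h3 : j.val + 1 = m + 2
      · have ha : ¬ (⟨j.val + 1, hj⟩ : Fin (m + 3)) = j := fun h => hne h.symm
        have hb : (⟨j.val + 1, hj⟩ : Fin (m + 3)) = Fin.last (m + 2) := Fin.ext h3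
        have hc : (⟨j.val + 1, hj⟩ : Fin (m + 3)).val = j.val + 1 := rfl
        have e2 : cMat m F δ ⟨j.val + 1, hj⟩ j = δ := by
          simp only [cMat, Matrix.of_apply]
          rw [if_neg ha, if_pos trivial, if_pos hb]
        have e3 : phi m F δ ⟨j.val + 1, hj⟩ = 1 := by
          simp only [phi]
          rw [if_pos hb]
        have e4 : phi m F δ j = -δ := by
          have h5 : m + 2 - j.val = 1 := by omega
          simp [phi, Fin.ext_iff, h5]
          omega
        rw [e2, e3, e4]; ring
      · have hlt : j.val + 1 < m + 2 := by omega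
        have ha : ¬ (⟨j.val + 1, hj⟩ : Fin (m + 3)) = j := fun h => hne h.symm
        have hb : ¬ (⟨j.val + 1, hj⟩ : Fin (m + 3)) = Fin.last (m + 2) := by
          intro h
          exact h3 (congrArg Fin.val h)
        have hc : (⟨j.val + 1, hj⟩ : Fin (m + 3)).val = j.val + 1 := rfl
        have e2 : cMat m F δ ⟨j.val + 1, hj⟩ j = 1 := by
          simp only [cMat, Matrix.of_apply]
          rw [if_neg ha, if_pos trivial, if_neg hb]
        have e3 : phi m F δ ⟨j.val + 1, hj⟩ = (-1) ^ (m + 2 - (j.val + 1)) * δ := by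
          simp only [phi]
          rw [if_neg hb]
        have e4 : phi m F δ j = (-1) ^ (m + 2 - j.val) * δ := by
          have : ¬ j.val = m + 2 := by omega
          simp [phi, Fin.ext_iff, this]
        have h6 : m + 2 - j.val = (m + 2 - (j.val + 1)) + 1 := by omega
        rw [e2, e3, e4, h6, pow_succ]; ring
    · intro i _ hi
      have h1 : ¬ i = j := hi.1
      have h2 : ¬ i.val = j.val + 1 := by
        intro h
        exact hi.2 (Fin.ext h)
      have : cMat m F δ i j = 0 := by
        simp [cMat, h1, h2]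
      rw [this, mul_zero]
  · -- j = last: single nonzero term i = j
    have hjl : j = Fin.last (m + 2) := by
      apply Fin.ext
      have := j.isLt
      simp
      omega
    rw [Finset.sum_eq_single j]
    · have e1 : cMat m F δ j j = 1 := by simp [cMat]
      rw [e1, mul_one, hjl]
      simp [phi]
    · intro i _ hi
      have h2 : ¬ i.val = j.val + 1 := by
        have := i.isLt
        omega
      have : cMat m F δ i j = 0 := by
        simp [cMat, hi, h2]
      rw [this, mul_zero]
    · intro h
      exact absurd (Finset.mem_univ _) h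

end Cfsg.Agent.Lib.Helper36.RU
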