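import Mathlib
import Cfsg.Prelude.Def_SporadicCombinatorics

/-!
# Monomial maps preserving a code

Generic facts on `Cfsg.monomialMap`: composition, inverses, the group of permutation parts of the
monomial automorphisms of a code `C`, and the count
`#monomial automorphisms = #permutation parts * #diagonal automorphisms`.
-/

set_option autoImplicit false

namespace Cfsg.Agent.Lib.Helper36.Mono

open Cfsg

variable {α : Type*} {F : Type*} [Field F]

theorem symm_one_apply (i : α) : (Equiv.symm (1 : Equiv.Perm α)) i = i := rfl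
theorem symm_inv_apply (σ : Equiv.Perm α) (i : α) : (Equiv.symm σ⁻¹) i = σ i := rfl

/-- The monomial map as a linear map. -/
def lin (σ : Equiv.Perm α) (c : α → Fˣ) : (α → F) →ₗ[F] (α → F) where
  toFun := monomialMap σ c
  map_add' x y := by funext i; simp [monomialMap, mul_add]
  map_smul' r x := by funext i; simp [monomialMap, mul_left_comm]

theorem lin_apply (σ : Equiv.Perm α) (c : α → Fˣ) (x : α → F) : lin σ c x = monomialMap σ c x := rfl

/-- `(σ, c)` maps the code into itself. -/
def Pres (C : Submodule F (α → F)) (σ : Equiv.Perm α) (c : α → Fˣ) : Prop :=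
  ∀ x ∈ C, monomialMap σ c x ∈ C

theorem pres_span (S : Set (α → F)) (σ : Equiv.Perm α) (c : α → Fˣ)
    (h : ∀ s ∈ S, monomialMap σ c s ∈ Submodule.span F S) : Pres (Submodule.span F S) σ c := by
  intro x hx
  have h1 : Submodule.span F S ≤ (Submodule.span F S).comap (lin σ c) :=
    Submodule.span_le.mpr h
  exact h1 hx

/-- The diagonal part of a product of monomial maps. -/
def cmul (σ : Equiv.Perm α) (c d : α → Fˣ) : α → Fˣ := fun i => c i * d (σ.symm i)

theorem monomialMap_comp (σ τ : Equiv.Perm α) (c d : α → Fˣ) (x : α → F) :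
    monomialMap σ c (monomialMap τ d x) = monomialMap (σ * τ) (cmul σ c d) x := by
  funext i
  simp [monomialMap, cmul, mul_assoc, Equiv.Perm.mul_def]

theorem Pres.mul {C : Submodule F (α → F)} {σ τ : Equiv.Perm α} {c d : α → Fˣ}
    (h1 : Pres C σ c) (h2 : Pres C τ d) : Pres C (σ * τ) (cmul σ c d) := by
  intro x hx
  rw [← monomialMap_comp]
  exact h1 _ (h2 _ hx)

theorem monomialMap_one (x : α → F) : monomialMap (1 : Equiv.Perm α) (fun _ => (1 : Fˣ)) x = x := by
  funext i
  simp [monomialMap, symm_one_apply]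

theorem pres_one (C : Submodule F (α → F)) : Pres C 1 (fun _ => 1) := by
  intro x hx
  rw [monomialMap_one]
  exact hx

/-- The diagonal part of the inverse of a monomial map. -/
def cinv (σ : Equiv.Perm α) (c : α → Fˣ) : α → Fˣ := fun i => (c (σ i))⁻¹

theorem monomialMap_inv_left (σ : Equiv.Perm α) (c : α → Fˣ) (x : α → F) :
    monomialMap σ⁻¹ (cinv σ c) (monomialMap σ c x) = x := by
  funext i
  simp [monomialMap, cinv, symm_inv_apply]

theorem monomialMap_inv_right (σ : Equiv.Perm α) (c : α → Fˣ) (x : α → F) :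
    monomialMap σ c (monomialMap σ⁻¹ (cinv σ c) x) = x := by
  funext i
  simp [monomialMap, cinv, symm_inv_apply]

theorem Pres.inv [Finite F] [Finite α] {C : Submodule F (α → F)} {σ : Equiv.Perm α} {c : α → Fˣ}
    (h : Pres C σ c) : Pres C σ⁻¹ (cinv σ c) := by
  classical
  have hinj : Function.Injective (monomialMap σ c : (α → F) → (α → F)) :=
    Function.LeftInverse.injective (monomialMap_inv_left σ c)
  have hfin : (C : Set (α → F)).Finite := Set.toFinite _
  have hsub : monomialMap σ c '' (C : Set (α → F)) ⊆ C := by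
    rintro _ ⟨x, hx, rfl⟩
    exact h x hx
  have heq : monomialMap σ c '' (C : Set (α → F)) = C := by
    apply Set.eq_of_subset_of_ncard_le hsub _ hfin
    rw [Set.ncard_image_of_injective _ hinj]
  intro y hy
  have hy' : y ∈ monomialMap σ c '' (C : Set (α → F)) := by rw [heq]; exact hy
  obtain ⟨x, hx, rfl⟩ := hy'
  rw [monomialMap_inv_left]
  exact hx

/-- The permutation parts of the monomial automorphisms of `C`. -/
def permPart [Finite F] [Finite α] (C : Submodule F (α → F)) : Subgroup (Equiv.Perm α) where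
  carrier := {σ | ∃ c, Pres C σ c}
  mul_mem' := by
    rintro σ τ ⟨c, hc⟩ ⟨d, hd⟩
    exact ⟨_, hc.mul hd⟩
  one_mem' := ⟨_, pres_one C⟩
  inv_mem' := by
    rintro σ ⟨c, hc⟩
    exact ⟨_, hc.inv⟩

theorem mem_permPart [Finite F] [Finite α] (C : Submodule F (α → F)) (σ : Equiv.Perm α) :
    σ ∈ permPart C ↔ ∃ c, Pres C σ c := Iff.rfl

theorem pres_div [Finite F] [Finite α] {C : Submodule F (α → F)} {σ : Equiv.Perm α}
    {c c0 : α → Fˣ} (h : Pres C σ c) (h0 : Pres C σ c0) : Pres C 1 (fun i => c i / c0 i) := by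
  have h1 := h.mul h0.inv
  intro x hx
  have h2 := h1 x hx
  have e : monomialMap (σ * σ⁻¹) (cmul σ c (cinv σ c0)) x = monomialMap 1 (fun i => c i / c0 i) x := by
    funext i
    simp [monomialMap, cmul, cinv, div_eq_mul_inv, symm_one_apply]
  rw [← e]
  exact h2

theorem pres_mul_diag {C : Submodule F (α → F)} {σ : Equiv.Perm α}
    {d c0 : α → Fˣ} (h : Pres C 1 d) (h0 : Pres C σ c0) : Pres C σ (fun i => d i * c0 i) := by
  have h1 := h.mul h0
  intro x hx
  have h2 := h1 x hx
  have e : monomialMap (1 * σ) (cmul 1 d c0) x = monomialMap σ (fun i => d i * c0 i) x := by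
    funext i
    simp [monomialMap, cmul, symm_one_apply]
  rw [← e]
  exact h2

/-- The number of monomial automorphisms is the number of permutation parts times the number of
diagonal automorphisms. -/
theorem card_mono [Finite F] [Finite α] (C : Submodule F (α → F)) :
    Nat.card {f : Equiv.Perm α × (α → Fˣ) // ∀ x ∈ C, monomialMap f.1 f.2 x ∈ C} =
      Nat.card ↥(permPart C) * Nat.card {d : α → Fˣ // Pres C 1 d} := by
  classical
  rw [← Nat.card_prod]
  apply Nat.card_congr
  let c0 : ↥(permPart C) → (α → Fˣ) := fun σ => Classical.choose σ.2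
  have hc0 : ∀ σ : ↥(permPart C), Pres C σ.1 (c0 σ) := fun σ => Classical.choose_spec σ.2
  refine
    { toFun := fun f => (⟨f.1.1, ⟨f.1.2, f.2⟩⟩,
        ⟨fun i => f.1.2 i / c0 ⟨f.1.1, ⟨f.1.2, f.2⟩⟩ i, pres_div f.2 (hc0 _)⟩)
      invFun := fun p => ⟨(p.1.1, fun i => p.2.1 i * c0 p.1 i), pres_mul_diag p.2.2 (hc0 _)⟩
      left_inv := ?_
      right_inv := ?_ }
  · rintro ⟨⟨σ, c⟩, h⟩
    apply Subtype.ext
    apply Prod.ext
    · rfl
    · funext i
      simp
  · rintro ⟨⟨σ, hσ⟩, ⟨d, hd⟩⟩
    apply Prod.ext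
    · rfl
    · apply Subtype.ext
      funext i
      simp

/-- Orbit-stabiliser for a subgroup of any group acting on a type. -/
theorem card_eq_orbit_mulG {P : Type*} [Group P] {X : Type*} [MulAction P X]
    (K : Subgroup P) (b : X) (T : Set X)
    (h1 : ∀ σ ∈ K, σ • b ∈ T) (h2 : ∀ c ∈ T, ∃ σ ∈ K, σ • b = c) :
    Nat.card K = T.ncard * Nat.card ↥(K ⊓ MulAction.stabilizer P b) := by
  have key : (MulAction.stabilizer P b).subgroupOf K = MulAction.stabilizer K b := by
    ext; rfl
  have horb : MulAction.orbit K b = T := by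
    ext c
    constructor
    · rintro ⟨g, rfl⟩
      exact h1 g.1 g.2
    · intro hc
      obtain ⟨σ, hσ, rfl⟩ := h2 c hc
      exact ⟨⟨σ, hσ⟩, rfl⟩
  have h1' : (MulAction.stabilizer P b).relIndex K = T.ncard := by
    rw [Subgroup.relIndex, key, MulAction.index_stabilizer, horb]
  have h3 := Subgroup.relIndex_mul_relIndex (⊥ : Subgroup P)
    (K ⊓ MulAction.stabilizer P b) K bot_le inf_le_left
  rw [Subgroup.relIndex_bot_left, Subgroup.relIndex_bot_left, Subgroup.inf_relIndex_left, h1'] at h3
  rw [← h3, mul_comm]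

/-- Lower bound for the order from a list of elements moving `b` to distinct places. -/
theorem card_ge_of_list {P : Type*} [Group P] [Finite P] {X : Type*} [MulAction P X]
    (K : Subgroup P) (b : X) (l : List P) (hl : ∀ g ∈ l, g ∈ K)
    (hn : (l.map (fun g => g • b)).Nodup) {m : ℕ}
    (hm : m ≤ Nat.card ↥(K ⊓ MulAction.stabilizer P b)) : l.length * m ≤ Nat.card K := by
  classical
  rw [card_eq_orbit_mulG K b {c | ∃ σ ∈ K, σ • b = c} (fun σ hσ => ⟨σ, hσ, rfl⟩) (fun c hc => hc)]
  apply Nat.mul_le_mul _ hm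
  have hfin : {c | ∃ σ ∈ K, σ • b = c}.Finite := by
    apply Set.Finite.subset (Set.finite_range (fun σ : P => σ • b))
    rintro c ⟨σ, _, rfl⟩
    exact ⟨σ, rfl⟩
  have hsub : ((l.map (fun g => g • b)).toFinset : Set X) ⊆ {c | ∃ σ ∈ K, σ • b = c} := by
    intro c hc
    simp only [Finset.mem_coe, List.mem_toFinset, List.mem_map] at hc
    obtain ⟨g, hg, rfl⟩ := hc
    exact ⟨g, hl g hg, rfl⟩
  have h4 := Set.ncard_le_ncard hsub hfin
  rw [Set.ncard_coe_finset, List.toFinset_card_of_nodup hn, List.length_map] at h4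
  exact h4

end Cfsg.Agent.Lib.Helper36.Mono
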