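import Mathlib
import Cfsg.Prelude.Def_SporadicCombinatorics
import Cfsg.Agent.Lib.Helper36.Monomial

/-!
# A computable field of order four and transfer of the hexacode to it
-/

set_option autoImplicit false

namespace Cfsg.Agent.Lib.Helper36

/-- A field with four elements `0, 1, ω, ω²`. -/
inductive F4 : Type
  | z | o | w | v
  deriving DecidableEq

namespace F4

/-- Addition. -/
def add : F4 → F4 → F4
  | z, x => x
  | x, z => x
  | o, o => z | o, w => v | o, v => w
  | w, o => v | w, w => z | w, v => o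
  | v, o => w | v, w => o | v, v => z

/-- Multiplication. -/
def mul : F4 → F4 → F4
  | z, _ => z
  | _, z => z
  | o, x => x
  | x, o => x
  | w, w => v | w, v => o
  | v, w => o | v, v => w

/-- Inverse. -/
def inv : F4 → F4
  | z => z | o => o | w => v | v => w

instance : Fintype F4 := ⟨{z, o, w, v}, by intro x; cases x <;> decide⟩

instance : Zero F4 := ⟨z⟩
instance : One F4 := ⟨o⟩
instance : Add F4 := ⟨add⟩
instance : Mul F4 := ⟨mul⟩
instance : Neg F4 := ⟨id⟩
instance : Inv F4 := ⟨inv⟩

instance : CommRing F4 where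
  add_assoc := by decide
  zero_add := by decide
  add_zero := by decide
  add_comm := by decide
  neg_add_cancel := by decide
  mul_assoc := by decide
  one_mul := by decide
  mul_one := by decide
  left_distrib := by decide
  right_distrib := by decide
  zero_mul := by decide
  mul_zero := by decide
  mul_comm := by decide
  nsmul := nsmulRec
  zsmul := zsmulRec

instance : Field F4 where
  exists_pair_ne := ⟨z, o, by decide⟩
  mul_inv_cancel := by decide
  inv_zero := rfl
  nnqsmul := _
  nnqsmul_def := fun _ _ => rfl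
  qsmul := _
  qsmul_def := fun _ _ => rfl

theorem card_eq : Fintype.card F4 = 4 := rfl

/-- The Frobenius automorphism. -/
def frobFun : F4 → F4
  | z => z | o => o | w => v | v => w

/-- The Frobenius automorphism as a ring isomorphism. -/
def frob : F4 ≃+* F4 where
  toFun := frobFun
  invFun := frobFun
  left_inv := by decide
  right_inv := by decide
  map_mul' := by decide
  map_add' := by decide

theorem frob_v : frob v = w := rfl

theorem root_cases : ∀ y : F4, y ^ 2 + y + 1 = 0 → y = w ∨ y = v := by decide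

end F4

/-- A field of order four with a root `ω` of `x² + x + 1` is isomorphic to `F4` with `ω ↦ w`. -/
theorem exists_ringEquiv_F4 (F : Type*) [Field F] [Fintype F] (hF : Fintype.card F = 4) (ω : F)
    (hω : ω ^ 2 + ω + 1 = 0) : ∃ e : F ≃+* F4, e ω = F4.w := by
  let e0 : F ≃+* F4 := FiniteField.ringEquivOfCardEq (hF.trans F4.card_eq.symm)
  have h : (e0 ω) ^ 2 + e0 ω + 1 = 0 := by
    have := congrArg e0 hω
    simpa using this
  rcases F4.root_cases _ h with h1 | h1
  · exact ⟨e0, h1⟩
  · refine ⟨e0.trans F4.frob, ?_⟩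
    rw [RingEquiv.trans_apply, h1]
    rfl

section transfer

open Cfsg

variable {F K : Type*} [Field F] [Field K]

/-- First basis word of the hexacode. -/
def hb1 (ω : F) : Fin 6 → F := ![ω, ω ^ 2, ω ^ 2, ω, ω ^ 2, ω]
/-- Second basis word of the hexacode. -/
def hb2 (ω : F) : Fin 6 → F := ![ω ^ 2, ω, ω, ω ^ 2, ω ^ 2, ω]
/-- Third basis word of the hexacode. -/
def hb3 (ω : F) : Fin 6 → F := ![ω ^ 2, ω, ω ^ 2, ω, ω, ω ^ 2]

theorem hexacode_eq (ω : F) : hexacode F ω = Submodule.span F {hb1 ω, hb2 ω, hb3 ω} := rfl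

theorem mem_hexacode_iff (ω : F) (x : Fin 6 → F) :
    x ∈ hexacode F ω ↔ ∃ a b c : F, a • hb1 ω + b • hb2 ω + c • hb3 ω = x := by
  rw [hexacode_eq]
  exact Submodule.mem_span_triple

theorem map_hb1 (e : F ≃+* K) (ω : F) (i : Fin 6) : e (hb1 ω i) = hb1 (e ω) i := by
  fin_cases i <;> simp [hb1]
theorem map_hb2 (e : F ≃+* K) (ω : F) (i : Fin 6) : e (hb2 ω i) = hb2 (e ω) i := by
  fin_cases i <;> simp [hb2]
theorem map_hb3 (e : F ≃+* K) (ω : F) (i : Fin 6) : e (hb3 ω i) = hb3 (e ω) i := by
  fin_cases i <;> simp [hb3]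

theorem hexacode_map (e : F ≃+* K) (ω : F) (x : Fin 6 → F) (hx : x ∈ hexacode F ω) :
    (fun i => e (x i)) ∈ hexacode K (e ω) := by
  rw [mem_hexacode_iff] at hx ⊢
  obtain ⟨a, b, c, rfl⟩ := hx
  refine ⟨e a, e b, e c, ?_⟩
  funext i
  simp [map_hb1, map_hb2, map_hb3]

theorem hexacode_map_iff (e : F ≃+* K) (ω : F) (x : Fin 6 → F) :
    (fun i => e (x i)) ∈ hexacode K (e ω) ↔ x ∈ hexacode F ω := by
  refine ⟨fun h => ?_, hexacode_map e ω x⟩
  have h1 := hexacode_map e.symm (e ω) _ h
  simpa using h1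

/-- Coordinatewise transfer of words. -/
def mapW (e : F ≃+* K) : (Fin 6 → F) ≃ (Fin 6 → K) where
  toFun x := fun i => e (x i)
  invFun y := fun i => e.symm (y i)
  left_inv x := by funext i; simp
  right_inv y := by funext i; simp

theorem mapW_apply (e : F ≃+* K) (x : Fin 6 → F) (i : Fin 6) : mapW e x i = e (x i) := rfl

theorem mapW_mem_iff (e : F ≃+* K) (ω : F) (x : Fin 6 → F) :
    mapW e x ∈ hexacode K (e ω) ↔ x ∈ hexacode F ω := hexacode_map_iff e ω x

theorem weight_mapW [DecidableEq F] [DecidableEq K] (e : F ≃+* K) (x : Fin 6 → F) :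
    (Finset.univ.filter fun i => mapW e x i ≠ 0).card = (Finset.univ.filter fun i => x i ≠ 0).card := by
  congr 1
  ext i
  simp [mapW_apply]

/-- Transfer of the diagonal part. -/
def mapC (e : F ≃+* K) (c : Fin 6 → Fˣ) : Fin 6 → Kˣ := fun i => Units.map (e : F →* K) (c i)

theorem mapC_injective (e : F ≃+* K) : Function.Injective (mapC e) := by
  intro c d h
  funext i
  have := congrFun h i
  apply Units.ext
  have h2 := congrArg Units.val this
  simp only [mapC, Units.coe_map, MonoidHom.coe_coe] at h2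
  exact e.injective h2

theorem mapC_surjective (e : F ≃+* K) : Function.Surjective (mapC e) := by
  intro d
  refine ⟨fun i => Units.map (e.symm : K →* F) (d i), ?_⟩
  funext i
  apply Units.ext
  simp [mapC]

theorem mapW_monomialMap (e : F ≃+* K) (σ : Equiv.Perm (Fin 6)) (c : Fin 6 → Fˣ) (x : Fin 6 → F) :
    mapW e (monomialMap σ c x) = monomialMap σ (mapC e c) (mapW e x) := by
  funext i
  simp [mapW_apply, monomialMap, mapC]

theorem pres_transfer (e : F ≃+* K) (ω : F) (σ : Equiv.Perm (Fin 6)) (c : Fin 6 → Fˣ) :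
    Mono.Pres (hexacode K (e ω)) σ (mapC e c) ↔ Mono.Pres (hexacode F ω) σ c := by
  constructor
  · intro h x hx
    have h1 := h (mapW e x) ((mapW_mem_iff e ω x).mpr hx)
    rw [← mapW_monomialMap] at h1
    exact (mapW_mem_iff e ω _).mp h1
  · intro h y hy
    obtain ⟨x, rfl⟩ := (mapW e).surjective y
    rw [← mapW_monomialMap]
    exact (mapW_mem_iff e ω _).mpr (h x ((mapW_mem_iff e ω x).mp hy))

end transfer

end Cfsg.Agent.Lib.Helper36
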