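import Mathlib
import Cfsg.Agent.Lib.Helper16.BG1363Defs
import Cfsg.Agent.Lib.Helper55.Basic
import Cfsg.Agent.Lib.Helper71.BG11a
import Cfsg.Agent.Lib.Helper78.BG15KPrime
import Cfsg.Agent.Lib.Helper57.BG139K3c
import Cfsg.Agent.Lib.Helper12.CNMaxSub
import Cfsg.Agent.Lib.Helper29.Sup
import Cfsg.Agent.Lib.Helper36.BG14P2K

/-!
# Pack K-1363 (S1363), keystone 136301 K-1363-A `exists_nu`: the configuration `NU` exists
(parallel hand by helper36; spec `notes/S1363_keystones.lean.txt`).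
-/

set_option autoImplicit false

namespace Cfsg.Agent.Lib.Helper36.BG1363A

open Cfsg Subgroup Cfsg.Agent.Lib.Helper55 Cfsg.Agent.Lib.Helper11.BG14D Cfsg.Agent.Lib.Helper16.BG1363

variable {G : Type*} [Group G] [Finite G]

/-- KEYSTONE 136301  K-1363-A. -/
theorem exists_nu (hG : IsMinSimpleOddOrder G) {M K U : Subgroup G} (hM : IsCoatom M)
    (hKU : IsSigmaDecomposition M K U) (hK1 : K ≠ ⊥) (hU1 : U ≠ ⊥) :
    ∃ (r : ℕ) (R H : Subgroup G), NU M K U R H r := by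
  classical
  have hUM : U ≤ M := hKU.compl.1
  -- a prime divisor of |U|
  have hcardU : Nat.card U ≠ 1 := fun h => hU1 (Subgroup.card_eq_one.mp h)
  obtain ⟨r, hr, hrU⟩ := Nat.exists_prime_and_dvd hcardU
  haveI : Fact r.Prime := ⟨hr⟩
  obtain ⟨hrσ, hrκ⟩ :=
    Cfsg.Agent.Lib.Helper36.BG14.not_mem_of_dvd_card_U hG hM hKU.hall hKU.compl hr hrU
  -- r does not divide the index of U in M
  have hidx : ¬ r ∣ U.relIndex M := by
    rw [Cfsg.Agent.Lib.Helper57.BG139.relIndex_eq_card_of_complIn' hKU.compl]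
    intro hd
    have hKn : K ≤ normalizer (sigmaCore M : Set G) :=
      hKU.hall.1.trans (Cfsg.Agent.Lib.Helper71.BG11.le_normalizer_sigmaCore M)
    have hdvd : Nat.card ↥(K ⊔ sigmaCore M) ∣ Nat.card (sigmaCore M) * Nat.card K := by
      rw [sup_comm]
      exact Cfsg.Agent.Lib.Helper29.card_sup_dvd_of_le_normalizer (sigmaCore M) K hKn
    rcases (Nat.Prime.dvd_mul hr).mp (hd.trans hdvd) with h | h
    · exact hrσ (Cfsg.Agent.Lib.Helper71.BG11.sigmaCore_pi hG hM hr h)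
    · exact hrκ (hKU.hall.2.1 r hr h)
  obtain ⟨S, hS⟩ := Cfsg.Agent.Lib.Helper78.BG15.exists_sylow_map_le hUM hidx
  set R : Subgroup G := (S : Subgroup M).map M.subtype with hR
  have hRM : R ≤ M := Subgroup.map_subtype_le _
  have hrM : r ∣ Nat.card M := hrU.trans (Subgroup.card_dvd_of_le hUM)
  have hR1 : R ≠ ⊥ := by
    intro h
    have h1 : (S : Subgroup M) = ⊥ :=
      (Subgroup.map_eq_bot_iff_of_injective _ M.subtype_injective).mp h
    exact S.ne_bot_of_dvd_card hrM h1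
  have hRp : IsPGroup r R := S.isPGroup'.map M.subtype
  have hRsyl : ∀ Q : Subgroup G, Q ≤ M → IsPGroup r Q → R ≤ Q → Q = R := by
    intro Q hQM hQp hRQ
    have h1 : IsPGroup r (Q.subgroupOf M) := hQp.comap_subtype
    have h2 : (S : Subgroup M) ≤ Q.subgroupOf M := by
      intro x hx
      rw [Subgroup.mem_subgroupOf]
      exact hRQ ⟨x, hx, rfl⟩
    have h3 : Q.subgroupOf M = (S : Subgroup M) := S.is_maximal' h1 h2
    rw [hR, ← h3, Subgroup.subgroupOf_map_subtype, inf_eq_left.mpr hQM]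
  have hRtop : R ≠ ⊤ := by
    intro h
    have : (⊤ : Subgroup G) ≤ M := h ▸ hRM
    exact hM.1 (top_le_iff.mp this)
  obtain ⟨H, hH, hNH⟩ := Cfsg.Agent.Lib.Helper12.CNMaxSub.exists_coatom_normalizer_le hG hR1 hRtop
  exact ⟨r, R, H, ⟨hM, hKU, hK1, hU1, hr, hS, hR1, hRp, hRsyl, hH, hNH⟩⟩

end Cfsg.Agent.Lib.Helper36.BG1363A
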