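import Mathlib
import Cfsg.Prelude.Def_GeometricClasses

/-!
# K-SLMax-D2 : an `m`-decomposition into `t` parts of `F^n` has `t * m = n`.
-/

set_option autoImplicit false

namespace Cfsg.Agent.Lib.Helper36.SLMax

open Cfsg Cfsg.Geo
open scoped Matrix MatrixGroups

/-- `finrank` of an internal direct sum of finitely many submodules. -/
theorem finrank_eq_sum_of_indep {K W : Type*} [Field K] [AddCommGroup W] [Module K W]
    [FiniteDimensional K W] {t : ℕ} (D : Fin t → Submodule K W) (hi : iSupIndep D) (ht : iSup D = ⊤) :
    Module.finrank K W = ∑ i, Module.finrank K (D i) := by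
  classical
  have hint : DirectSum.IsInternal D :=
    DirectSum.isInternal_submodule_of_iSupIndep_of_iSup_eq_top hi ht
  have e : (DirectSum (Fin t) fun i => D i) ≃ₗ[K] W :=
    LinearEquiv.ofBijective (DirectSum.coeLinearMap D) hint
  rw [← e.finrank_eq, Module.finrank_directSum]

variable {F : Type*} [Field F] [Fintype F] {n : ℕ}

/-- K-SLMax-D2. -/
theorem mul_eq_of_isMDecomposition {t m : ℕ} (D : Fin t → Submodule F (Fin n → F))
    (hD : IsMDecomposition m D) : t * m = n := by
  have h := finrank_eq_sum_of_indep D hD.indep hD.iSup_eq_top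
  rw [Module.finrank_fin_fun] at h
  rw [h]
  simp [hD.finrank_eq]

end Cfsg.Agent.Lib.Helper36.SLMax
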