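import Cfsg.Agent.Lib.Helper36.Idx253c

set_option autoImplicit false

/-! Orders of the stabilisers of a duad / an octad inside a point stabiliser of the group of the
length-24 code. -/

namespace Cfsg.Agent.Lib.Helper36.Idx253

open Cfsg Cfsg.Agent.Lib.Helper10 Cfsg.Agent.Lib.Helper92 Cfsg.Agent.Lib.Helper36.L23
open Cfsg.Agent.Lib.Helper36.Mono Cfsg.Agent.Lib.Helper95 Cfsg.Agent.Lib.Helper09
open scoped Pointwise

theorem duad_trans (x : GolayPt) (s s' : Finset GolayPt) (hs : s.card = 2) (hx : x ∉ s)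
    (hs' : s'.card = 2) (hx' : x ∉ s') : ∃ σ ∈ M24, σ x = x ∧ σ • s = s' := by
  obtain ⟨a, b, hab, rfl⟩ := Finset.card_eq_two.mp hs
  obtain ⟨a', b', hab', rfl⟩ := Finset.card_eq_two.mp hs'
  simp only [Finset.mem_insert, Finset.mem_singleton, not_or] at hx hx'
  obtain ⟨σ1, h1, h1f, h1a⟩ := fix_move {x} (by simp) a a' (by simpa using Ne.symm hx.1)
    (by simpa using Ne.symm hx'.1)
  have h1x : σ1 x = x := h1f x (by simp)
  have hb1 : σ1 b ∉ ({x, a'} : Finset GolayPt) := by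
    simp only [Finset.mem_insert, Finset.mem_singleton, not_or]
    constructor
    · intro h
      rw [← h1x] at h
      exact hx.2 (σ1.injective h).symm
    · intro h
      rw [← h1a] at h
      exact hab (σ1.injective h).symm
  have hb' : b' ∉ ({x, a'} : Finset GolayPt) := by
    simp only [Finset.mem_insert, Finset.mem_singleton, not_or]
    exact ⟨Ne.symm hx'.2, Ne.symm hab'⟩
  obtain ⟨σ2, h2, h2f, h2b⟩ := fix_move {x, a'} (by
    refine (Finset.card_insert_le _ _).trans ?_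
    simp) (σ1 b) b' hb1 hb'
  have h2x : σ2 x = x := h2f x (by simp)
  have h2a : σ2 a' = a' := h2f a' (by simp)
  refine ⟨σ2 * σ1, M24.mul_mem h2 h1, ?_, ?_⟩
  · show σ2 (σ1 x) = x
    rw [h1x, h2x]
  · rw [Finset.smul_finset_insert, Finset.smul_finset_singleton]
    show ({σ2 (σ1 a), σ2 (σ1 b)} : Finset GolayPt) = {a', b'}
    rw [h1a, h2a, h2b]

theorem pick4 (o : Finset GolayPt) (x : GolayPt) (hc : o.card = 8) :
    ∃ p1 p2 p3 p4, [x, p1, p2, p3, p4].Nodup ∧ p1 ∈ o ∧ p2 ∈ o ∧ p3 ∈ o ∧ p4 ∈ o := by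
  have h7 : 4 ≤ (o.erase x).card := by
    have := Finset.pred_card_le_card_erase (s := o) (a := x)
    omega
  obtain ⟨t, ht, ht4⟩ := Finset.exists_subset_card_eq h7
  obtain ⟨l, hl⟩ : ∃ l, t.toList = l := ⟨_, rfl⟩
  have hlen : l.length = 4 := by rw [← hl, Finset.length_toList, ht4]
  have hnd : l.Nodup := by rw [← hl]; exact Finset.nodup_toList t
  have hmem : ∀ p ∈ l, p ∈ o ∧ p ≠ x := by
    intro p hp
    rw [← hl, Finset.mem_toList] at hp
    have := ht hp
    rw [Finset.mem_erase] at this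
    exact ⟨this.2, this.1⟩
  rcases l with _ | ⟨p1, _ | ⟨p2, _ | ⟨p3, _ | ⟨p4, _ | ⟨p5, l⟩⟩⟩⟩⟩ <;> simp at hlen
  refine ⟨p1, p2, p3, p4, ?_, (hmem p1 (by simp)).1, (hmem p2 (by simp)).1,
    (hmem p3 (by simp)).1, (hmem p4 (by simp)).1⟩
  rw [List.nodup_cons]
  refine ⟨?_, hnd⟩
  intro hxl
  exact (hmem x hxl).2 rfl

theorem octad_trans (x : GolayPt) (o o' : Finset GolayPt) (ho : o ∈ octads) (ho' : o' ∈ octads)
    (hx : x ∈ o) (hx' : x ∈ o') : ∃ σ ∈ M24, σ x = x ∧ σ • o = o' := by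
  obtain ⟨p1, p2, p3, p4, hp, m1, m2, m3, m4⟩ := pick4 o x ho.2
  obtain ⟨q1, q2, q3, q4, hq, n1, n2, n3, n4⟩ := pick4 o' x ho'.2
  obtain ⟨g, hg, e0, e1, e2, e3, e4⟩ := five_trans_list x p1 p2 p3 p4 x q1 q2 q3 q4 hp hq
  refine ⟨g, hg, e0, ?_⟩
  apply octads_inter_le (smul_mem_octads hg ho) ho'
  have hc : ({x, q1, q2, q3, q4} : Finset GolayPt).card = 5 := by
    have := List.toFinset_card_of_nodup hq
    simpa using this
  have hsub : ({x, q1, q2, q3, q4} : Finset GolayPt) ⊆ g • o ∩ o' := by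
    intro y hy
    simp only [Finset.mem_insert, Finset.mem_singleton] at hy
    rw [Finset.mem_inter]
    rcases hy with rfl | rfl | rfl | rfl | rfl
    · exact ⟨Finset.mem_smul_finset.mpr ⟨y, hx, e0⟩, hx'⟩
    · exact ⟨Finset.mem_smul_finset.mpr ⟨p1, m1, e1⟩, n1⟩
    · exact ⟨Finset.mem_smul_finset.mpr ⟨p2, m2, e2⟩, n2⟩
    · exact ⟨Finset.mem_smul_finset.mpr ⟨p3, m3, e3⟩, n3⟩
    · exact ⟨Finset.mem_smul_finset.mpr ⟨p4, m4, e4⟩, n4⟩
  calc 5 = ({x, q1, q2, q3, q4} : Finset GolayPt).card := hc.symm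
    _ ≤ _ := Finset.card_le_card hsub

theorem ncard_duads (x : GolayPt) : {s : Finset GolayPt | s.card = 2 ∧ x ∉ s}.ncard = 253 := by
  have : {s : Finset GolayPt | s.card = 2 ∧ x ∉ s} =
      ((Finset.powersetCard 2 (Finset.univ.erase x) : Finset (Finset GolayPt)) :
        Set (Finset GolayPt)) := by
    ext s
    simp only [Set.mem_setOf_eq, Finset.mem_coe,
      Finset.mem_powersetCard, Finset.subset_erase, Finset.subset_univ, true_and]
    tauto
  rw [this, Set.ncard_coe_finset, Finset.card_powersetCard,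
    Finset.card_erase_of_mem (Finset.mem_univ x), Finset.card_univ, golayPt_card]
  decide

theorem ncard_octads_through (x : GolayPt) :
    {o : Finset GolayPt | o ∈ octads ∧ x ∈ o}.ncard = 253 := by
  have h := card_blocks_through_eq octads_steiner' 1 253 (by norm_num) (by decide)
    (by rw [golayPt_card]; decide) {x} (Finset.card_singleton x)
  rw [← h, ← Set.ncard_coe_finset]
  congr 1
  ext o
  simp [mem_blocks]

/-- the point stabiliser as a subgroup of the symmetric group. -/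
abbrev Mx (x : GolayPt) : Subgroup (Equiv.Perm GolayPt) :=
  M24 ⊓ MulAction.stabilizer (Equiv.Perm GolayPt) x

/-- the point stabiliser inside `↥M24` and inside the symmetric group. -/
def mxEquiv (x : GolayPt) : ↥(MulAction.stabilizer ↥M24 x) ≃ ↥(Mx x) where
  toFun y := ⟨y.1.1, ⟨y.1.2, y.2⟩⟩
  invFun y := ⟨⟨y.1, y.2.1⟩, y.2.2⟩
  left_inv _ := rfl
  right_inv _ := rfl

theorem card_Mx (x : GolayPt) : Nat.card ↥(Mx x) = 10200960 := by
  rw [← Nat.card_congr (mxEquiv x)]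
  exact Cfsg.Agent.S0376.result x

theorem card_stab_duad (x : GolayPt) (s : Finset GolayPt) (hs : s.card = 2) (hx : x ∉ s) :
    Nat.card ↥(Mx x ⊓ MulAction.stabilizer (Equiv.Perm GolayPt) s) = 40320 := by
  have h := card_eq_orbit_mulG (Mx x) s {s' : Finset GolayPt | s'.card = 2 ∧ x ∉ s'}
    (fun σ hσ => by
      refine ⟨by rw [Finset.card_smul_finset]; exact hs, fun hc => hx ?_⟩
      rw [← Finset.inv_smul_mem_iff] at hc
      have hσx : σ • x = x := (Subgroup.mem_inf.mp hσ).2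
      have : σ⁻¹ • x = x := by rw [inv_smul_eq_iff, hσx]
      rwa [this] at hc)
    (fun c hc => by
      obtain ⟨σ, hσ, hσx, hσs⟩ := duad_trans x s c hs hx hc.1 hc.2
      exact ⟨σ, Subgroup.mem_inf.mpr ⟨hσ, hσx⟩, hσs⟩)
  rw [card_Mx, ncard_duads] at h
  omega

theorem card_stab_octad (x : GolayPt) (o : Finset GolayPt) (ho : o ∈ octads) (hx : x ∈ o) :
    Nat.card ↥(Mx x ⊓ MulAction.stabilizer (Equiv.Perm GolayPt) o) = 40320 := by
  have h := card_eq_orbit_mulG (Mx x) o {o' : Finset GolayPt | o' ∈ octads ∧ x ∈ o'}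
    (fun σ hσ => by
      refine ⟨smul_mem_octads (Subgroup.mem_inf.mp hσ).1 ho, ?_⟩
      have hσx : σ • x = x := (Subgroup.mem_inf.mp hσ).2
      exact Finset.mem_smul_finset.mpr ⟨x, hx, hσx⟩)
    (fun c hc => by
      obtain ⟨σ, hσ, hσx, hσs⟩ := octad_trans x o c ho hc.1 hx hc.2
      exact ⟨σ, Subgroup.mem_inf.mpr ⟨hσ, hσx⟩, hσs⟩)
  rw [card_Mx, ncard_octads_through] at h
  omega

end Cfsg.Agent.Lib.Helper36.Idx253
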