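import Mathlib

/-!
The group `GL(2, 3)` through codes: the matrix `!![a, b; c, d]` over the integers modulo 3 has code
`27 a + 9 b + 3 c + d`.
-/

set_option autoImplicit false

namespace Cfsg.Agent.Lib.Helper36

/-- Entries of a code. -/
def e00 (c : ℕ) : ℕ := c / 27 % 3
/-- Entries of a code. -/
def e01 (c : ℕ) : ℕ := c / 9 % 3
/-- Entries of a code. -/
def e10 (c : ℕ) : ℕ := c / 3 % 3
/-- Entries of a code. -/
def e11 (c : ℕ) : ℕ := c % 3

/-- The matrix with a given code. -/
def matOf (c : ℕ) : Matrix (Fin 2) (Fin 2) (ZMod 3) :=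
  !![(e00 c : ZMod 3), (e01 c : ZMod 3); (e10 c : ZMod 3), (e11 c : ZMod 3)]

/-- Code of four entries. -/
def mkCode (x y z w : ℕ) : ℕ := 27 * (x % 3) + 9 * (y % 3) + 3 * (z % 3) + w % 3

/-- Multiplication of codes. -/
def mulCode (a b : ℕ) : ℕ :=
  mkCode (e00 a * e00 b + e01 a * e10 b) (e00 a * e01 b + e01 a * e11 b)
    (e10 a * e00 b + e11 a * e10 b) (e10 a * e01 b + e11 a * e11 b)

/-- Determinant of a code (modulo 3). -/
def detCode (a : ℕ) : ℕ := (e00 a * e11 a + 2 * (e01 a * e10 a)) % 3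

theorem e00_mkCode (x y z w : ℕ) : e00 (mkCode x y z w) = x % 3 := by
  unfold e00 mkCode; omega
theorem e01_mkCode (x y z w : ℕ) : e01 (mkCode x y z w) = y % 3 := by
  unfold e01 mkCode; omega
theorem e10_mkCode (x y z w : ℕ) : e10 (mkCode x y z w) = z % 3 := by
  unfold e10 mkCode; omega
theorem e11_mkCode (x y z w : ℕ) : e11 (mkCode x y z w) = w % 3 := by
  unfold e11 mkCode; omega

theorem matOf_mulCode (a b : ℕ) : matOf (mulCode a b) = matOf a * matOf b := by
  unfold matOf mulCode
  rw [e00_mkCode, e01_mkCode, e10_mkCode, e11_mkCode, Matrix.mul_fin_two]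
  simp only [ZMod.natCast_mod, Nat.cast_add, Nat.cast_mul]

theorem det_matOf (a : ℕ) : (matOf a).det = (detCode a : ZMod 3) := by
  unfold matOf detCode
  rw [Matrix.det_fin_two_of, ZMod.natCast_mod]
  push_cast
  have h : (2 : ZMod 3) = -1 := by decide
  rw [h]
  ring

theorem det_matOf_ne_zero {a : ℕ} (h : detCode a ≠ 0) : (matOf a).det ≠ 0 := by
  rw [det_matOf]
  intro e
  have h3 : detCode a < 3 := Nat.mod_lt _ (by norm_num)
  have := (ZMod.natCast_eq_zero_iff (detCode a) 3).mp e
  have := Nat.le_of_dvd (Nat.pos_of_ne_zero h) this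
  omega

/-- The element of `GL(2, 3)` with a given code (the identity for a code of determinant zero). -/
noncomputable def glOf (c : ℕ) : GL (Fin 2) (ZMod 3) :=
  if h : (matOf c).det ≠ 0 then Matrix.GeneralLinearGroup.mkOfDetNeZero (matOf c) h else 1

theorem glOf_val {c : ℕ} (h : detCode c ≠ 0) :
    ((glOf c : GL (Fin 2) (ZMod 3)) : Matrix (Fin 2) (Fin 2) (ZMod 3)) = matOf c := by
  unfold glOf
  rw [dif_pos (det_matOf_ne_zero h)]
  rfl

theorem glOf_mul {a b c : ℕ} (ha : detCode a ≠ 0) (hb : detCode b ≠ 0) (hc : detCode c ≠ 0)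
    (h : mulCode a b = c) : glOf a * glOf b = glOf c := by
  apply Units.ext
  rw [Units.val_mul, glOf_val ha, glOf_val hb, glOf_val hc, ← h, matOf_mulCode]

theorem matOf_one : matOf 28 = 1 := by
  unfold matOf e00 e01 e10 e11
  norm_num
  exact Matrix.one_fin_two.symm

theorem glOf_one : glOf 28 = 1 := by
  apply Units.ext
  rw [glOf_val (by decide), matOf_one]
  rfl

theorem matOf_injOn {a b : ℕ} (ha : a < 81) (hb : b < 81) (h : matOf a = matOf b) : a = b := by
  unfold matOf at h
  have h00 := congrFun (congrFun h 0) 0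
  have h01 := congrFun (congrFun h 0) 1
  have h10 := congrFun (congrFun h 1) 0
  have h11 := congrFun (congrFun h 1) 1
  simp only [Matrix.of_apply, Matrix.cons_val', Matrix.cons_val_zero, Matrix.cons_val_one,
    Matrix.cons_val_fin_one] at h00 h01 h10 h11
  have key : ∀ x y : ℕ, x < 3 → y < 3 → (x : ZMod 3) = (y : ZMod 3) → x = y := by
    intro x y hx hy e
    have := (ZMod.natCast_eq_natCast_iff' x y 3).mp e
    rwa [Nat.mod_eq_of_lt hx, Nat.mod_eq_of_lt hy] at this
  have k00 := key _ _ (Nat.mod_lt _ (by norm_num)) (Nat.mod_lt _ (by norm_num)) h00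
  have k01 := key _ _ (Nat.mod_lt _ (by norm_num)) (Nat.mod_lt _ (by norm_num)) h01
  have k10 := key _ _ (Nat.mod_lt _ (by norm_num)) (Nat.mod_lt _ (by norm_num)) h10
  have k11 := key _ _ (Nat.mod_lt _ (by norm_num)) (Nat.mod_lt _ (by norm_num)) h11
  omega

theorem card_GL23 : Nat.card (GL (Fin 2) (ZMod 3)) = 48 := by
  rw [Matrix.card_GL_field]
  simp [Fin.prod_univ_two, ZMod.card]

/-- A homomorphism into `GL(2, 3)` whose image contains elements with 48 distinct valid codes
is surjective. -/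
theorem surjective_of_codes {G : Type*} [Group G] (f : G →* GL (Fin 2) (ZMod 3))
    (codes : List ℕ) (hnd : codes.Nodup) (hlen : codes.length = 48)
    (hvalid : ∀ c ∈ codes, c < 81 ∧ detCode c ≠ 0)
    (hhit : ∀ c ∈ codes, ∃ g : G, f g = glOf c) : Function.Surjective f := by
  classical
  have hinj : ∀ a ∈ codes, ∀ b ∈ codes, glOf a = glOf b → a = b := by
    intro a ha b hb e
    have e' := congrArg (fun M : GL (Fin 2) (ZMod 3) => (M : Matrix (Fin 2) (Fin 2) (ZMod 3))) e
    simp only [glOf_val (hvalid a ha).2, glOf_val (hvalid b hb).2] at e'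
    exact matOf_injOn (hvalid a ha).1 (hvalid b hb).1 e'
  have hsub : ((codes.map glOf).toFinset : Set (GL (Fin 2) (ZMod 3))) ⊆ Set.range f := by
    intro M hM
    simp only [List.coe_toFinset, List.mem_map, Set.mem_ofPred_eq] at hM
    obtain ⟨c, hc, rfl⟩ := hM
    obtain ⟨g, hg⟩ := hhit c hc
    exact ⟨g, hg⟩
  have hcard : ((codes.map glOf).toFinset).card = 48 := by
    rw [List.toFinset_card_of_nodup, List.length_map, hlen]
    exact List.Nodup.map_on hinj hnd
  have hrange : (Set.range f).ncard = 48 := by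
    apply le_antisymm
    · calc (Set.range f).ncard ≤ (Set.univ : Set (GL (Fin 2) (ZMod 3))).ncard :=
            Set.ncard_le_ncard (Set.subset_univ _) (Set.toFinite _)
        _ = 48 := by rw [Set.ncard_univ, card_GL23]
    · calc 48 = ((codes.map glOf).toFinset : Set (GL (Fin 2) (ZMod 3))).ncard := by
            rw [Set.ncard_coe_finset, hcard]
        _ ≤ (Set.range f).ncard := Set.ncard_le_ncard hsub (Set.toFinite _)
  have huniv : Set.range f = Set.univ := by
    apply Set.eq_of_subset_of_ncard_le (Set.subset_univ _) _ (Set.toFinite _)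
    rw [Set.ncard_univ, card_GL23, hrange]
  exact Set.range_eq_univ.mp huniv

end Cfsg.Agent.Lib.Helper36
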