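import Cfsg.Agent.Lib.Helper21.KRDefs

set_option autoImplicit false
set_option linter.unusedSectionVars false

/-! K-S4651-F3, core: the cancellation of the alternating sum over chains normalized by `x`, from the
properties of the flip (validity, stabilizer, pivot invariance) taken as hypotheses. -/

namespace Cfsg.Agent.Lib.Helper36.KR

open Cfsg Cfsg.Agent.Lib.Helper21.KR

universe u

variable {G : Type u} [Group G] [Finite G] {p : ℕ} [Fact p.Prime]

theorem topOf_singleton (Z : Subgroup G) : topOf ({Z} : Finset (Subgroup G)) = Z := by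
  unfold topOf
  rw [Finset.sup_singleton]
  rfl

theorem lowOf_singleton_of_mem {x : G} {Z : Subgroup G} (hx : x ∈ Z) :
    lowOf x ({Z} : Finset (Subgroup G)) = ⊥ := by
  classical
  unfold lowOf
  have : (({Z} : Finset (Subgroup G)).filter (fun Q => x ∉ Q)) = ∅ := by
    rw [Finset.filter_eq_empty_iff]
    intro Q hQ
    rw [Finset.mem_singleton] at hQ
    rw [hQ]
    exact fun h => h hx
  rw [this, Finset.sup_empty]

theorem piv_singleton_zpowers (x : G) :
    piv x ({Subgroup.zpowers x} : Finset (Subgroup G)) = Subgroup.zpowers x := by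
  unfold piv
  rw [topOf_singleton, lowOf_singleton_of_mem (Subgroup.mem_zpowers x)]
  unfold pivot
  apply le_antisymm
  · apply sInf_le
    exact ⟨bot_le, Subgroup.mem_zpowers x, Subgroup.le_normalizer⟩
  · apply le_sInf
    rintro R ⟨-, hxR, -⟩
    exact Subgroup.zpowers_le.mpr hxR

theorem flip_singleton_zpowers (x : G) :
    Helper21.KR.flip x ({Subgroup.zpowers x} : Finset (Subgroup G)) = ∅ := by
  classical
  unfold Helper21.KR.flip
  rw [piv_singleton_zpowers, if_pos (Finset.mem_singleton_self _), Finset.erase_singleton]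

theorem chainStab_singleton (Z : Subgroup G) :
    chainStab ({Z} : Finset (Subgroup G)) = Subgroup.normalizer ((Z : Subgroup G) : Set G) := by
  unfold chainStab
  simp

theorem isNChain_singleton_zpowers {x : G} (hx1 : x ≠ 1) (hxp : ∃ k : ℕ, orderOf x = p ^ k) :
    IsNChain p ({Subgroup.zpowers x} : Finset (Subgroup G)) := by
  refine ⟨Finset.singleton_nonempty _, ?_, ?_, ?_⟩
  · intro Q hQ R hR
    rw [Finset.mem_singleton] at hQ hR
    rw [hQ, hR]
    exact Or.inl le_rfl
  · intro Q hQ
    rw [Finset.mem_singleton] at hQ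
    rw [hQ]
    refine ⟨?_, ?_⟩
    · intro h
      apply hx1
      have : x ∈ (⊥ : Subgroup G) := by rw [← h]; exact Subgroup.mem_zpowers x
      exact Subgroup.mem_bot.mp this
    · obtain ⟨k, hk⟩ := hxp
      apply IsPGroup.of_card (n := k)
      rw [Nat.card_zpowers, hk]
  · refine ⟨Subgroup.zpowers x, Finset.mem_singleton_self _, ?_⟩
    intro Q hQ
    rw [Finset.mem_singleton] at hQ
    rw [hQ]
    exact ⟨le_rfl, Subgroup.le_normalizer⟩

theorem flip_flip_of_piv_flip {x : G} {s : Finset (Subgroup G)}
    (h : piv x (Helper21.KR.flip x s) = piv x s) : Helper21.KR.flip x (Helper21.KR.flip x s) = s := by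
  classical
  by_cases hP : piv x s ∈ s
  · have e1 : Helper21.KR.flip x s = s.erase (piv x s) := by unfold Helper21.KR.flip; rw [if_pos hP]
    have hn : piv x (s.erase (piv x s)) ∉ s.erase (piv x s) := by
      rw [← e1, h, e1]
      exact Finset.notMem_erase _ _
    rw [e1]
    unfold Helper21.KR.flip
    rw [if_neg hn, ← e1, h, e1]
    exact Finset.insert_erase hP
  · have e1 : Helper21.KR.flip x s = insert (piv x s) s := by unfold Helper21.KR.flip; rw [if_neg hP]
    have hn : piv x (insert (piv x s) s) ∈ insert (piv x s) s := by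
      rw [← e1, h, e1]
      exact Finset.mem_insert_self _ _
    rw [e1]
    unfold Helper21.KR.flip
    rw [if_pos hn, ← e1, h, e1]
    exact Finset.erase_insert hP

theorem card_flip {x : G} (s : Finset (Subgroup G)) :
    (Helper21.KR.flip x s).card + 1 = s.card ∨ (Helper21.KR.flip x s).card = s.card + 1 := by
  classical
  by_cases hP : piv x s ∈ s
  · left
    unfold Helper21.KR.flip
    rw [if_pos hP, Finset.card_erase_of_mem hP]
    have : 0 < s.card := Finset.card_pos.mpr ⟨_, hP⟩
    omega
  · right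
    unfold Helper21.KR.flip
    rw [if_neg hP, Finset.card_insert_of_notMem hP]

theorem neg_one_pow_add {a b : ℕ} (ha : 1 ≤ a) (hb : 1 ≤ b) (h : b + 1 = a ∨ b = a + 1) :
    (-1 : ℤ) ^ (a - 1) + (-1 : ℤ) ^ (b - 1) = 0 := by
  rcases h with h | h
  · have e : a - 1 = (b - 1) + 1 := by omega
    rw [e, pow_succ]
    ring
  · have e : b - 1 = (a - 1) + 1 := by omega
    rw [e, pow_succ]
    ring

/-- the cancellation, from the properties of the Helper21.KR.flip -/
theorem chain_cancel_of (x : G) (hx1 : x ≠ 1) (hxp : ∃ k : ℕ, orderOf x = p ^ k)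
    (F : Subgroup G → ℤ)
    (h2a : ∀ s : Finset (Subgroup G), IsNChain p s → x ∈ chainStab s →
      s ≠ {Subgroup.zpowers x} → IsNChain p (Helper21.KR.flip x s))
    (h2a' : ∀ s : Finset (Subgroup G), x ∈ chainStab s → x ∈ chainStab (Helper21.KR.flip x s))
    (h2b : ∀ s : Finset (Subgroup G), IsNChain p s → x ∈ chainStab s →
      piv x (Helper21.KR.flip x s) = piv x s)
    (h2c : ∀ s : Finset (Subgroup G), IsNChain p s → x ∈ chainStab s →
      chainStab (Helper21.KR.flip x s) ⊓ Subgroup.centralizer ({x} : Set G) =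
        chainStab s ⊓ Subgroup.centralizer ({x} : Set G)) :
    ∑ᶠ s ∈ {s : Finset (Subgroup G) | IsNChain p s ∧ x ∈ chainStab s},
      (-1 : ℤ) ^ (s.card - 1) * F (chainStab s ⊓ Subgroup.centralizer ({x} : Set G)) =
      F (Subgroup.centralizer ({x} : Set G)) := by
  classical
  set S : Set (Finset (Subgroup G)) := {s | IsNChain p s ∧ x ∈ chainStab s} with hS
  have hfin : S.Finite := Set.toFinite S
  set f : Finset (Subgroup G) → ℤ := fun s =>
    (-1 : ℤ) ^ (s.card - 1) * F (chainStab s ⊓ Subgroup.centralizer ({x} : Set G)) with hf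
  rw [finsum_mem_eq_finite_toFinset_sum f hfin]
  set s₀ : Finset (Subgroup G) := {Subgroup.zpowers x} with hs₀
  have hs₀S : s₀ ∈ hfin.toFinset := by
    rw [Set.Finite.mem_toFinset]
    refine ⟨isNChain_singleton_zpowers hx1 hxp, ?_⟩
    rw [hs₀, chainStab_singleton]
    exact Subgroup.le_normalizer (Subgroup.mem_zpowers x)
  rw [← Finset.insert_erase hs₀S, Finset.sum_insert (Finset.notMem_erase _ _)]
  have hrest : ∑ s ∈ hfin.toFinset.erase s₀, f s = 0 := by
    have hmem : ∀ s, s ∈ hfin.toFinset.erase s₀ ↔ (s ≠ s₀ ∧ IsNChain p s ∧ x ∈ chainStab s) := by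
      intro s
      rw [Finset.mem_erase, Set.Finite.mem_toFinset]
      rfl
    refine Finset.sum_involution (fun s _ => Helper21.KR.flip x s) ?_ ?_ ?_ ?_
    · intro s hs
      rw [hmem] at hs
      obtain ⟨hne, hch, hst⟩ := hs
      have hch' := h2a s hch hst hne
      have hc1 : 1 ≤ s.card := Finset.card_pos.mpr hch.1
      have hc2 : 1 ≤ (Helper21.KR.flip x s).card := Finset.card_pos.mpr hch'.1
      show (-1 : ℤ) ^ (s.card - 1) * F (chainStab s ⊓ Subgroup.centralizer ({x} : Set G)) +
        (-1 : ℤ) ^ ((Helper21.KR.flip x s).card - 1) *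
          F (chainStab (Helper21.KR.flip x s) ⊓ Subgroup.centralizer ({x} : Set G)) = 0
      rw [h2c s hch hst, ← add_mul, neg_one_pow_add hc1 hc2 (card_flip s), zero_mul]
    · intro s hs _ heq
      have := card_flip (x := x) s
      rw [heq] at this
      omega
    · intro s hs
      rw [hmem] at hs ⊢
      obtain ⟨hne, hch, hst⟩ := hs
      refine ⟨?_, h2a s hch hst hne, h2a' s hst⟩
      intro heq
      have h1 := flip_flip_of_piv_flip (h2b s hch hst)
      rw [heq, hs₀, flip_singleton_zpowers] at h1
      exact Finset.nonempty_iff_ne_empty.mp hch.1 h1.symm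
    · intro s hs
      rw [hmem] at hs
      exact flip_flip_of_piv_flip (h2b s hs.2.1 hs.2.2)
  rw [hrest, add_zero]
  show (-1 : ℤ) ^ (s₀.card - 1) * F (chainStab s₀ ⊓ Subgroup.centralizer ({x} : Set G)) = _
  have hcard : s₀.card = 1 := Finset.card_singleton _
  have hinf : chainStab s₀ ⊓ Subgroup.centralizer ({x} : Set G) =
      Subgroup.centralizer ({x} : Set G) := by
    rw [hs₀, chainStab_singleton, inf_eq_right]
    intro g hg
    rw [Subgroup.mem_centralizer_iff] at hg
    have hgx : g * x = x * g := (hg x (Set.mem_singleton x)).symm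
    rw [Subgroup.mem_normalizer_iff]
    intro h
    have hconj : ∀ h : G, h ∈ Subgroup.zpowers x → g * h * g⁻¹ = h := by
      intro h hh
      obtain ⟨k, rfl⟩ := Subgroup.mem_zpowers_iff.mp hh
      have : Commute g (x ^ k) := (Commute.zpow_right hgx k)
      rw [this.eq, mul_inv_cancel_right]
    constructor
    · intro hh
      rw [hconj h hh]; exact hh
    · intro hh
      have h2 : g⁻¹ * (g * h * g⁻¹) * g = h := by group
      have h3 : g * (g * h * g⁻¹) * g⁻¹ = g * h * g⁻¹ := hconj _ hh
      have h4 : g * h * g⁻¹ = h := by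
        have : g⁻¹ * (g * (g * h * g⁻¹) * g⁻¹) * g = g * h * g⁻¹ := by group
        rw [h3] at this
        rw [← this]
        group
      rw [← h4]; exact hh
  rw [hcard, hinf]
  simp

end Cfsg.Agent.Lib.Helper36.KR
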