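import Mathlib
import Cfsg.Agent.Lib.Helper21.KRDefs
import Cfsg.Agent.Lib.Helper36.KRF3Core
import Cfsg.Agent.Lib.Helper42.KRF2a
import Cfsg.Agent.Lib.Helper78.KRF2b
import Cfsg.Agent.Lib.Helper78.KRF2c

/-!
# K-S4651-F3: `chain_cancel` (exact spec signature), assembled from `chain_cancel_of` (KRF3Core) and the
flip lemmas F2a (helper42), F2b, F2c (helper78).
-/

set_option autoImplicit false

open Cfsg

namespace Cfsg.Agent.Lib.Helper36.KR

open Cfsg.Agent.Lib.Helper21.KR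

universe u

section Chain

variable {G : Type u} [Group G] [Finite G] {p : ℕ} [Fact p.Prime]

theorem chain_cancel (x : G) (hx1 : x ≠ 1) (hxp : ∃ k : ℕ, orderOf x = p ^ k)
    (F : Subgroup G → ℤ) :
    ∑ᶠ s ∈ {s : Finset (Subgroup G) | IsNChain p s ∧ x ∈ chainStab s},
      (-1 : ℤ) ^ (s.card - 1) * F (chainStab s ⊓ Subgroup.centralizer ({x} : Set G)) =
      F (Subgroup.centralizer ({x} : Set G)) :=
  chain_cancel_of x hx1 hxp F
    (fun _ hs hx hne => Cfsg.Agent.Lib.Helper42.KR.isNChain_flip hs hx hx1 hxp hne)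
    (fun _ hx => Cfsg.Agent.Lib.Helper42.KR.mem_chainStab_flip hx)
    (fun _ hs hx => Cfsg.Agent.Lib.Helper78.KR.piv_flip hs hx)
    (fun _ hs hx => Cfsg.Agent.Lib.Helper78.KR.chainStab_flip_inf hs hx)

end Chain

end Cfsg.Agent.Lib.Helper36.KR
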