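import Mathlib
import Cfsg.Agent.Lib.Helper70.AGDefs

/-!
# K-4188 leaf A5 (S4188): geometry of a normal four-group in an irreducible 2-group of automorphisms
-/

set_option autoImplicit false

namespace Cfsg.Agent.Lib.Helper36.AG

open Cfsg.Agent.Lib.Helper70.AG

theorem caseB_geometry {V : Type*} [CommGroup V] [Finite V] (hodd : Odd (Nat.card V))
    (Q : Subgroup (MulAut V))
    (hirr : ∀ W : Subgroup V, IsInv Q W → W = ⊥ ∨ W = ⊤)
    (z u : ↥Q) (hz1 : z ≠ 1) (hz2 : z ^ 2 = 1) (hzc : z ∈ Subgroup.center ↥Q)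
    (hu1 : u ≠ 1) (hu2 : u ^ 2 = 1) (huz : u ≠ z)
    (hconj : ∀ s : ↥Q, s * u * s⁻¹ = u ∨ s * u * s⁻¹ = u * z) :
    (Subgroup.centralizer ({u} : Set ↥Q)).index = 2 ∧
    fixedSub (u : MulAut V) ⊓ fixedSub ((u * z : ↥Q) : MulAut V) = ⊥ ∧
    fixedSub (u : MulAut V) ⊔ fixedSub ((u * z : ↥Q) : MulAut V) = ⊤ ∧
    (∀ m ∈ Subgroup.centralizer ({u} : Set ↥Q), ∀ v ∈ fixedSub (u : MulAut V),
      (m : MulAut V) v ∈ fixedSub (u : MulAut V)) ∧
    (∀ m ∈ Subgroup.centralizer ({u} : Set ↥Q), ∀ v ∈ fixedSub ((u * z : ↥Q) : MulAut V),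
      (m : MulAut V) v ∈ fixedSub ((u * z : ↥Q) : MulAut V)) ∧
    Nat.card ↥(fixedSub (u : MulAut V)) = Nat.card ↥(fixedSub ((u * z : ↥Q) : MulAut V)) ∧
    fixedSub (u : MulAut V) ≠ ⊥ := by
  have hcop : (Nat.card V).Coprime 2 := hodd.coprime_two_right
  have hsq_inj : ∀ v : V, v ^ 2 = 1 → v = 1 := by
    intro v hv
    apply (powCoprime hcop).injective
    show v ^ 2 = 1 ^ 2
    rw [hv, one_pow]
  have hsq_surj : ∀ v : V, ∃ w : V, w ^ 2 = v := fun v =>
    ⟨(powCoprime hcop).symm v, (powCoprime hcop).apply_symm_apply v⟩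
  have hzz : ∀ v, (z : MulAut V) ((z : MulAut V) v) = v := by
    intro v
    have h1 : ((z ^ 2 : ↥Q) : MulAut V) v = v := by rw [hz2]; rfl
    rwa [Subgroup.coe_pow, pow_two, MulAut.mul_apply] at h1
  have huu : ∀ v, (u : MulAut V) ((u : MulAut V) v) = v := by
    intro v
    have h1 : ((u ^ 2 : ↥Q) : MulAut V) v = v := by rw [hu2]; rfl
    rwa [Subgroup.coe_pow, pow_two, MulAut.mul_apply] at h1
  have hzcomm : ∀ q : ↥Q, q * z = z * q := fun q => Subgroup.mem_center_iff.1 hzc q
  -- a commutation relation moves fixed subgroups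
  have hpres : ∀ (a b t : ↥Q), t * a = b * t → ∀ v ∈ fixedSub (a : MulAut V),
      (t : MulAut V) v ∈ fixedSub (b : MulAut V) := by
    intro a b t h v hv
    rw [mem_fixedSub] at hv ⊢
    have h1 := congrArg (fun x : ↥Q => (x : MulAut V) v) h
    simp only [Subgroup.coe_mul, MulAut.mul_apply] at h1
    rw [← h1, hv]
  -- step 1: z inverts V
  have hZinv : IsInv Q (fixedSub (z : MulAut V)) := by
    intro q hq w hw
    exact hpres z z ⟨q, hq⟩ (hzcomm ⟨q, hq⟩) w hw
  have hZbot : fixedSub (z : MulAut V) = ⊥ := by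
    rcases hirr _ hZinv with h | h
    · exact h
    · exfalso
      apply hz1
      apply Subtype.ext
      apply MulEquiv.ext
      intro v
      have h1 : v ∈ fixedSub (z : MulAut V) := by rw [h]; exact Subgroup.mem_top v
      exact h1
  have hzinv : ∀ v, (z : MulAut V) v = v⁻¹ := by
    intro v
    have h1 : v * (z : MulAut V) v ∈ fixedSub (z : MulAut V) := by
      rw [mem_fixedSub, map_mul, hzz, mul_comm]
    rw [hZbot, Subgroup.mem_bot] at h1
    exact eq_inv_of_mul_eq_one_right h1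
  -- step 2
  have huz_apply : ∀ v, ((u * z : ↥Q) : MulAut V) v = ((u : MulAut V) v)⁻¹ := by
    intro v
    rw [Subgroup.coe_mul, MulAut.mul_apply, hzinv, map_inv]
  have hmemM : ∀ v, v ∈ fixedSub ((u * z : ↥Q) : MulAut V) ↔ (u : MulAut V) v = v⁻¹ := by
    intro v
    rw [mem_fixedSub, huz_apply, inv_eq_iff_eq_inv]
  have hG2 : fixedSub (u : MulAut V) ⊓ fixedSub ((u * z : ↥Q) : MulAut V) = ⊥ := by
    rw [eq_bot_iff]
    intro v hv
    rw [Subgroup.mem_inf] at hv
    rw [Subgroup.mem_bot]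
    have h1 : (u : MulAut V) v = v := hv.1
    have h2 := (hmemM v).1 hv.2
    have h3 : v = v⁻¹ := h1.symm.trans h2
    apply hsq_inj
    rw [pow_two]
    exact mul_eq_one_iff_eq_inv.2 h3
  have hG3 : fixedSub (u : MulAut V) ⊔ fixedSub ((u * z : ↥Q) : MulAut V) = ⊤ := by
    rw [eq_top_iff]
    intro v _
    obtain ⟨w, rfl⟩ := hsq_surj v
    have h1 : w * (u : MulAut V) w ∈ fixedSub (u : MulAut V) := by
      rw [mem_fixedSub, map_mul, huu, mul_comm]
    have h2 : w * ((u : MulAut V) w)⁻¹ ∈ fixedSub ((u * z : ↥Q) : MulAut V) := by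
      rw [hmemM, map_mul, map_inv, huu, mul_inv_rev, inv_inv, mul_comm]
    have h3 : w ^ 2 = (w * (u : MulAut V) w) * (w * ((u : MulAut V) w)⁻¹) := by
      rw [pow_two, mul_mul_mul_comm, mul_inv_cancel, mul_one]
    rw [h3]
    exact Subgroup.mul_mem_sup h1 h2
  have hG7 : fixedSub (u : MulAut V) ≠ ⊥ := by
    intro h
    rw [h, bot_sup_eq] at hG3
    apply huz
    apply Subtype.ext
    apply MulEquiv.ext
    intro v
    have h1 : v ∈ fixedSub ((u * z : ↥Q) : MulAut V) := by rw [hG3]; exact Subgroup.mem_top v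
    rw [hmemM] at h1
    rw [h1, hzinv]
  have hmemC : ∀ t : ↥Q, t ∈ Subgroup.centralizer ({u} : Set ↥Q) ↔ t * u * t⁻¹ = u := by
    intro t
    rw [Subgroup.mem_centralizer_iff]
    constructor
    · intro h
      rw [mul_inv_eq_iff_eq_mul]
      exact (h u rfl).symm
    · intro h x hx
      rw [Set.mem_singleton_iff] at hx
      rw [hx]
      exact (mul_inv_eq_iff_eq_mul.1 h).symm
  have hG4 : ∀ m ∈ Subgroup.centralizer ({u} : Set ↥Q), ∀ v ∈ fixedSub (u : MulAut V),
      (m : MulAut V) v ∈ fixedSub (u : MulAut V) := by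
    intro m hm v hv
    have h1 : m * u = u * m := mul_inv_eq_iff_eq_mul.1 ((hmemC m).1 hm)
    exact hpres u u m h1 v hv
  have hG5 : ∀ m ∈ Subgroup.centralizer ({u} : Set ↥Q),
      ∀ v ∈ fixedSub ((u * z : ↥Q) : MulAut V),
      (m : MulAut V) v ∈ fixedSub ((u * z : ↥Q) : MulAut V) := by
    intro m hm v hv
    have h1 : m * u = u * m := mul_inv_eq_iff_eq_mul.1 ((hmemC m).1 hm)
    have h2 : m * (u * z) = (u * z) * m := by
      rw [← mul_assoc, h1, mul_assoc, hzcomm m, mul_assoc]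
    exact hpres (u * z) (u * z) m h2 v hv
  have hs : ∃ s : ↥Q, s * u * s⁻¹ = u * z := by
    by_contra hcon
    simp only [not_exists] at hcon
    have hall : ∀ s : ↥Q, s * u = u * s := by
      intro s
      rcases hconj s with h | h
      · exact mul_inv_eq_iff_eq_mul.1 h
      · exact absurd h (hcon s)
    have hinv : IsInv Q (fixedSub (u : MulAut V)) := by
      intro q hq w hw
      exact hpres u u ⟨q, hq⟩ (hall ⟨q, hq⟩) w hw
    rcases hirr _ hinv with h | h
    · exact hG7 h
    · apply hu1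
      apply Subtype.ext
      apply MulEquiv.ext
      intro v
      have h1 : v ∈ fixedSub (u : MulAut V) := by rw [h]; exact Subgroup.mem_top v
      exact h1
  obtain ⟨s, hs⟩ := hs
  have hzz' : z * z = 1 := by rw [← pow_two]; exact hz2
  have hs1 : s * u = (u * z) * s := mul_inv_eq_iff_eq_mul.1 hs
  have hs2 : s * (u * z) = u * s := by
    calc s * (u * z) = (s * u) * z := by rw [mul_assoc]
      _ = u * z * s * z := by rw [hs1]
      _ = u * z * (s * z) := by rw [mul_assoc]
      _ = u * z * (z * s) := by rw [hzcomm s]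
      _ = u * (z * z) * s := by simp only [mul_assoc]
      _ = u * s := by rw [hzz', mul_one]
  have hG6 : Nat.card ↥(fixedSub (u : MulAut V)) =
      Nat.card ↥(fixedSub ((u * z : ↥Q) : MulAut V)) := by
    apply le_antisymm
    · apply Nat.card_le_card_of_injective
        (fun v : ↥(fixedSub (u : MulAut V)) =>
          (⟨(s : MulAut V) v, hpres u (u * z) s hs1 v v.2⟩ : ↥(fixedSub ((u * z : ↥Q) : MulAut V))))
      intro a b hab
      have h1 : (s : MulAut V) a = (s : MulAut V) b := congrArg Subtype.val hab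
      exact Subtype.ext ((s : MulAut V).injective h1)
    · apply Nat.card_le_card_of_injective
        (fun v : ↥(fixedSub ((u * z : ↥Q) : MulAut V)) =>
          (⟨(s : MulAut V) v, hpres (u * z) u s hs2 v v.2⟩ : ↥(fixedSub (u : MulAut V))))
      intro a b hab
      have h1 : (s : MulAut V) a = (s : MulAut V) b := congrArg Subtype.val hab
      exact Subtype.ext ((s : MulAut V).injective h1)
  have huz_ne : u * z ≠ u := by
    intro h
    apply hz1
    have h1 : u * z = u * 1 := by rw [h, mul_one]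
    exact mul_left_cancel h1
  have hG1 : (Subgroup.centralizer ({u} : Set ↥Q)).index = 2 := by
    rw [Subgroup.index_eq_two_iff]
    refine ⟨s, fun b => ?_⟩
    by_cases hb : b ∈ Subgroup.centralizer ({u} : Set ↥Q)
    · right
      refine ⟨hb, ?_⟩
      intro hbs
      have h1 : s ∈ Subgroup.centralizer ({u} : Set ↥Q) := by
        have h2 := (Subgroup.centralizer ({u} : Set ↥Q)).mul_mem
          ((Subgroup.centralizer ({u} : Set ↥Q)).inv_mem hb) hbs
        rwa [inv_mul_cancel_left] at h2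
      rw [hmemC, hs] at h1
      exact huz_ne h1
    · left
      refine ⟨?_, hb⟩
      rw [hmemC] at hb ⊢
      have hb' : b * u * b⁻¹ = u * z := (hconj b).resolve_left hb
      have hbz : b * z * b⁻¹ = z := by
        rw [mul_inv_eq_iff_eq_mul]
        exact hzcomm b
      calc b * s * u * (b * s)⁻¹ = b * (s * u * s⁻¹) * b⁻¹ := by group
        _ = b * (u * z) * b⁻¹ := by rw [hs]
        _ = (b * u * b⁻¹) * (b * z * b⁻¹) := by group
        _ = u * z * z := by rw [hb', hbz]
        _ = u := by rw [mul_assoc, hzz', mul_one]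
  exact ⟨hG1, hG2, hG3, hG4, hG5, hG6, hG7⟩

end Cfsg.Agent.Lib.Helper36.AG
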