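import Mathlib
import Cfsg.Agent.Lib.Helper44.Decomp
import Cfsg.Agent.Lib.Helper44.NilpAlt
import Cfsg.Agent.Lib.Helper44.NilpSymExt

set_option autoImplicit false

/-! K-S2221-D: for `4 ∣ N` and `n = N + 2` or `N + 3`, a Sylow 2-subgroup of `A_n` is isomorphic
to a Sylow 2-subgroup of `S_N`. -/

namespace Cfsg.Agent.Lib.Helper36.AltDec

open Cfsg.Agent.Lib.Helper44.Dec Cfsg.Agent.Lib.Helper44 Equiv

section emb

variable {α β : Type*} [Fintype α] [DecidableEq α] [Fintype β] [DecidableEq β]

/-- the homomorphism from the units of `ℤ` sending `-1` to a given involution -/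
def sgnHom (t : Perm β) (ht : t * t = 1) : ℤˣ →* Perm β where
  toFun u := if u = 1 then 1 else t
  map_one' := by simp
  map_mul' := by
    intro a b
    rcases Int.units_eq_one_or a with rfl | rfl <;> rcases Int.units_eq_one_or b with rfl | rfl
    · simp
    · simp
    · simp
    · have h1 : ((-1 : ℤˣ) * (-1)) = 1 := by decide
      have h2 : ¬ ((-1 : ℤˣ) = 1) := by decide
      simp only [h1, h2, if_true, if_false]
      exact ht.symm

theorem sign_sgnHom (t : Perm β) (ht : t * t = 1) (hs : Perm.sign t = -1) (u : ℤˣ) :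
    Perm.sign (sgnHom t ht u) = u := by
  rcases Int.units_eq_one_or u with rfl | rfl
  · simp [sgnHom]
  · have h2 : ¬ ((-1 : ℤˣ) = 1) := by decide
    simp only [sgnHom, MonoidHom.coe_mk, OneHom.coe_mk, h2, if_false]
    exact hs

/-- the embedding of `Perm α` into the even permutations of `α ⊕ β` -/
def embSum (t : Perm β) (ht : t * t = 1) : Perm α →* Perm (α ⊕ β) :=
  (Perm.sumCongrHom α β).comp ((MonoidHom.id (Perm α)).prod ((sgnHom t ht).comp Perm.sign))

theorem embSum_injective (t : Perm β) (ht : t * t = 1) :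
    Function.Injective (embSum (α := α) t ht) := by
  intro g g' h
  have h1 := Perm.sumCongrHom_injective h
  exact congrArg Prod.fst h1

theorem sign_embSum (t : Perm β) (ht : t * t = 1) (hs : Perm.sign t = -1) (g : Perm α) :
    Perm.sign (embSum t ht g) = 1 := by
  have h1 : embSum t ht g = sumCongr g (sgnHom t ht (Perm.sign g)) := rfl
  rw [h1, Perm.sign_sumCongr, sign_sgnHom t ht hs]
  exact Int.units_mul_self _

end emb

/-- the embedding of `Perm (Fin N)` into `A_{N+k}` attached to an odd involution of `Fin k` -/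
noncomputable def embAlt (N k : ℕ) (t : Perm (Fin k)) (ht : t * t = 1) (hs : Perm.sign t = -1) :
    Perm (Fin N) →* alternatingGroup (Fin (N + k)) :=
  ((finSumFinEquiv (m := N) (n := k)).permCongrHom.toMonoidHom.comp (embSum t ht)).codRestrict
    (alternatingGroup (Fin (N + k)))
    (fun g => by
      rw [Equiv.Perm.mem_alternatingGroup, MonoidHom.comp_apply]
      change Perm.sign ((finSumFinEquiv (m := N) (n := k)).permCongr (embSum t ht g)) = 1
      rw [Perm.sign_permCongr, sign_embSum t ht hs])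

theorem embAlt_injective (N k : ℕ) (t : Perm (Fin k)) (ht : t * t = 1) (hs : Perm.sign t = -1) :
    Function.Injective (embAlt N k t ht hs) := by
  intro g g' h
  have h1 : (finSumFinEquiv (m := N) (n := k)).permCongrHom (embSum t ht g) =
      (finSumFinEquiv (m := N) (n := k)).permCongrHom (embSum t ht g') :=
    congrArg Subtype.val h
  exact embSum_injective t ht ((finSumFinEquiv (m := N) (n := k)).permCongrHom.injective h1)

theorem exists_odd_involution (k : ℕ) (hk : 2 ≤ k) :
    ∃ t : Perm (Fin k), t * t = 1 ∧ Perm.sign t = -1 := by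
  refine ⟨swap (⟨0, by omega⟩ : Fin k) ⟨1, by omega⟩, Equiv.swap_mul_self _ _, ?_⟩
  apply Perm.sign_swap
  intro h
  have := congrArg Fin.val h
  simp at this

theorem F2_add_two (N : ℕ) (h4 : 4 ∣ N) : F2 (N + 2) = 2 * F2 N := by
  obtain ⟨m, rfl⟩ := h4
  have h1 : ¬ 2 ∣ 4 * m + 1 := by omega
  have h2 : padicValNat 2 (4 * m + 1 + 1) = 1 := by
    have e : 4 * m + 1 + 1 = 2 * (2 * m + 1) := by ring
    rw [e, padicValNat.mul (by norm_num) (by omega), padicValNat_self,
      padicValNat.eq_zero_of_not_dvd (by omega)]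
  have e2 : 4 * m + 2 = 4 * m + 1 + 1 := by ring
  rw [e2, F2_succ, F2_succ, padicValNat.eq_zero_of_not_dvd h1, h2]
  ring

theorem F2_add_three (N : ℕ) (h4 : 4 ∣ N) : F2 (N + 3) = 2 * F2 N := by
  have h1 : ¬ 2 ∣ N + 2 + 1 := by
    obtain ⟨m, rfl⟩ := h4
    omega
  have e2 : N + 3 = N + 2 + 1 := by ring
  rw [e2, F2_succ, padicValNat.eq_zero_of_not_dvd h1, F2_add_two N h4]
  ring

theorem alt_sylow_equiv_perm (n N : ℕ) (h4 : 4 ∣ N) (hn : n = N + 2 ∨ n = N + 3)
    (P : Sylow 2 (alternatingGroup (Fin n))) (T : Sylow 2 (Perm (Fin N))) :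
    Nonempty (↥(P : Subgroup (alternatingGroup (Fin n))) ≃* ↥(T : Subgroup (Perm (Fin N)))) := by
  have hT : Nat.card ↥(T : Subgroup (Perm (Fin N))) = F2 N := card_sylow_perm N T
  rcases hn with rfl | rfl
  · obtain ⟨t, ht, hs⟩ := exists_odd_involution 2 le_rfl
    have hinj : Function.Injective ((embAlt N 2 t ht hs).comp
        (T : Subgroup (Perm (Fin N))).subtype) :=
      (embAlt_injective N 2 t ht hs).comp (Subgroup.subtype_injective _)
    have hP := two_mul_card_sylow_alt (N + 2) (by omega) P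
    rw [F2_add_two N h4] at hP
    have hcard : Nat.card ↥(T : Subgroup (Perm (Fin N))) =
        Nat.card ↥(P : Subgroup (alternatingGroup (Fin (N + 2)))) := by
      rw [hT]; omega
    obtain ⟨e⟩ := sylow_equiv_of_injective 2 P _ hinj hcard
    exact ⟨e.symm⟩
  · obtain ⟨t, ht, hs⟩ := exists_odd_involution 3 (by norm_num)
    have hinj : Function.Injective ((embAlt N 3 t ht hs).comp
        (T : Subgroup (Perm (Fin N))).subtype) :=
      (embAlt_injective N 3 t ht hs).comp (Subgroup.subtype_injective _)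
    have hP := two_mul_card_sylow_alt (N + 3) (by omega) P
    rw [F2_add_three N h4] at hP
    have hcard : Nat.card ↥(T : Subgroup (Perm (Fin N))) =
        Nat.card ↥(P : Subgroup (alternatingGroup (Fin (N + 3)))) := by
      rw [hT]; omega
    obtain ⟨e⟩ := sylow_equiv_of_injective 2 P _ hinj hcard
    exact ⟨e.symm⟩

end Cfsg.Agent.Lib.Helper36.AltDec
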