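import Mathlib
import Cfsg.Agent.Lib.Helper44.Decomp
import Cfsg.Agent.Lib.Helper44.NilpAlt

set_option autoImplicit false

/-! K-S2221-E: for even `N` the Sylow 2-subgroups of `A_{N+1}` and `A_N` are isomorphic. -/

namespace Cfsg.Agent.Lib.Helper36.AltDec

open Cfsg.Agent.Lib.Helper44.Dec Cfsg.Agent.Lib.Helper44 Equiv

/-- extension of a permutation of `Fin N` to `Fin (N+1)` fixing the last point -/
noncomputable def extLast (N : ℕ) : Perm (Fin N) →* Perm (Fin (N + 1)) :=
  Equiv.Perm.extendDomainHom (finSuccAboveEquiv (Fin.last N))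

theorem extLast_injective (N : ℕ) : Function.Injective (extLast N) :=
  Equiv.Perm.extendDomainHom_injective _

theorem sign_extLast (N : ℕ) (g : Perm (Fin N)) : Perm.sign (extLast N g) = Perm.sign g := by
  unfold extLast
  rw [Equiv.Perm.extendDomainHom_apply]
  exact Equiv.Perm.sign_extendDomain g _

/-- the induced embedding of alternating groups -/
noncomputable def altExt (N : ℕ) : alternatingGroup (Fin N) →* alternatingGroup (Fin (N + 1)) :=
  ((extLast N).comp (alternatingGroup (Fin N)).subtype).codRestrict (alternatingGroup (Fin (N + 1)))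
    (fun x => by
      rw [Equiv.Perm.mem_alternatingGroup, MonoidHom.comp_apply, sign_extLast]
      exact Equiv.Perm.mem_alternatingGroup.mp x.2)

theorem altExt_injective (N : ℕ) : Function.Injective (altExt N) := by
  intro x y h
  have h1 : extLast N (x : Perm (Fin N)) = extLast N (y : Perm (Fin N)) :=
    congrArg Subtype.val h
  exact Subtype.ext (extLast_injective N h1)

theorem alt_sylow_equiv_succ (N : ℕ) (hN : Even N)
    (P : Sylow 2 (alternatingGroup (Fin (N + 1)))) (P' : Sylow 2 (alternatingGroup (Fin N))) :
    Nonempty (↥(P : Subgroup (alternatingGroup (Fin (N + 1)))) ≃*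
      ↥(P' : Subgroup (alternatingGroup (Fin N)))) := by
  have hinj : Function.Injective ((altExt N).comp (P' : Subgroup (alternatingGroup (Fin N))).subtype) :=
    (altExt_injective N).comp (Subgroup.subtype_injective _)
  have hcard : Nat.card ↥(P' : Subgroup (alternatingGroup (Fin N))) =
      Nat.card ↥(P : Subgroup (alternatingGroup (Fin (N + 1)))) := by
    rcases Nat.eq_zero_or_pos N with h0 | hpos
    · subst h0
      haveI : Subsingleton (Fin (0 + 1)) := ⟨fun a b => by apply Fin.ext; omega⟩
      rw [Nat.card_of_subsingleton (1 : ↥(P' : Subgroup (alternatingGroup (Fin 0)))),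
        Nat.card_of_subsingleton (1 : ↥(P : Subgroup (alternatingGroup (Fin (0 + 1)))))]
    · have h2 : 2 ≤ N := by
        obtain ⟨m, hm⟩ := hN
        omega
      have e1 := two_mul_card_sylow_alt N h2 P'
      have e2 := two_mul_card_sylow_alt (N + 1) (by omega) P
      have hodd : ¬ 2 ∣ N + 1 := by
        obtain ⟨m, hm⟩ := hN
        omega
      rw [F2_succ, padicValNat.eq_zero_of_not_dvd hodd, pow_zero, mul_one] at e2
      have : 2 * Nat.card ↥(P' : Subgroup (alternatingGroup (Fin N))) =
          2 * Nat.card ↥(P : Subgroup (alternatingGroup (Fin (N + 1)))) := by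
        rw [e1]; exact e2.symm
      omega
  obtain ⟨e⟩ := sylow_equiv_of_injective 2 P _ hinj hcard
  exact ⟨e.symm⟩

end Cfsg.Agent.Lib.Helper36.AltDec
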