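import Mathlib
import Cfsg.Agent.Lib.Helper44.Decomp

set_option autoImplicit false

/-! K-S2221-F: the Sylow 2-subgroup of `A_4` is decomposable (it is the Klein four-group). -/

namespace Cfsg.Agent.Lib.Helper36.AltDec

open Cfsg.Agent.Lib.Helper44.Dec Equiv

theorem alt_four_decomp (P : Sylow 2 (alternatingGroup (Fin 4))) :
    Decomp ↥(P : Subgroup (alternatingGroup (Fin 4))) := by
  have h4 : Nat.card (Fin 4) = 4 := by simp
  have hP : (P : Subgroup (alternatingGroup (Fin 4))) = alternatingGroup.kleinFour (Fin 4) :=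
    alternatingGroup.two_sylow_eq_kleinFour_of_card_eq_four h4 P
  haveI hK : IsKleinFour ↥(alternatingGroup.kleinFour (Fin 4)) :=
    alternatingGroup.kleinFour_isKleinFour h4
  haveI : Fact (1 < 2) := ⟨by norm_num⟩
  have hd : Decomp (Multiplicative (ZMod 2) × Multiplicative (ZMod 2)) :=
    decomp_prod (Multiplicative (ZMod 2)) (Multiplicative (ZMod 2))
  have e0 : Multiplicative (ZMod 2 × ZMod 2) ≃* Multiplicative (ZMod 2) × Multiplicative (ZMod 2) :=
    MulEquiv.prodMultiplicative _ _
  have hd1 : Decomp (Multiplicative (ZMod 2 × ZMod 2)) := Decomp.of_equiv e0.symm hd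
  obtain ⟨e⟩ : Nonempty (Multiplicative (ZMod 2 × ZMod 2) ≃*
      ↥(alternatingGroup.kleinFour (Fin 4))) := IsKleinFour.nonempty_mulEquiv
  have hd2 := Decomp.of_equiv e hd1
  rw [hP]
  exact hd2

end Cfsg.Agent.Lib.Helper36.AltDec
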