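import Mathlib
import Cfsg.Prelude.Def_GeometricClasses
import Cfsg.Agent.Lib.Helper61.AschDefs
import Cfsg.Agent.Lib.Helper61.AschUDefs
import Cfsg.Agent.Lib.Helper19.Unitary
import Cfsg.Agent.Lib.Helper46.UnitaryField
import Cfsg.Agent.Lib.Helper99.Extra27U
import Cfsg.Agent.Lib.Helper48.OSub.Std

/-!
# K-S5663-C6b : odd prime index subfield + form rational up to `ζ` ⇒ class 5 (unitary case).
-/

set_option autoImplicit false
set_option linter.unusedSectionVars false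
set_option linter.unusedVariables false

namespace Cfsg.Agent.Lib.Helper36.AschU

open Cfsg Cfsg.Geo Cfsg.Agent.Lib.Helper61.Asch Cfsg.Agent.Lib.Helper61.AschU
open scoped Matrix Kronecker MatrixGroups

variable {F : Type*} [Field F] [Fintype F] {n q : ℕ}

/-- Not every element of `F` (`|F| = q²`) is fixed by `x ↦ x ^ q`. -/
theorem exists_pow_q_ne (hF : Fintype.card F = q ^ 2) : ∃ x : F, x ^ q ≠ x := by
  classical
  by_contra hcon
  push Not at hcon
  have hq1 : 1 < q := Cfsg.Agent.Lib.Helper19.one_lt_q hF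
  obtain ⟨g, hg⟩ := IsCyclic.exists_generator (α := Fˣ)
  have hord : orderOf g = Fintype.card Fˣ := by
    rw [orderOf_eq_card_of_forall_mem_zpowers hg, Nat.card_eq_fintype_card]
  rw [Fintype.card_units, hF] at hord
  have h1 : g ^ (q - 1) = 1 := by
    apply Units.ext
    have h2 : ((g : F)) ^ q = g := hcon g
    have h3 : ((g : F)) ^ (q - 1) * g = g := by
      rw [← pow_succ, Nat.sub_add_cancel hq1.le, h2]
    have h4 : ((g : F)) ^ (q - 1) = 1 := by
      have hg0 : (g : F) ≠ 0 := g.ne_zero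
      field_simp at h3 ⊢
      exact mul_right_cancel₀ hg0 (by rw [h3, one_mul])
    simpa using h4
  have hdvd : orderOf g ∣ q - 1 := orderOf_dvd_of_pow_eq_one h1
  rw [hord] at hdvd
  have hle : q ^ 2 - 1 ≤ q - 1 := Nat.le_of_dvd (by omega) hdvd
  have : q < q ^ 2 := by nlinarith
  omega

/-- In a subfield `F₁` of odd prime index of `F` (`|F| = q²`) some element is moved by `x ↦ x ^ q`. -/
theorem exists_mem_pow_q_ne (hF : Fintype.card F = q ^ 2) (F₁ : Subfield F) (r : ℕ) (hr : r.Prime)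
    (hodd : Odd r) (hcard : Fintype.card F = Nat.card F₁ ^ r) : ∃ θ ∈ F₁, θ ^ q ≠ θ := by
  classical
  by_contra hcon
  push Not at hcon
  have hq1 : 1 < q := Cfsg.Agent.Lib.Helper19.one_lt_q hF
  let K₀ : Subfield F := Cfsg.Agent.Lib.Helper46.fixedField hF
  have hle : ∀ x ∈ F₁, x ∈ K₀ := by
    intro x hx
    rw [Cfsg.Agent.Lib.Helper46.mem_fixedField, Cfsg.Agent.Lib.Helper46.frobRing_apply]
    exact hcon x hx
  let S : Subalgebra F₁ F :=
    { K₀.toSubring.toSubsemiring with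
      algebraMap_mem' := fun x => hle x.1 x.2 }
  have hSmem : ∀ x : F, x ∈ S ↔ x ∈ K₀ := fun x => Iff.rfl
  rcases Cfsg.Agent.Lib.Helper48.OSub.subalgebra_dichotomy F₁ r hr hcard S with hS | hS
  · -- `K₀ = F₁`: then `q ≤ |F₁|`, and `q² = |F₁|^r ≥ q^3`
    have hK₀le : ∀ x ∈ K₀, x ∈ F₁ := by
      intro x hx
      have : x ∈ S := (hSmem x).mpr hx
      rw [hS, Algebra.mem_bot] at this
      obtain ⟨y, hy⟩ := this
      rw [← hy]
      exact y.2
    have h1 : Nat.card K₀ ≤ Nat.card F₁ :=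
      Nat.card_le_card_of_injective (fun x : K₀ => (⟨x.1, hK₀le x.1 x.2⟩ : F₁))
        (fun a b hab => Subtype.ext (by simpa using congrArg Subtype.val hab))
    have h2 : q ≤ Nat.card K₀ := Cfsg.Agent.Lib.Helper46.le_card_fixedField hF
    have h3 : q ≤ Nat.card F₁ := h2.trans h1
    have hr3 : 3 ≤ r := by
      rcases hodd with ⟨k, hk⟩
      have := hr.two_le
      omega
    have h4 : q ^ 3 ≤ Nat.card F₁ ^ r :=
      (Nat.pow_le_pow_left h3 3).trans (Nat.pow_le_pow_right (by omega) hr3)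
    rw [← hcard, hF] at h4
    have : q ^ 2 < q ^ 3 := Nat.pow_lt_pow_right hq1 (by norm_num)
    omega
  · -- `K₀ = ⊤`
    obtain ⟨x, hx⟩ := exists_pow_q_ne hF
    apply hx
    have : x ∈ S := by rw [hS]; exact Algebra.mem_top
    have hxK : x ∈ K₀ := (hSmem x).mp this
    rw [Cfsg.Agent.Lib.Helper46.mem_fixedField, Cfsg.Agent.Lib.Helper46.frobRing_apply] at hxK
    exact hxK

/-- Hilbert 90 inside a subfield `F₁` on which `x ↦ x ^ q` is not the identity. -/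
theorem exists_mem_pow_q_eq_mul (hF : Fintype.card F = q ^ 2) (F₁ : Subfield F)
    (hθ : ∃ θ ∈ F₁, θ ^ q ≠ θ) (l : F) (hl : l ∈ F₁) (hl1 : l * l ^ q = 1) :
    ∃ μ ∈ F₁, μ ≠ 0 ∧ μ ^ q = l * μ := by
  have hl0 : l ≠ 0 := by
    rintro rfl
    simp at hl1
  have hlq : l ^ q = l⁻¹ := by
    field_simp
    rw [mul_comm]; exact hl1
  have hlinv : l⁻¹ ∈ F₁ := F₁.inv_mem hl
  -- the resolvent `μ θ = θ + l⁻¹ θ^q`
  have key : ∀ θ : F, (θ + l⁻¹ * θ ^ q) ^ q = l * (θ + l⁻¹ * θ ^ q) := by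
    intro θ
    rw [Cfsg.Agent.Lib.Helper19.add_pow_q hF, mul_pow, Cfsg.Agent.Lib.Helper19.pow_q_pow_q hF,
      inv_pow, hlq, inv_inv]
    field_simp
    ring
  by_cases h1 : (1 : F) + l⁻¹ = 0
  · obtain ⟨θ, hθ1, hθ2⟩ := hθ
    have hl' : l⁻¹ = -1 := by linear_combination h1
    refine ⟨θ + l⁻¹ * θ ^ q, F₁.add_mem hθ1 (F₁.mul_mem hlinv (F₁.pow_mem hθ1 q)), ?_, key θ⟩
    rw [hl']
    intro h
    apply hθ2
    linear_combination -h
  · refine ⟨1 + l⁻¹ * 1 ^ q, F₁.add_mem F₁.one_mem (F₁.mul_mem hlinv (F₁.pow_mem F₁.one_mem q)), ?_,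
      key 1⟩
    rw [one_pow, mul_one]
    exact h1

/-- The scalar matrix `t • 1` as an element of `GL`. -/
noncomputable def scalarGL (n : ℕ) (t : F) (ht : t ≠ 0) : GL (Fin n) F :=
  (Units.map (Matrix.scalar (Fin n) : F →+* Matrix (Fin n) (Fin n) F).toMonoidHom) (Units.mk0 t ht)

theorem scalarGL_val (t : F) (ht : t ≠ 0) :
    ((scalarGL n t ht : GL (Fin n) F) : Matrix (Fin n) (Fin n) F) = Matrix.scalar (Fin n) t := rfl

theorem scalarGL_mul_mulVec (t : F) (ht : t ≠ 0) (P : GL (Fin n) F) (u : Fin n → F) :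
    ((scalarGL n t ht * P : GL (Fin n) F) : Matrix (Fin n) (Fin n) F) *ᵥ u =
      t • ((P : Matrix (Fin n) (Fin n) F) *ᵥ u) := by
  rw [Units.val_mul, scalarGL_val, ← Matrix.mulVec_mulVec]
  ext i
  simp [Matrix.mulVec, dotProduct, Matrix.scalar_apply, Matrix.diagonal_apply]

theorem conj_scalarGL_mul (t : F) (ht : t ≠ 0) (P : GL (Fin n) F) :
    MulAut.conj (scalarGL n t ht * P) = MulAut.conj P := by
  ext1 x
  have hc : ∀ y : GL (Fin n) F, scalarGL n t ht * y = y * scalarGL n t ht := by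
    intro y
    apply Units.ext
    rw [Units.val_mul, Units.val_mul, scalarGL_val]
    exact (Matrix.scalar_commute t (fun _ => Commute.all _ _) _).eq
  simp only [MulAut.conj_apply, mul_inv_rev]
  calc scalarGL n t ht * P * x * (P⁻¹ * (scalarGL n t ht)⁻¹)
      = scalarGL n t ht * (P * x * P⁻¹) * (scalarGL n t ht)⁻¹ := by group
    _ = (P * x * P⁻¹) * scalarGL n t ht * (scalarGL n t ht)⁻¹ := by rw [hc]
    _ = P * x * P⁻¹ := by group

/-- K-S5663-C6b. -/
theorem ugeom_of_subfield_odd (hF : Fintype.card F = q ^ 2) (K : Subgroup (GL (Fin n) F)) (F₁ : Subfield F)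
    (r : ℕ) (hr : r.Prime) (hodd : Odd r) (hcard : Fintype.card F = Nat.card F₁ ^ r) (P : GL (Fin n) F)
    (hK : K ≤ subfieldSubgroup F₁ P) (ζ : F) (hζ : ζ ≠ 0)
    (hrat : IsFormRationalStructure (hermForm n F q) F₁ ζ P) :
    UGeom n q K := by
  suffices h : ∃ P' : GL (Fin n) F, IsFormRationalStructure (hermForm n F q) F₁ 1 P' ∧
      subfieldSubgroup F₁ P' = subfieldSubgroup F₁ P by
    obtain ⟨P', hP', hsub⟩ := h
    refine ⟨subfieldSubgroup F₁ P' ⊓ GU n F q, ?_, ?_⟩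
    · dsimp only [InUnitaryClass, InUnitaryPartialClass]
      left; right; right; right; right; left
      exact ⟨F₁, r, P', hr, hodd, hcard, hP', rfl⟩
    · rw [hsub]; exact inf_le_inf_right _ hK
  by_cases hz : ∀ u v : Fin n → F, (∀ i, u i ∈ F₁) → (∀ i, v i ∈ F₁) →
      hermForm n F q ((P : Matrix (Fin n) (Fin n) F) *ᵥ u) ((P : Matrix (Fin n) (Fin n) F) *ᵥ v) = 0
  · refine ⟨P, ?_, rfl⟩
    intro u v hu hv
    rw [hz u v hu hv, mul_zero]
    exact F₁.zero_mem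
  · push Not at hz
    obtain ⟨u, v, hu, hv, hg⟩ := hz
    set g : F := hermForm n F q ((P : Matrix (Fin n) (Fin n) F) *ᵥ u)
      ((P : Matrix (Fin n) (Fin n) F) *ᵥ v) with hgdef
    have ha : ζ * g ∈ F₁ := hrat u v hu hv
    have hb : ζ * g ^ q ∈ F₁ := by
      have := hrat v u hv hu
      rwa [← Cfsg.Agent.Lib.Helper19.hermForm_conj hF] at this
    have hζq : ζ ^ q ≠ 0 := pow_ne_zero _ hζ
    have hgq : g ^ q ≠ 0 := pow_ne_zero _ hg
    -- `l = ζ / ζ^q ∈ F₁`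
    have hl : ζ / ζ ^ q ∈ F₁ := by
      have h1 : ζ / ζ ^ q = (ζ * g ^ q) * ((ζ * g) ^ q)⁻¹ := by
        rw [mul_pow]
        field_simp
      rw [h1]
      exact F₁.mul_mem hb (F₁.inv_mem (F₁.pow_mem ha q))
    have hl1 : ζ / ζ ^ q * (ζ / ζ ^ q) ^ q = 1 := by
      rw [div_pow, Cfsg.Agent.Lib.Helper19.pow_q_pow_q hF]
      field_simp
    obtain ⟨μ, hμ, hμ0, hμq⟩ := exists_mem_pow_q_eq_mul hF F₁
      (exists_mem_pow_q_ne hF F₁ r hr hodd hcard) (ζ / ζ ^ q) hl hl1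
    -- `ζ₁ = μ ζ` is fixed by `x ↦ x^q`
    have hζ₁0 : μ * ζ ≠ 0 := mul_ne_zero hμ0 hζ
    have hζ₁q : (μ * ζ) ^ q = μ * ζ := by
      rw [mul_pow, hμq]
      field_simp
    have hinvq : ((μ * ζ)⁻¹) ^ q = (μ * ζ)⁻¹ := by rw [inv_pow, hζ₁q]
    obtain ⟨t, ht0, ht⟩ := Cfsg.Agent.Lib.Helper99.Extra27U.exists_norm hF (inv_ne_zero hζ₁0) hinvq
    rw [inv_inv] at ht
    refine ⟨scalarGL n t ht0 * P, ?_, ?_⟩
    · intro x y hx hy
      rw [scalarGL_mul_mulVec, scalarGL_mul_mulVec, Cfsg.Agent.Lib.Helper19.hermForm_smul_left,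
        Cfsg.Agent.Lib.Helper19.hermForm_smul_right, one_mul]
      have h2 : t * (t ^ q * hermForm n F q ((P : Matrix (Fin n) (Fin n) F) *ᵥ x)
          ((P : Matrix (Fin n) (Fin n) F) *ᵥ y)) =
          μ * (ζ * hermForm n F q ((P : Matrix (Fin n) (Fin n) F) *ᵥ x)
            ((P : Matrix (Fin n) (Fin n) F) *ᵥ y)) := by
        rw [← mul_assoc, ← mul_assoc, ← ht, pow_succ]
        ring
      rw [h2]
      exact F₁.mul_mem hμ (hrat x y hx hy)
    · unfold subfieldSubgroup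
      rw [conj_scalarGL_mul]

end Cfsg.Agent.Lib.Helper36.AschU
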