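import Mathlib
import Cfsg.Agent.Lib.Helper61.PrimeAction
import Cfsg.Agent.Lib.Helper54.Subnormal
import Cfsg.Agent.Lib.Helper55.FitUniq

/-!
# BG 11.7, "FACT F": commutators with a group generated by two fixed-point-free lines centralize a
nilpotent normalized group (no quotient groups; ambient-subgroup form of Helper61's Hall-Higman step).
-/

set_option autoImplicit false
set_option linter.unusedSectionVars false
set_option linter.unusedVariables false
set_option linter.style.haveILetI false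

namespace Cfsg.Agent.Lib.Helper36.BG117

open Cfsg
open scoped commutatorElement

variable {G : Type*} [Group G] [Finite G]

/-- Subgroup (non-normal `P`) form of `Helper61.PrimeAction.commutator_le_centralizer_pgroup'`:
`x` of prime order `r` normalizes the `q`-group `Y` (odd order) and the `ℓ`-group `P`, `Y` normalizes `P`,
`C_P(x) = 1`: then `[Y, ⟨x⟩]` centralizes `P`. -/
theorem comm_zpowers_le_centralizer_sub {ℓ q r : ℕ} (hℓ : ℓ.Prime) (hq : q.Prime) (hr : r.Prime)
    (hℓq : ℓ ≠ q) (P Y : Subgroup G) (x : G) (hP : IsPGroup ℓ P) (hY : IsPGroup q Y)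
    (hPr : (Nat.card P).Coprime r) (hYr : (Nat.card Y).Coprime r) (hYodd : Odd (Nat.card Y))
    (hx : orderOf x = r) (hxY : x ∈ Subgroup.normalizer (Y : Set G))
    (hxP : x ∈ Subgroup.normalizer (P : Set G)) (hYP : Y ≤ Subgroup.normalizer (P : Set G))
    (hCP : P ⊓ Subgroup.centralizer ((Subgroup.zpowers x : Subgroup G) : Set G) = ⊥) :
    ⁅Y, Subgroup.zpowers x⁆ ≤ Subgroup.centralizer (P : Set G) := by
  let H : Subgroup G := Subgroup.normalizer (P : Set G)
  have hPH : P ≤ H := Subgroup.le_normalizer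
  let x' : H := ⟨x, hxP⟩
  let P' : Subgroup H := P.subgroupOf H
  let Y' : Subgroup H := Y.subgroupOf H
  have hP'n : P'.Normal := Subgroup.normal_in_normalizer
  have hP' : IsPGroup ℓ P' := hP.comap_subtype
  have hY' : IsPGroup q Y' := hY.comap_subtype
  have hcP : Nat.card P' = Nat.card P := Nat.card_congr (Subgroup.subgroupOfEquivOfLe hPH).toEquiv
  have hcY : Nat.card Y' = Nat.card Y := Nat.card_congr (Subgroup.subgroupOfEquivOfLe hYP).toEquiv
  have hx' : orderOf x' = r := by
    rw [← hx]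
    exact Subgroup.orderOf_mk x hxP
  have hxY' : x' ∈ Subgroup.normalizer (Y' : Set H) := by
    rw [Subgroup.mem_normalizer_iff]
    intro h
    rw [Subgroup.mem_normalizer_iff] at hxY
    have := hxY (h : G)
    simpa [Y', x', Subgroup.mem_subgroupOf] using this
  have hCP' : P' ⊓ Subgroup.centralizer ((Subgroup.zpowers x' : Subgroup H) : Set H) = ⊥ := by
    rw [eq_bot_iff]
    intro w hw
    obtain ⟨hvP, hvC⟩ := Subgroup.mem_inf.mp hw
    obtain ⟨v, hvH⟩ := w
    have hvP' : v ∈ P := by simpa [P', Subgroup.mem_subgroupOf] using hvP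
    have hvC' : v ∈ Subgroup.centralizer ((Subgroup.zpowers x : Subgroup G) : Set G) := by
      rw [Subgroup.mem_centralizer_iff]
      rintro z ⟨k, rfl⟩
      rw [Subgroup.mem_centralizer_iff] at hvC
      have h1 := hvC (x' ^ k) ⟨k, rfl⟩
      have h2 := congrArg (Subtype.val) h1
      simpa [x'] using h2
    have : v ∈ (⊥ : Subgroup G) := by
      rw [← hCP]; exact ⟨hvP', hvC'⟩
    rw [Subgroup.mem_bot] at this
    rw [Subgroup.mem_bot]
    exact Subtype.ext this
  have key := Cfsg.Agent.Lib.Helper61.PrimeAction.commutator_le_centralizer_pgroup' hℓ hq hr hℓq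
    P' Y' x' hP' hY' (by rw [hcP]; exact hPr) (by rw [hcY]; exact hYr) (by rw [hcY]; exact hYodd)
    hx' hxY' hCP'
  rw [Subgroup.commutator_le]
  intro y hy z hz
  obtain ⟨k, rfl⟩ := hz
  have hyH : y ∈ H := hYP hy
  have hy' : (⟨y, hyH⟩ : H) ∈ Y' := by simpa [Y', Subgroup.mem_subgroupOf] using hy
  have hz' : x' ^ k ∈ Subgroup.zpowers x' := ⟨k, rfl⟩
  have hmem := key (Subgroup.commutator_mem_commutator hy' hz')
  rw [Subgroup.mem_centralizer_iff]
  intro v hv
  rw [Subgroup.mem_centralizer_iff] at hmem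
  have hv' : (⟨v, hPH hv⟩ : H) ∈ P' := by simpa [P', Subgroup.mem_subgroupOf] using hv
  have h1 := hmem _ hv'
  have h2 := congrArg (Subtype.val) h1
  simpa [x', commutatorElement_def] using h2

/-- A nilpotent subgroup is its own Fitting subgroup. -/
theorem fittingOf_eq_self_of_nilpotent (N : Subgroup G) (hN : Group.IsNilpotent N) : fittingOf N = N := by
  unfold fittingOf
  have htop : Cfsg.fittingSubgroup ↥N = ⊤ := by
    rw [eq_top_iff]
    unfold Cfsg.fittingSubgroup
    apply le_sSup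
    refine ⟨inferInstance, ?_⟩
    exact Group.isNilpotent_top.mpr hN
  rw [htop, ← MonoidHom.range_eq_map, Subgroup.range_subtype]

/-- An element centralizing every `O_ℓ(N)` of a nilpotent subgroup `N` centralizes `N`. -/
theorem mem_centralizer_of_nilpotent (N : Subgroup G) (hN : Group.IsNilpotent N) {c : G}
    (hc : ∀ ℓ : ℕ, ℓ.Prime → c ∈ Subgroup.centralizer ((pCoreOf ℓ N : Subgroup G) : Set G)) :
    c ∈ Subgroup.centralizer (N : Set G) := by
  have h1 : N = ⨆ ℓ : Nat.Primes, pCoreOf (ℓ : ℕ) N := by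
    conv_lhs => rw [← fittingOf_eq_self_of_nilpotent N hN]
    exact Cfsg.Agent.Lib.Helper55.fittingOf_eq_iSup N
  have h2 : N ≤ Subgroup.centralizer ({c} : Set G) := by
    rw [h1]
    apply iSup_le
    intro ℓ v hv
    rw [Subgroup.mem_centralizer_singleton_iff]
    have := hc ℓ ℓ.2
    rw [Subgroup.mem_centralizer_iff] at this
    exact this v hv
  rw [Subgroup.mem_centralizer_iff]
  intro v hv
  have := h2 hv
  rw [Subgroup.mem_centralizer_singleton_iff] at this
  exact this

/-- One fixed-point-free line: `x` of prime order `p` normalizes the nilpotent `N` (of order prime to `p` and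
to `r`) with `C_N(x) = 1`, and normalizes the `r`-group `Y` (odd order) which normalizes `N`: then
`[Y, ⟨x⟩]` centralizes `N`. -/
theorem comm_zpowers_le_centralizer_nilpotent {p r : ℕ} (hp : p.Prime) (hr : r.Prime)
    (N Y : Subgroup G) (x : G) (hNnil : Group.IsNilpotent N)
    (hxN : x ∈ Subgroup.normalizer (N : Set G)) (hYN : Y ≤ Subgroup.normalizer (N : Set G))
    (hxY : x ∈ Subgroup.normalizer (Y : Set G)) (hY : IsPGroup r Y) (hYodd : Odd (Nat.card Y))
    (hrp : r ≠ p) (hNr : (Nat.card N).Coprime r) (hNp : (Nat.card N).Coprime p)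
    (hx : orderOf x = p)
    (hC : N ⊓ Subgroup.centralizer ((Subgroup.zpowers x : Subgroup G) : Set G) = ⊥) :
    ⁅Y, Subgroup.zpowers x⁆ ≤ Subgroup.centralizer (N : Set G) := by
  intro c hc
  apply mem_centralizer_of_nilpotent N hNnil
  intro ℓ hℓ
  have hPle : pCoreOf ℓ N ≤ N := Cfsg.Agent.Lib.Helper54.pCoreOf_le ℓ N
  have hPp : IsPGroup ℓ (pCoreOf ℓ N) := Cfsg.Agent.Lib.Helper54.isPGroup_pCoreOf ℓ N
  have hdvd : Nat.card (pCoreOf ℓ N) ∣ Nat.card N := Subgroup.card_dvd_of_le hPle
  by_cases hℓr : ℓ = r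
  · -- `O_r(N)` is trivial
    have hbot : pCoreOf ℓ N = ⊥ := by
      haveI : Fact ℓ.Prime := ⟨hℓ⟩
      obtain ⟨k, hk⟩ := (IsPGroup.iff_card.mp hPp)
      have hcop : (Nat.card (pCoreOf ℓ N)).Coprime r := Nat.Coprime.coprime_dvd_left hdvd hNr
      rw [hk, hℓr] at hcop
      rcases Nat.eq_zero_or_pos k with hk0 | hk0
      · rw [hk0, pow_zero] at hk
        exact Subgroup.card_eq_one.mp hk
      · exfalso
        have := (Nat.coprime_pow_left_iff hk0 r r).mp hcop
        rw [Nat.coprime_self] at this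
        exact hr.one_lt.ne' this
    rw [hbot]
    rw [Subgroup.mem_centralizer_iff]
    intro v hv
    have hv1 : v = 1 := by simpa using hv
    rw [hv1]; simp
  · have hYr : (Nat.card Y).Coprime p := by
      haveI : Fact r.Prime := ⟨hr⟩
      obtain ⟨k, hk⟩ := (IsPGroup.iff_card.mp hY)
      rw [hk]
      exact Nat.Coprime.pow_left k ((Nat.coprime_primes hr hp).mpr hrp)
    have key := comm_zpowers_le_centralizer_sub hℓ hr hp hℓr (pCoreOf ℓ N) Y x hPp hY
      (Nat.Coprime.coprime_dvd_left hdvd hNp) hYr hYodd hx hxY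
      (Cfsg.Agent.Lib.Helper54.normalizer_le_normalizer_pCoreOf ℓ N hxN)
      (hYN.trans (Cfsg.Agent.Lib.Helper54.normalizer_le_normalizer_pCoreOf ℓ N))
      (by
        rw [eq_bot_iff, ← hC]
        exact inf_le_inf_right _ hPle)
    exact key hc

/-- **FACT F**.  `A` abelian, generated by two subgroups `A1`, `A2` of prime order `p`, each acting
fixed-point-freely on the nilpotent group `N` (order prime to `p` and `r`); `Y` an `A`-invariant `r`-group
(odd order) normalizing `N`.  Then `[Y, A]` centralizes `N`. -/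
theorem comm_le_centralizer_of_fpf {p r : ℕ} [hp : Fact p.Prime] [hr : Fact r.Prime]
    (N Y A A1 A2 : Subgroup G) (hNnil : Group.IsNilpotent N)
    (hAN : A ≤ Subgroup.normalizer (N : Set G)) (hYN : Y ≤ Subgroup.normalizer (N : Set G))
    (hAY : A ≤ Subgroup.normalizer (Y : Set G)) (hY : IsPGroup r Y) (hYodd : Odd (Nat.card Y))
    (hrp : r ≠ p) (hNr : (Nat.card N).Coprime r) (hNp : (Nat.card N).Coprime p)
    (hAc : ∀ a ∈ A, ∀ b ∈ A, a * b = b * a)
    (hA1 : A1 ≤ A) (hA2 : A2 ≤ A) (hgen : A ≤ A1 ⊔ A2) (hc1 : Nat.card A1 = p) (hc2 : Nat.card A2 = p)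
    (h1 : N ⊓ Subgroup.centralizer (A1 : Set G) = ⊥) (h2 : N ⊓ Subgroup.centralizer (A2 : Set G) = ⊥) :
    ⁅Y, A⁆ ≤ Subgroup.centralizer (N : Set G) := by
  -- each line is `zpowers` of a generator of order `p`
  have line : ∀ B : Subgroup G, B ≤ A → Nat.card B = p → N ⊓ Subgroup.centralizer (B : Set G) = ⊥ →
      ⁅Y, B⁆ ≤ Subgroup.centralizer (N : Set G) := by
    intro B hBA hcB hB
    haveI : Fact (Nat.card B).Prime := by rw [hcB]; exact hp
    haveI : IsCyclic B := isCyclic_of_prime_card (p := p) hcB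
    obtain ⟨g, hg⟩ := IsCyclic.exists_generator (α := B)
    have hgen' : B = Subgroup.zpowers (g : G) := by
      ext y
      constructor
      · intro hy
        obtain ⟨k, hk⟩ := hg ⟨y, hy⟩
        exact ⟨k, by simpa using congrArg Subtype.val hk⟩
      · rintro ⟨k, rfl⟩
        exact B.zpow_mem g.2 k
    have hord : orderOf (g : G) = p := by
      rw [← hcB, Subgroup.orderOf_coe, orderOf_eq_card_of_forall_mem_zpowers hg]
    rw [hgen'] at hB ⊢
    exact comm_zpowers_le_centralizer_nilpotent hp.out hr.out N Y g hNnil (hAN (hBA g.2)) hYN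
      (hAY (hBA g.2)) hY hYodd hrp hNr hNp hord hB
  have l1 := line A1 hA1 hc1 h1
  have l2 := line A2 hA2 hc2 h2
  -- the set of `a` with `[Y, a] ⊆ C(N)` is a subgroup containing `A1`, `A2`
  let T : Subgroup G :=
    { carrier := {a | a ∈ A ∧ ∀ y ∈ Y, ⁅y, a⁆ ∈ Subgroup.centralizer (N : Set G)}
      one_mem' := ⟨A.one_mem, fun y _ => by simp⟩
      mul_mem' := by
        rintro a b ⟨haA, ha⟩ ⟨hbA, hb⟩
        refine ⟨A.mul_mem haA hbA, fun y hy => ?_⟩
        have e : ⁅y, a * b⁆ = ⁅y, a⁆ * (a * ⁅y, b⁆ * a⁻¹) := by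
          simp only [commutatorElement_def]; group
        rw [e]
        refine Subgroup.mul_mem _ (ha y hy) ?_
        -- conjugate of a centralizing element by a normalizing element
        have haN := hAN haA
        have hb' := hb y hy
        rw [Subgroup.mem_centralizer_iff] at hb' ⊢
        intro v hv
        have hv' : a⁻¹ * v * a ∈ N := by
          have := (Subgroup.mem_normalizer_iff.mp (Subgroup.inv_mem _ haN) v).mp hv
          simpa using this
        have := hb' _ hv'
        calc v * (a * ⁅y, b⁆ * a⁻¹) = a * ((a⁻¹ * v * a) * ⁅y, b⁆) * a⁻¹ := by group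
          _ = a * (⁅y, b⁆ * (a⁻¹ * v * a)) * a⁻¹ := by rw [this]
          _ = a * ⁅y, b⁆ * a⁻¹ * v := by group
      inv_mem' := by
        rintro a ⟨haA, ha⟩
        refine ⟨A.inv_mem haA, fun y hy => ?_⟩
        -- `[y, a⁻¹] = a⁻¹ [y', a]⁻¹ a`-type identity: use `y' = a⁻¹ y a`? simpler: `[y,a⁻¹] = a⁻¹ * [y,a]⁻¹ * a`
        have e : ⁅y, a⁻¹⁆ = a⁻¹ * (⁅y, a⁆)⁻¹ * a := by
          simp only [commutatorElement_def]; group
        rw [e]
        have haN := hAN haA
        have ha' := Subgroup.inv_mem _ (ha y hy)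
        rw [Subgroup.mem_centralizer_iff] at ha' ⊢
        intro v hv
        have hv' : a * v * a⁻¹ ∈ N := (Subgroup.mem_normalizer_iff.mp haN v).mp hv
        have := ha' _ hv'
        calc v * (a⁻¹ * (⁅y, a⁆)⁻¹ * a) = a⁻¹ * ((a * v * a⁻¹) * (⁅y, a⁆)⁻¹) * a := by group
          _ = a⁻¹ * ((⁅y, a⁆)⁻¹ * (a * v * a⁻¹)) * a := by rw [this]
          _ = a⁻¹ * (⁅y, a⁆)⁻¹ * a * v := by group }
  have hT1 : A1 ≤ T := fun a ha => ⟨hA1 ha, fun y hy => l1 (Subgroup.commutator_mem_commutator hy ha)⟩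
  have hT2 : A2 ≤ T := fun a ha => ⟨hA2 ha, fun y hy => l2 (Subgroup.commutator_mem_commutator hy ha)⟩
  have hAT : A ≤ T := hgen.trans (sup_le hT1 hT2)
  rw [Subgroup.commutator_le]
  intro y hy a ha
  exact (hAT ha).2 y hy

end Cfsg.Agent.Lib.Helper36.BG117
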