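import Mathlib
import Cfsg.Agent.Lib.Helper16.BG1363Defs
import Cfsg.Agent.Lib.Helper55.Basic
import Cfsg.Agent.Lib.Helper01.BG134CJ
import Cfsg.Agent.Lib.Helper90.BG14DW1
import Cfsg.Agent.Lib.Helper36.BG14P2K
import Cfsg.Agent.S1430

/-!
# Pack K-1363 (S1363), keystone 136302 K-1363-B `NU.basic`:
`r ∉ σ(M)`, `U K ≤ H`, and `H` is not conjugate to `M`
(parallel hand by helper36; spec `notes/S1363_keystones.lean.txt`).
-/

set_option autoImplicit false

namespace Cfsg.Agent.Lib.Helper36.BG1363B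

open Cfsg Subgroup Cfsg.Agent.Lib.Helper55 Cfsg.Agent.Lib.Helper11.BG14D Cfsg.Agent.Lib.Helper16.BG1363

variable {G : Type*} [Group G] [Finite G]

/-- the `r`-torsion of an abelian subgroup `U` -/
def rPart (U : Subgroup G) (hUc : ∀ a ∈ U, ∀ b ∈ U, a * b = b * a) (r : ℕ) : Subgroup G where
  carrier := {u | u ∈ U ∧ ∃ n : ℕ, u ^ (r ^ n) = 1}
  one_mem' := ⟨U.one_mem, 0, by simp⟩
  mul_mem' := by
    rintro a b ⟨ha, m, hm⟩ ⟨hb, n, hn⟩
    refine ⟨U.mul_mem ha hb, m + n, ?_⟩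
    have hcomm : Commute a b := hUc a ha b hb
    rw [hcomm.mul_pow, pow_add, pow_mul, hm, one_pow, one_mul, mul_comm (r ^ m), pow_mul, hn, one_pow]
  inv_mem' := by
    rintro a ⟨ha, m, hm⟩
    exact ⟨U.inv_mem ha, m, by rw [inv_pow, hm, inv_one]⟩

theorem rPart_isPGroup (U : Subgroup G) (hUc : ∀ a ∈ U, ∀ b ∈ U, a * b = b * a) (r : ℕ) :
    IsPGroup r (rPart U hUc r) := by
  rintro ⟨u, hu, n, hn⟩
  exact ⟨n, Subtype.ext hn⟩

theorem le_rPart {U R : Subgroup G} (hUc : ∀ a ∈ U, ∀ b ∈ U, a * b = b * a) {r : ℕ} (hRU : R ≤ U)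
    (hR : IsPGroup r R) : R ≤ rPart U hUc r := by
  intro x hx
  obtain ⟨n, hn⟩ := hR ⟨x, hx⟩
  exact ⟨hRU hx, n, congrArg Subtype.val hn⟩

/-- a maximal `r`-subgroup of `M` has the order of a Sylow `r`-subgroup of `M` -/
theorem card_of_max {M R : Subgroup G} {r : ℕ} [Fact r.Prime] (hRM : R ≤ M) (hRp : IsPGroup r R)
    (hRsyl : ∀ Q : Subgroup G, Q ≤ M → IsPGroup r Q → R ≤ Q → Q = R) :
    Nat.card R = r ^ (Nat.card M).factorization r := by
  obtain ⟨Q, hQ⟩ := (hRp.comap_subtype (K := M)).exists_le_sylow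
  have h1 : ((Q : Subgroup M).map M.subtype) = R := by
    apply hRsyl
    · exact Subgroup.map_subtype_le _
    · exact Q.isPGroup'.map M.subtype
    · intro x hx
      exact ⟨⟨x, hRM hx⟩, hQ (show (⟨x, hRM hx⟩ : M) ∈ R.comap M.subtype from hx), rfl⟩
  rw [← h1, Subgroup.card_map_of_injective M.subtype_injective]
  exact Q.card_eq_multiplicity

/-- KEYSTONE 136302  K-1363-B. -/
theorem NU.basic (hG : IsMinSimpleOddOrder G) {M K U R H : Subgroup G} {r : ℕ} (c : NU M K U R H r) :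
    r ∉ sigma M ∧ U ⊔ K ≤ H ∧ ∀ g : G, H ≠ M.map (MulAut.conj g).toMonoidHom := by
  classical
  haveI : Fact r.Prime := ⟨c.hr⟩
  have h30 : H1430 G := fun M hM K hK hK1 => Cfsg.Agent.S1430.result hG M hM K hK hK1
  obtain ⟨hab, _⟩ := Cfsg.Agent.Lib.Helper90.BG14D.free_action hG h30 M c.hM K U c.hKU c.hK1
  have hUc : ∀ a ∈ U, ∀ b ∈ U, a * b = b * a := by
    intro a ha b hb
    have := hab.is_comm.comm (⟨a, ha⟩ : U) ⟨b, hb⟩
    exact congrArg Subtype.val this
  have hUM : U ≤ M := c.hKU.compl.1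
  have hRM : R ≤ M := c.hRU.trans hUM
  -- r ∣ |R| ∣ |U|
  have hrR : r ∣ Nat.card R := by
    obtain ⟨n, hn⟩ := IsPGroup.iff_card.mp c.hRp
    have hn0 : n ≠ 0 := by
      intro h0
      rw [h0, pow_zero] at hn
      exact c.hR1 (Subgroup.card_eq_one.mp hn)
    rw [hn]
    exact dvd_pow_self r hn0
  have hrU : r ∣ Nat.card U := hrR.trans (Subgroup.card_dvd_of_le c.hRU)
  have hrM : r ∉ sigma M :=
    (Cfsg.Agent.Lib.Helper36.BG14.not_mem_of_dvd_card_U hG c.hM c.hKU.hall c.hKU.compl c.hr hrU).1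
  -- U ≤ N_G(R)
  have hUN : U ≤ normalizer (R : Set G) := by
    intro u hu
    apply Subgroup.centralizer_le_normalizer
    rw [Subgroup.mem_centralizer_iff]
    intro y hy
    exact hUc y (c.hRU hy) u hu
  -- the r-part of U is R
  have hPR : rPart U hUc r = R :=
    c.hRsyl _ ((show rPart U hUc r ≤ U from fun u hu => hu.1).trans hUM) (rPart_isPGroup U hUc r)
      (le_rPart hUc c.hRU c.hRp)
  -- K ≤ N_G(R)
  have hKN : K ≤ normalizer (R : Set G) := by
    intro k hk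
    have hle : cj k R ≤ R := by
      have hle' : cj k R ≤ rPart U hUc r := by
        apply le_rPart hUc
        · intro x hx
          rw [mem_cj] at hx
          have hkn := c.hKU.normal hk
          rw [Subgroup.mem_normalizer_iff] at hkn
          have := (hkn (k⁻¹ * x * k)).mp (c.hRU hx)
          have h2 : k * (k⁻¹ * x * k) * k⁻¹ = x := by group
          rwa [h2] at this
        · exact c.hRp.map _
      rwa [hPR] at hle'
    have heq : cj k R = R :=
      Subgroup.eq_of_le_of_card_ge hle (le_of_eq (card_cj k R).symm)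
    exact cj_eq_self_iff.mp heq
  have hUKH : U ⊔ K ≤ H := sup_le (hUN.trans c.hNH) (hKN.trans c.hNH)
  refine ⟨hrM, hUKH, ?_⟩
  intro g hg
  apply hrM
  have hHcj : H = cj g M := hg
  rw [← Cfsg.Agent.Lib.Helper01.BG134.mem_sigma_cj_iff g, ← hHcj]
  -- r ∈ σ(H)
  have hRH : R ≤ H := c.hRU.trans (le_sup_left.trans hUKH)
  have hcardH : Nat.card H = Nat.card M := by rw [hHcj]; exact card_cj g M
  refine ⟨c.hr, hrR.trans (Subgroup.card_dvd_of_le hRH), ?_⟩
  obtain ⟨P, hP⟩ := (c.hRp.comap_subtype (K := H)).exists_le_sylow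
  refine ⟨P, ?_⟩
  have hRP : R ≤ (P : Subgroup H).map H.subtype := by
    intro x hx
    exact ⟨⟨x, hRH hx⟩, hP (show (⟨x, hRH hx⟩ : H) ∈ R.comap H.subtype from hx), rfl⟩
  have hcard : Nat.card ((P : Subgroup H).map H.subtype) = Nat.card R := by
    rw [Subgroup.card_map_of_injective H.subtype_injective, P.card_eq_multiplicity, hcardH,
      card_of_max hRM c.hRp c.hRsyl]
  have hPR' : (P : Subgroup H).map H.subtype = R :=
    (Subgroup.eq_of_le_of_card_ge hRP (le_of_eq hcard)).symm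
  rw [hPR']
  exact c.hNH

end Cfsg.Agent.Lib.Helper36.BG1363B
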