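import Mathlib
import Cfsg.Agent.Lib.Helper14.FrobAction

/-!
# Pack K-1383 (S1383), leaf E3 (keystone 138306): a cyclic group acting on an extraspecial group of
order `p^3` without invariant lines has order dividing `p + 1`.
-/

set_option autoImplicit false

namespace Cfsg.Agent.Lib.Helper36.BG1383

open scoped Pointwise commutatorElement

/-- In a group of order `p^3` the derived subgroup is central. -/
theorem comm_central_of_card_cube {G : Type*} [Group G] [Finite G] (p : ℕ) [Fact p.Prime]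
    (P : Subgroup G) (hP : Nat.card P = p ^ 3) :
    ∀ z ∈ ⁅P, P⁆, ∀ x ∈ P, z * x = x * z := by
  have hpp : p.Prime := Fact.out
  have hPg : IsPGroup p P := IsPGroup.of_card hP
  haveI : Nontrivial P := by
    rw [← Finite.one_lt_card_iff_nontrivial, hP]
    exact Nat.one_lt_pow (by norm_num) hpp.one_lt
  haveI hcn : Nontrivial (Subgroup.center P) := hPg.center_nontrivial
  have hmul : Nat.card (P ⧸ Subgroup.center P) * Nat.card (Subgroup.center P) = p ^ 3 := by
    rw [← hP]; exact (Subgroup.card_eq_card_quotient_mul_card_subgroup (Subgroup.center P)).symm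
  have hC1 : 1 < Nat.card (Subgroup.center P) := Finite.one_lt_card_iff_nontrivial.2 hcn
  have hQdvd : Nat.card (P ⧸ Subgroup.center P) ∣ p ^ 3 := Dvd.intro _ hmul
  obtain ⟨j, hj3, hj⟩ := (Nat.dvd_prime_pow hpp).1 hQdvd
  have hj3' : j ≠ 3 := by
    rintro rfl
    rw [hj] at hmul
    have hpos : 0 < p ^ 3 := pow_pos hpp.pos 3
    have : Nat.card (Subgroup.center P) = 1 :=
      Nat.eq_of_mul_eq_mul_left hpos (by rw [hmul, mul_one])
    omega
  -- the quotient is commutative
  have hQcomm : ∀ a b : P ⧸ Subgroup.center P, a * b = b * a := by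
    interval_cases j
    · haveI : Subsingleton (P ⧸ Subgroup.center P) :=
        (Nat.card_eq_one_iff_unique.1 (by simpa using hj)).1
      intro a b; exact Subsingleton.elim _ _
    · haveI : IsCyclic (P ⧸ Subgroup.center P) :=
        isCyclic_of_prime_card (p := p) (by simpa using hj)
      intro a b
      exact (IsCyclic.commGroup (α := P ⧸ Subgroup.center P)).mul_comm a b
    · exact IsPGroup.commutative_of_card_eq_prime_sq hj
    · exact absurd rfl hj3'
  have hcomm : ∀ a b : P, ⁅a, b⁆ ∈ Subgroup.center P := by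
    intro a b
    rw [← QuotientGroup.eq_one_iff, commutatorElement_def]
    simp only [QuotientGroup.mk_mul, QuotientGroup.mk_inv]
    rw [hQcomm (a : P ⧸ Subgroup.center P) b]; group
  have hle : ⁅P, P⁆ ≤ Subgroup.centralizer (P : Set G) := by
    rw [Subgroup.commutator_le]
    intro a ha b hb
    rw [Subgroup.mem_centralizer_iff]
    intro x hx
    have h := hcomm ⟨a, ha⟩ ⟨b, hb⟩
    rw [Subgroup.mem_center_iff] at h
    have h3 := congrArg Subtype.val (h ⟨x, hx⟩)
    simpa [commutatorElement_def] using h3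
  intro z hz x hx
  exact ((Subgroup.mem_centralizer_iff.1 (hle hz)) x hx).symm

/-- pure arithmetic for the count of lines -/
theorem e3_arith (p t c y : ℕ) (hp : 2 ≤ p) (hc : c + p = p ^ 2) (hy : y + p = p ^ 3)
    (hyt : y = t * c) : t = p + 1 := by
  have hcpos : 0 < c := by nlinarith
  have key : t * c = (p + 1) * c := by
    rw [← hyt]
    zify at hc hy ⊢
    linear_combination hy - ((p : ℤ) + 1) * hc
  exact Nat.eq_of_mul_eq_mul_right hcpos key

/-- the subgroup `⟨v⟩ Z` is commutative when `Z` is central in `P ∋ v` -/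
theorem e3_comm_of_sup {G : Type*} [Group G] (P Z : Subgroup G) (hZP : Z ≤ P)
    (hcen : ∀ z ∈ Z, ∀ x ∈ P, z * x = x * z) (v : G) (hv : v ∈ P) :
    ∀ a ∈ Subgroup.zpowers v ⊔ Z, ∀ b ∈ Subgroup.zpowers v ⊔ Z, a * b = b * a := by
  have h1 : Subgroup.zpowers v ≤ Subgroup.centralizer ((Subgroup.zpowers v ⊔ Z : Subgroup G) : Set G) := by
    rw [Subgroup.le_centralizer_iff]
    apply sup_le
    · rw [Subgroup.zpowers_le]
      rw [Subgroup.mem_centralizer_iff]
      intro h hh
      obtain ⟨n, rfl⟩ := Subgroup.mem_zpowers_iff.1 hh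
      exact (Commute.zpow_left (Commute.refl v) n).eq
    · intro z hz
      rw [Subgroup.mem_centralizer_iff]
      intro h hh
      obtain ⟨n, rfl⟩ := Subgroup.mem_zpowers_iff.1 hh
      have : Commute v z := (hcen z hz v hv).symm
      exact (Commute.zpow_left this n).eq
  have h2 : Z ≤ Subgroup.centralizer ((Subgroup.zpowers v ⊔ Z : Subgroup G) : Set G) := by
    rw [Subgroup.le_centralizer_iff]
    apply sup_le
    · rw [Subgroup.zpowers_le]
      rw [Subgroup.mem_centralizer_iff]
      intro z hz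
      exact hcen z hz v hv
    · intro z hz
      rw [Subgroup.mem_centralizer_iff]
      intro z' hz'
      exact hcen z' hz' z (hZP hz)
  have h3 : Subgroup.zpowers v ⊔ Z ≤
      Subgroup.centralizer ((Subgroup.zpowers v ⊔ Z : Subgroup G) : Set G) := sup_le h1 h2
  intro a ha b hb
  exact ((Subgroup.mem_centralizer_iff.1 (h3 ha)) b hb).symm

/-- the line `⟨v⟩ Z` of a noncentral element has order `p^2` -/
theorem e3_card_line {G : Type*} [Group G] [Finite G] (p : ℕ) [Fact p.Prime]
    (P Z : Subgroup G) (hP : Nat.card P = p ^ 3) (hPna : ¬ IsMulCommutative P) (hZP : Z ≤ P)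
    (hZ : Nat.card Z = p) (hcen : ∀ z ∈ Z, ∀ x ∈ P, z * x = x * z) (v : G) (hv : v ∈ P)
    (hvZ : v ∉ Z) : Nat.card ↥(Subgroup.zpowers v ⊔ Z) = p ^ 2 := by
  have hpp : p.Prime := Fact.out
  have hLP : Subgroup.zpowers v ⊔ Z ≤ P := sup_le ((Subgroup.zpowers_le).2 hv) hZP
  have hZL : Z ≤ Subgroup.zpowers v ⊔ Z := le_sup_right
  have hvL : v ∈ Subgroup.zpowers v ⊔ Z := le_sup_left (a := Subgroup.zpowers v) (Subgroup.mem_zpowers v)
  have hdvd : Nat.card ↥(Subgroup.zpowers v ⊔ Z) ∣ p ^ 3 := hP ▸ Subgroup.card_dvd_of_le hLP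
  obtain ⟨j, hj3, hj⟩ := (Nat.dvd_prime_pow hpp).1 hdvd
  have hZdvd : Nat.card Z ∣ Nat.card ↥(Subgroup.zpowers v ⊔ Z) := Subgroup.card_dvd_of_le hZL
  rw [hZ, hj] at hZdvd
  interval_cases j
  · exfalso
    rw [pow_zero, Nat.dvd_one] at hZdvd
    exact hpp.one_lt.ne' hZdvd
  · exfalso
    apply hvZ
    have : Z = Subgroup.zpowers v ⊔ Z :=
      Subgroup.eq_of_le_of_card_ge hZL (by rw [hj, hZ, pow_one])
    rw [this]; exact hvL
  · exact hj
  · exfalso
    apply hPna
    have hEq : Subgroup.zpowers v ⊔ Z = P :=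
      Subgroup.eq_of_le_of_card_ge hLP (by rw [hj, hP])
    have hc := e3_comm_of_sup P Z hZP hcen v hv
    rw [hEq] at hc
    exact ⟨⟨fun a b => Subtype.ext (hc a.1 a.2 b.1 b.2)⟩⟩

/-- there are `p + 1` lines -/
theorem e3_card_lines {G : Type*} [Group G] [Finite G] (p : ℕ) [Fact p.Prime]
    (P Z : Subgroup G) (hP : Nat.card P = p ^ 3) (hPna : ¬ IsMulCommutative P) (hZP : Z ≤ P)
    (hZ : Nat.card Z = p) (hcen : ∀ z ∈ Z, ∀ x ∈ P, z * x = x * z) :
    Nat.card ({L : Subgroup G | Z ≤ L ∧ L ≤ P ∧ Nat.card L = p ^ 2} : Set (Subgroup G)) =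
      p + 1 := by
  classical
  have hpp : p.Prime := Fact.out
  haveI : Fintype G := Fintype.ofFinite G
  haveI : Fintype (Subgroup G) := Fintype.ofFinite _
  set S : Set (Subgroup G) := {L : Subgroup G | Z ≤ L ∧ L ≤ P ∧ Nat.card L = p ^ 2} with hS
  set f : G → Subgroup G := fun v => Subgroup.zpowers v ⊔ Z with hf
  set fin : Subgroup G → Finset G := fun H => Finset.univ.filter (fun x => x ∈ H) with hfin
  have hfincard : ∀ H : Subgroup G, (fin H).card = Nat.card H := by
    intro H
    rw [Nat.card_eq_fintype_card, Fintype.card_subtype]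
  set Y : Finset G := fin P \ fin Z with hY
  set T : Finset (Subgroup G) := Finset.univ.filter (fun L => L ∈ S) with hT
  have hTcard : T.card = Nat.card S := by
    rw [Nat.card_eq_fintype_card, Fintype.card_subtype]
  have hZsubP : fin Z ⊆ fin P := by
    intro x hx
    simp only [hfin, Finset.mem_filter, Finset.mem_univ, true_and] at hx ⊢
    exact hZP hx
  have hYcard : Y.card + p = p ^ 3 := by
    rw [hY]
    conv_lhs => rw [← hZ, ← hfincard Z]
    rw [Finset.card_sdiff_add_card_eq_card hZsubP, hfincard, hP]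
  have hmemY : ∀ v, v ∈ Y ↔ v ∈ P ∧ v ∉ Z := by
    intro v; simp [hY, hfin]
  have hfT : ∀ v ∈ Y, f v ∈ T := by
    intro v hv
    obtain ⟨hvP, hvZ⟩ := (hmemY v).1 hv
    simp only [hT, Finset.mem_filter, Finset.mem_univ, true_and]
    exact ⟨le_sup_right, sup_le ((Subgroup.zpowers_le).2 hvP) hZP,
      e3_card_line p P Z hP hPna hZP hZ hcen v hvP hvZ⟩
  have hfib : ∀ L ∈ T, (Y.filter (fun v => f v = L)).card + p = p ^ 2 := by
    intro L hL
    simp only [hT, Finset.mem_filter, Finset.mem_univ, true_and] at hL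
    obtain ⟨hZL, hLP, hLc⟩ := hL
    have hEq : Y.filter (fun v => f v = L) = fin L \ fin Z := by
      ext v
      simp only [Finset.mem_filter, hmemY, Finset.mem_sdiff, hfin, Finset.mem_univ, true_and]
      constructor
      · rintro ⟨⟨hvP, hvZ⟩, hfv⟩
        refine ⟨?_, hvZ⟩
        rw [← hfv]
        exact le_sup_left (a := Subgroup.zpowers v) (Subgroup.mem_zpowers v)
      · rintro ⟨hvL, hvZ⟩
        refine ⟨⟨hLP hvL, hvZ⟩, ?_⟩
        have hle : f v ≤ L := sup_le ((Subgroup.zpowers_le).2 hvL) hZL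
        exact Subgroup.eq_of_le_of_card_ge hle (by
          rw [hLc]
          exact (e3_card_line p P Z hP hPna hZP hZ hcen v (hLP hvL) hvZ).ge)
    have hZsubL : fin Z ⊆ fin L := by
      intro x hx
      simp only [hfin, Finset.mem_filter, Finset.mem_univ, true_and] at hx ⊢
      exact hZL hx
    rw [hEq]
    conv_lhs => rw [← hZ, ← hfincard Z]
    rw [Finset.card_sdiff_add_card_eq_card hZsubL, hfincard, hLc]
  have hsum : Y.card = T.card * (p ^ 2 - p) := by
    rw [Finset.card_eq_sum_card_fiberwise hfT]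
    rw [Finset.sum_const_nat (m := p ^ 2 - p)]
    intro L hL
    have := hfib L hL
    omega
  rw [← hTcard]
  have hple : p ≤ p ^ 2 := Nat.le_self_pow (by norm_num) p
  exact e3_arith p T.card (p ^ 2 - p) Y.card hpp.two_le (Nat.sub_add_cancel hple) hYcard hsum

/-- K-1383-E3 -/
theorem card_dvd_succ_of_no_invariant_line {G : Type*} [Group G] [Finite G] (p : ℕ) [Fact p.Prime]
    (hp : p ≠ 2) (P K : Subgroup G) (hP : Nat.card P = p ^ 3) (hPna : ¬ IsMulCommutative P)
    (hKP : K ≤ Subgroup.normalizer (P : Set G)) (hKc : IsCyclic K)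
    (hcop : (Nat.card K).Coprime p) (hodd : Odd (Nat.card K))
    (hZ : Nat.card ↥(P ⊓ Subgroup.centralizer (K : Set G)) = p)
    (hZ' : P ⊓ Subgroup.centralizer (K : Set G) ≤ ⁅P, P⁆)
    (hfix : ∀ k ∈ K, k ≠ 1 →
      P ⊓ Subgroup.centralizer ({k} : Set G) = P ⊓ Subgroup.centralizer (K : Set G))
    (hline : ∀ a ∈ K, a ≠ 1 → ∀ v ∈ P, v ∉ Subgroup.centralizer (K : Set G) →
      a * v * a⁻¹ ∉ Subgroup.zpowers v ⊔ (P ⊓ Subgroup.centralizer (K : Set G))) :
    Nat.card K ∣ p + 1 := by
  classical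
  have hpp : p.Prime := Fact.out
  set Z : Subgroup G := P ⊓ Subgroup.centralizer (K : Set G) with hZdef
  have hZP : Z ≤ P := inf_le_left
  have hcen : ∀ z ∈ Z, ∀ x ∈ P, z * x = x * z := fun z hz x hx =>
    comm_central_of_card_cube p P hP z (hZ' hz) x hx
  have hKZ : ∀ k ∈ K, ∀ z ∈ Z, k⁻¹ * z * k = z := by
    intro k hk z hz
    have h := (Subgroup.mem_centralizer_iff.1 hz.2) k hk
    rw [mul_assoc, ← h]; group
  set S : Set (Subgroup G) := {L : Subgroup G | Z ≤ L ∧ L ≤ P ∧ Nat.card L = p ^ 2} with hS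
  have hScard : Nat.card S = p + 1 := e3_card_lines p P Z hP hPna hZP hZ hcen
  letI : MulAction K (Subgroup G) :=
    MulAction.compHom (Subgroup G) ((MulAut.conj : G →* MulAut G).comp K.subtype)
  have hsmul : ∀ (k : K) (L : Subgroup G), k • L = (MulAut.conj (k : G)) • L := fun k L => rfl
  have hmem : ∀ (k : K) (L : Subgroup G) (x : G), x ∈ k • L ↔ (k : G)⁻¹ * x * k ∈ L := by
    intro k L x
    rw [hsmul, Subgroup.mem_pointwise_smul_iff_inv_smul_mem, MulAut.smul_def, ← map_inv,
      MulAut.conj_apply, inv_inv]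
  have hcardsmul : ∀ (k : K) (L : Subgroup G), Nat.card ↥(k • L) = Nat.card L := by
    intro k L
    rw [hsmul]
    exact (Nat.card_congr (Subgroup.equivSMul (MulAut.conj (k : G)) L).toEquiv).symm
  have hdiv := Cfsg.Agent.Lib.Helper14.card_dvd_card_of_free (K := K) S ?_ ?_
  · rw [hScard] at hdiv; exact hdiv
  · -- invariance
    rintro k L ⟨hZL, hLP, hLc⟩
    refine ⟨?_, ?_, ?_⟩
    · intro z hz
      rw [hmem, hKZ k k.2 z hz]
      exact hZL hz
    · intro x hx
      rw [hmem] at hx
      have h1 := hLP hx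
      have hkN := hKP k.2
      have h2 := (Subgroup.mem_normalizer_iff.1 hkN ((k : G)⁻¹ * x * k)).1 h1
      have : (k : G) * ((k : G)⁻¹ * x * k) * (k : G)⁻¹ = x := by group
      rwa [this] at h2
    · rw [hcardsmul, hLc]
  · -- freeness
    rintro k L ⟨hZL, hLP, hLc⟩ hkL
    by_contra hk1
    have hk1' : (k : G) ≠ 1 := fun h => hk1 (Subtype.ext h)
    -- an element of L outside Z
    have hex : ∃ v ∈ L, v ∉ Z := by
      by_contra hcon
      push_neg at hcon
      have hLZ : L ≤ Z := hcon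
      have := Subgroup.card_le_of_le hLZ
      rw [hLc, hZ] at this
      have h2 : p < p ^ 2 := by
        have := hpp.two_le
        nlinarith
      omega
    obtain ⟨v, hvL, hvZ⟩ := hex
    have hvP : v ∈ P := hLP hvL
    have hvC : v ∉ Subgroup.centralizer (K : Set G) := fun h => hvZ ⟨hvP, h⟩
    have hLv : Subgroup.zpowers v ⊔ Z = L := by
      have hle : Subgroup.zpowers v ⊔ Z ≤ L := sup_le ((Subgroup.zpowers_le).2 hvL) hZL
      exact Subgroup.eq_of_le_of_card_ge hle (by
        rw [hLc]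
        exact (e3_card_line p P Z hP hPna hZP hZ hcen v hvP hvZ).ge)
    have h3 : (k : G) * v * (k : G)⁻¹ ∈ k • L := by
      rw [hmem]
      have : (k : G)⁻¹ * ((k : G) * v * (k : G)⁻¹) * (k : G) = v := by group
      rw [this]; exact hvL
    rw [hkL, ← hLv] at h3
    exact hline (k : G) k.2 hk1' v hvP hvC h3

end Cfsg.Agent.Lib.Helper36.BG1383
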