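import Cfsg.Agent.Lib.Helper31.Bg10a
import Cfsg.Agent.Lib.Helper12.CNMaxSub

set_option autoImplicit false

/-! BG 13.9 (sigma-partition), the covering half: every prime divisor of `#G` lies in `σ(M)` for
some maximal subgroup `M`. -/

namespace Cfsg.Agent.Lib.Helper36.BG139

open Cfsg Cfsg.Agent.Lib.Helper55

variable {G : Type*} [Group G] [Finite G]

/-- a Sylow `p`-subgroup of a minimal simple group of odd order is a proper subgroup -/
theorem sylow_ne_top (hG : IsMinSimpleOddOrder G) {p : ℕ} [Fact p.Prime] (P : Sylow p G) :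
    (P : Subgroup G) ≠ ⊤ := by
  intro htop
  have hsolv : ¬ Group.IsSolvable G := by
    intro hs
    haveI := hG.2.1
    haveI := hs
    exact hG.2.2.1 ⟨⟨fun a b => by
      have := IsSimpleGroup.comm_iff_isSolvable.mpr hs
      exact this a b⟩⟩
  apply hsolv
  have hp : IsPGroup p G := by
    have h := P.isPGroup'
    rw [htop] at h
    exact IsPGroup.of_equiv h Subgroup.topEquiv
  haveI : Group.IsNilpotent G := hp.isNilpotent
  infer_instance

/-- every prime divisor of `#G` lies in `σ(M)` for some maximal subgroup `M` -/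
theorem exists_coatom_mem_sigma (hG : IsMinSimpleOddOrder G) (p : ℕ) (hp : p.Prime)
    (hpG : p ∣ Nat.card G) : ∃ M : Subgroup G, IsCoatom M ∧ p ∈ sigma M := by
  haveI : Fact p.Prime := ⟨hp⟩
  obtain ⟨P⟩ : Nonempty (Sylow p G) := inferInstance
  have hP1 : (P : Subgroup G) ≠ ⊥ := P.ne_bot_of_dvd_card hpG
  have hPtop : (P : Subgroup G) ≠ ⊤ := sylow_ne_top hG P
  obtain ⟨M, hM, hNM⟩ := Cfsg.Agent.Lib.Helper12.CNMaxSub.exists_coatom_normalizer_le hG hP1 hPtop
  have hPM : (P : Subgroup G) ≤ M := le_trans Subgroup.le_normalizer hNM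
  exact ⟨M, hM, Cfsg.Agent.Lib.Helper31.Bg10.mem_sigma_of_normalizer_le
    (isSylowIn_of_sylow_le P hPM) hP1 hNM⟩

end Cfsg.Agent.Lib.Helper36.BG139
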