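import Mathlib
import Cfsg.Agent.Lib.Helper16.BG1363Defs
import Cfsg.Agent.Lib.Helper55.Basic
import Cfsg.Agent.Lib.Helper55.Uniq2
import Cfsg.Agent.Lib.Helper71.BG11a
import Cfsg.Agent.Lib.Helper31.BG147C
import Cfsg.Agent.Lib.Helper13.BG127
import Cfsg.Agent.Lib.Helper69.Nilpotent
import Cfsg.Agent.Lib.Helper78.BG15KPrime
import Cfsg.Agent.Lib.Helper57.BG139K3c
import Cfsg.Agent.Lib.Helper36.BG14P2K
import Cfsg.Agent.S1431

/-!
# Pack K-1435 (S1435), keystone 143522 K-1435-P18 `false_of_kstar_elt`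
(parallel hand by helper36; spec `notes/S1435_keystones.lean.txt`).

`V := Ω₁(Z(M_σ))_t` (central elements of `M_σ` of order dividing `t`) is a nontrivial `M`-invariant
elementary abelian `t`-group inside `C(T)`, so `|V| ≤ t²`; Frobenius–Wielandt for `U ⋊ K` acting on
`V` gives `|V| = |C_V(K)|^|K| ≥ t³`.
-/

set_option autoImplicit false

namespace Cfsg.Agent.Lib.Helper36.BG1435P18

open Cfsg Subgroup Cfsg.Agent.Lib.Helper55 Cfsg.Agent.Lib.Helper11.BG14D Cfsg.Agent.Lib.Helper16.BG1363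

variable {G : Type*} [Group G] [Finite G]

/-- the central elements of `N` of order dividing `t` -/
def omegaZ (N : Subgroup G) (t : ℕ) : Subgroup G where
  carrier := {z | z ∈ N ∧ (∀ x ∈ N, x * z = z * x) ∧ z ^ t = 1}
  one_mem' := ⟨N.one_mem, fun x _ => by simp, one_pow t⟩
  mul_mem' := by
    rintro a b ⟨ha, hac, hat⟩ ⟨hb, hbc, hbt⟩
    refine ⟨N.mul_mem ha hb, ?_, ?_⟩
    · intro x hx
      rw [← mul_assoc, hac x hx, mul_assoc, hbc x hx, ← mul_assoc]
    · have hcomm : Commute a b := (hbc a ha)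
      rw [hcomm.mul_pow, hat, hbt, one_mul]
  inv_mem' := by
    rintro a ⟨ha, hac, hat⟩
    refine ⟨N.inv_mem ha, ?_, by rw [inv_pow, hat, inv_one]⟩
    intro x hx
    have := hac x hx
    calc x * a⁻¹ = a⁻¹ * (a * x) * a⁻¹ := by group
      _ = a⁻¹ * (x * a) * a⁻¹ := by rw [this]
      _ = a⁻¹ * x := by group

theorem omegaZ_le (N : Subgroup G) (t : ℕ) : omegaZ N t ≤ N := fun _ hz => hz.1

theorem omegaZ_comm (N : Subgroup G) (t : ℕ) : ∀ a ∈ omegaZ N t, ∀ b ∈ omegaZ N t, a * b = b * a :=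
  fun a ha b hb => hb.2.1 a ha.1

/-- anything normalizing `N` normalizes `omegaZ N t` -/
theorem conj_mem_omegaZ {N : Subgroup G} {t : ℕ} {m : G} (hm : m ∈ normalizer (N : Set G)) {z : G}
    (hz : z ∈ omegaZ N t) : m * z * m⁻¹ ∈ omegaZ N t := by
  obtain ⟨hzN, hzc, hzt⟩ := hz
  have hmn := Subgroup.mem_normalizer_iff.mp hm
  refine ⟨(hmn z).mp hzN, ?_, ?_⟩
  · intro x hx
    have hx' : m⁻¹ * x * m ∈ N := by
      have := (hmn (m⁻¹ * x * m)).mpr (by
        have : m * (m⁻¹ * x * m) * m⁻¹ = x := by group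
        rw [this]; exact hx)
      exact this
    have := hzc _ hx'
    calc x * (m * z * m⁻¹) = m * ((m⁻¹ * x * m) * z) * m⁻¹ := by group
      _ = m * (z * (m⁻¹ * x * m)) * m⁻¹ := by rw [this]
      _ = m * z * m⁻¹ * x := by group
  · rw [conj_pow, hzt]; group

/-- KEYSTONE 143522  K-1435-P18. -/
theorem false_of_kstar_elt (hG : IsMinSimpleOddOrder G) {M K U T H' : Subgroup G} (hM : IsCoatom M)
    (hKU : IsSigmaDecomposition M K U) (hK1 : K ≠ ⊥) (hU1 : U ≠ ⊥) {t : ℕ} (ht : t.Prime)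
    (y : G) (hy : y ∈ Ks M K) (hyt : orderOf y = t) (hTt : Nat.card T = t)
    (hTy : ∀ τ ∈ T, τ * y = y * τ) (hCT : centralizer (T : Set G) ≤ H') (hrank : PRankLE t 2 H') :
    False := by
  classical
  haveI : Fact t.Prime := ⟨ht⟩
  have hK := hKU.hall
  have hU := hKU.compl
  have hH := Cfsg.Agent.Lib.Helper82.BG134.hallOf hG hM
  have hσM : sigmaCore M ≤ M := Cfsg.Agent.Lib.Helper71.BG11.sigmaCore_le M
  have hMσ : M ≤ Subgroup.normalizer (sigmaCore M : Set G) :=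
    Cfsg.Agent.Lib.Helper71.BG11.le_normalizer_sigmaCore M
  have hKM : K ≤ M := hK.1
  have hUM : U ≤ M := hU.1
  have h31 : H1431 G := fun M hM K hK hK1 => Cfsg.Agent.S1431.result hG M hM K hK hK1
  have hyσ : y ∈ sigmaCore M := hy.1
  have hy1 : y ≠ 1 := by
    intro h
    rw [h, orderOf_one] at hyt
    exact ht.ne_one hyt.symm
  -- t ∈ σ(M)
  have htσ : t ∈ sigma M := by
    apply Cfsg.Agent.Lib.Helper71.BG11.sigmaCore_pi hG hM ht
    have := orderOf_dvd_natCard (⟨y, hyσ⟩ : sigmaCore M)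
    rwa [Subgroup.orderOf_mk, hyt] at this
  -- T ≤ M
  have hTM : T ≤ M := by
    have hX : Subgroup.zpowers y ≤ Ks M K := by
      rw [Subgroup.zpowers_le]; exact hy
    have hX1 : Subgroup.zpowers y ≠ ⊥ := by
      intro h
      exact hy1 (Subgroup.zpowers_eq_bot.mp h)
    have hc := Cfsg.Agent.Lib.Helper31.BG147.centralizer_le h31 hM hK hK1 hX hX1
    intro τ hτ
    apply hc
    rw [Subgroup.mem_centralizer_iff]
    intro z hz
    obtain ⟨n, rfl⟩ := Subgroup.mem_zpowers_iff.mp hz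
    have : Commute τ y := hTy τ hτ
    exact ((this.zpow_right n).eq).symm
  have hTp : IsPGroup t T := IsPGroup.of_card (n := 1) (by rw [hTt, pow_one])
  have hTσ : T ≤ sigmaCore M :=
    Cfsg.Agent.Lib.Helper13.BG127.pgroup_le_sigmaCore hG hM htσ hTM hTp
  -- M_σ nilpotent, |K| prime
  have hnilσ : Group.IsNilpotent (sigmaCore M) :=
    Cfsg.Agent.Lib.Helper36.BG14.sigmaCore_nilpotent_of_ne_bot hG M hM K U hKU hU1
  have hKp : (Nat.card K).Prime :=
    Cfsg.Agent.Lib.Helper36.BG14.card_prime_of_ne_bot hG M hM K U hKU hK1 hU1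
  -- V
  set V : Subgroup G := omegaZ (sigmaCore M) t with hV
  have hVσ : V ≤ sigmaCore M := omegaZ_le _ _
  have hVc : ∀ a ∈ V, ∀ b ∈ V, a * b = b * a := omegaZ_comm _ _
  have hVn : ∀ m ∈ M, ∀ z ∈ V, m * z * m⁻¹ ∈ V := fun m hm z hz => conj_mem_omegaZ (hMσ hm) hz
  -- V ≠ ⊥
  have hV1 : V ≠ ⊥ := by
    haveI := hnilσ
    obtain ⟨S⟩ : Nonempty (Sylow t (sigmaCore M)) := inferInstance
    haveI hSn : (S : Subgroup (sigmaCore M)).Normal := inferInstance
    have htd : t ∣ Nat.card (sigmaCore M) := by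
      have := orderOf_dvd_natCard (⟨y, hyσ⟩ : sigmaCore M)
      rwa [Subgroup.orderOf_mk, hyt] at this
    have hS1 : (S : Subgroup (sigmaCore M)) ≠ ⊥ := S.ne_bot_of_dvd_card htd
    obtain ⟨z, hzS, hzc, hz1⟩ :=
      Cfsg.Agent.Lib.Helper69.exists_mem_center_of_normal (S : Subgroup (sigmaCore M)) hS1
    obtain ⟨n, hn⟩ := (IsPGroup.iff_orderOf.mp S.isPGroup') ⟨z, hzS⟩
    have hn' : orderOf z = t ^ n := by
      have : orderOf (⟨z, hzS⟩ : (S : Subgroup (sigmaCore M))) = orderOf z := Subgroup.orderOf_mk z hzS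
      rw [← this]; exact hn
    have hn0 : n ≠ 0 := by
      intro h0
      rw [h0, pow_zero, orderOf_eq_one_iff] at hn'
      exact hz1 hn'
    have htz : t ∣ orderOf z := by rw [hn']; exact dvd_pow_self t hn0
    have hoz : orderOf z ≠ 0 := (orderOf_pos z).ne'
    set w := z ^ (orderOf z / t) with hw
    have hwo : orderOf w = t := orderOf_pow_orderOf_div hoz htz
    have hwc : w ∈ Subgroup.center (sigmaCore M) := Subgroup.pow_mem _ hzc _
    have hw1 : w ≠ 1 := by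
      intro h
      rw [h, orderOf_one] at hwo
      exact ht.ne_one hwo.symm
    intro hbot
    have hwV : (w : G) ∈ V := by
      refine ⟨w.2, ?_, ?_⟩
      · intro x hx
        have := (Subgroup.mem_center_iff.mp hwc) ⟨x, hx⟩
        exact congrArg Subtype.val this
      · have : w ^ t = 1 := by rw [← hwo]; exact pow_orderOf_eq_one w
        exact_mod_cast congrArg Subtype.val this
    rw [hbot, Subgroup.mem_bot] at hwV
    exact hw1 (Subtype.ext hwV)
  -- |V| ≤ t²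
  have hVT : V ≤ centralizer (T : Set G) := by
    intro z hz
    rw [Subgroup.mem_centralizer_iff]
    intro τ hτ
    exact hz.2.1 τ (hTσ hτ)
  have hVH : V ≤ H' := hVT.trans hCT
  have hVcard : Nat.card V ≤ t ^ 2 := by
    have h1 := hrank (V.subgroupOf H') ⟨⟨fun a b => by
      apply Subtype.ext; apply Subtype.ext
      exact hVc a.1.1 a.2 b.1.1 b.2⟩⟩ (by
      intro a ha
      apply Subtype.ext
      have : (a : G) ^ t = 1 := (Subgroup.mem_subgroupOf.mp ha).2.2
      exact_mod_cast this)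
    rwa [Nat.card_congr (Subgroup.subgroupOfEquivOfLe hVH).toEquiv] at h1
  -- Frobenius–Wielandt
  have hfree := Cfsg.Agent.S1353.result hG M hM K U hKU
  have hUnK : ∀ e ∈ K, ∀ u ∈ U, e * u * e⁻¹ ∈ U := fun e he u hu =>
    (Subgroup.mem_normalizer_iff.mp (hKU.normal he) u).mp hu
  have hfpfK : ∀ e ∈ K, e ≠ 1 → ∀ u ∈ U, e * u = u * e → u = 1 := by
    intro e he he1 u hu hc
    have : u ∈ U ⊓ Subgroup.centralizer ({e} : Set G) :=
      Subgroup.mem_inf.mpr ⟨hu, by
        rw [Subgroup.mem_centralizer_iff]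
        intro y hy
        rw [Set.mem_singleton_iff] at hy
        subst hy
        exact hc⟩
    rw [hfree e he he1] at this
    exact Subgroup.mem_bot.mp this
  have hnil : Group.IsNilpotent U :=
    Cfsg.Agent.Lib.Helper03.FrobThompson.isNilpotent_of_fpf U K hK1 hUnK hfpfK
  have hUKM : U ⊔ K ≤ M := sup_le hUM hKM
  have hHnK : ∀ x ∈ U ⊔ K, ∀ h ∈ V, x * h * x⁻¹ ∈ V := fun x hx h hh => hVn x (hUKM hx) h hh
  have hsolvV : Group.IsSolvable V := by
    letI : CommGroup V :=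
      { (inferInstance : Group V) with mul_comm := fun a b => Subtype.ext (hVc a.1 a.2 b.1 b.2) }
    exact Group.isSolvable_of_comm (fun a b => mul_comm a b)
  have hcopK : Nat.Coprime (Nat.card (sigmaCore M)) (Nat.card ↥(U ⊔ K)) := by
    have h2 : Nat.card ↥(U ⊔ K) ∣ Nat.card U * Nat.card K :=
      Cfsg.Agent.Lib.Helper29.card_sup_dvd_of_le_normalizer U K hKU.normal
    apply Nat.Coprime.coprime_dvd_right h2
    apply Cfsg.Agent.Lib.Helper13.BG12.coprime_of_primes_disjoint (π := (sigma M)ᶜ)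
    · intro q hq hqd hqc
      exact hqc (hH.2.1 q hq hqd)
    · intro q hq hqd
      rcases (Nat.Prime.dvd_mul hq).mp hqd with h | h
      · exact (Cfsg.Agent.Lib.Helper36.BG14.not_mem_of_dvd_card_U hG hM hK hU hq h).1
      · exact (hK.2.1 q hq h).2.2.1
  have hcopV : Nat.Coprime (Nat.card V) (Nat.card ↥(U ⊔ K)) :=
    Nat.Coprime.coprime_dvd_left (Subgroup.card_dvd_of_le hVσ) hcopK
  have hW := Cfsg.Agent.Lib.Helper03.FrobSub.wielandt_sub U K V hUnK hfpfK hnil hHnK hsolvV hcopV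
  -- M_σ ⊓ C(U) = ⊥
  have hCU : sigmaCore M ⊓ centralizer (U : Set G) = ⊥ := by
    have hUc : Nat.card U ≠ 1 := fun h => hU1 (Subgroup.card_eq_one.mp h)
    obtain ⟨r, hr, hrU⟩ := Nat.exists_prime_and_dvd hUc
    haveI : Fact r.Prime := ⟨hr⟩
    obtain ⟨hrσ, hrκ⟩ := Cfsg.Agent.Lib.Helper36.BG14.not_mem_of_dvd_card_U hG hM hK hU hr hrU
    have hrM : r ∣ Nat.card M := dvd_trans hrU (Subgroup.card_dvd_of_le hUM)
    have hidx : ¬ r ∣ U.relIndex M := by
      rw [Cfsg.Agent.Lib.Helper57.BG139.relIndex_eq_card_of_complIn' hU]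
      intro hd
      have hdvd : Nat.card ↥(K ⊔ sigmaCore M) ∣ Nat.card (sigmaCore M) * Nat.card K := by
        rw [sup_comm]
        exact Cfsg.Agent.Lib.Helper29.card_sup_dvd_of_le_normalizer (sigmaCore M) K (hKM.trans hMσ)
      rcases (Nat.Prime.dvd_mul hr).mp (hd.trans hdvd) with h | h
      · exact hrσ (Cfsg.Agent.Lib.Helper71.BG11.sigmaCore_pi hG hM hr h)
      · exact hrκ (hK.2.1 r hr h)
    obtain ⟨S, hS⟩ := Cfsg.Agent.Lib.Helper78.BG15.exists_sylow_map_le hUM hidx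
    have hP1 : ¬ (∀ q : ℕ, q.Prime → q ∣ Nat.card M → q ∉ sigma M → q ∈ kappa M) :=
      fun h => hrκ (h r hr hrM hrσ)
    have h29 := (Cfsg.Agent.S1429.result hG M hM hP1 r hrM
      (by rintro (h | h); exact hrσ h; exact hrκ h) S).2.1
    rw [eq_bot_iff, ← h29]
    refine inf_le_inf_left _ (Subgroup.centralizer_le ?_)
    have : Subgroup.closure {x : G | x ∈ (S : Subgroup M).map M.subtype ∧ x ^ r = 1} ≤ U := by
      rw [Subgroup.closure_le]
      rintro x ⟨hxS, -⟩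
      exact hS hxS
    exact_mod_cast this
  have hf1 : Nat.card ↥(V ⊓ centralizer (U : Set G)) = 1 := by
    have hle : V ⊓ centralizer (U : Set G) ≤ sigmaCore M ⊓ centralizer (U : Set G) :=
      inf_le_inf_right _ hVσ
    rw [hCU] at hle
    rw [le_bot_iff.mp hle]; simp
  have hc1 : Nat.card ↥(V ⊓ centralizer ((U ⊔ K : Subgroup G) : Set G)) = 1 := by
    have hle : V ⊓ centralizer ((U ⊔ K : Subgroup G) : Set G) ≤ sigmaCore M ⊓ centralizer (U : Set G) :=
      inf_le_inf hVσ (Subgroup.centralizer_le (by exact_mod_cast (le_sup_left : U ≤ U ⊔ K)))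
    rw [hCU] at hle
    rw [le_bot_iff.mp hle]; simp
  simp only [hf1, hc1, one_pow, one_mul, mul_one] at hW
  -- hW : |V| = d ^ k
  set d := Nat.card ↥(V ⊓ centralizer (K : Set G)) with hd
  set k := Nat.card K with hk
  -- k ≥ 3
  have hk3 : 3 ≤ k := by
    have hodd : Odd k := Cfsg.Agent.Lib.Helper55.ms_odd hG K
    have h2 : 2 ≤ k := hKp.two_le
    rcases hodd with ⟨m, hm⟩
    omega
  -- V is a t-group
  have hVp : IsPGroup t V := by
    intro z
    refine ⟨1, ?_⟩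
    apply Subtype.ext
    have : (z : G) ^ t = 1 := z.2.2.2
    simpa using this
  obtain ⟨n, hn⟩ := IsPGroup.iff_card.mp hVp
  have hd_dvd : d ∣ t ^ n := by
    rw [← hn]
    exact Subgroup.card_dvd_of_le inf_le_left
  obtain ⟨j, -, hj⟩ := (Nat.dvd_prime_pow ht).mp hd_dvd
  have hVne1 : Nat.card V ≠ 1 := fun h => hV1 (Subgroup.card_eq_one.mp h)
  have hj0 : j ≠ 0 := by
    intro h0
    rw [h0, pow_zero] at hj
    rw [hj, one_pow] at hW
    exact hVne1 hW
  have hdt : t ≤ d := by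
    rw [hj]
    calc t = t ^ 1 := (pow_one t).symm
      _ ≤ t ^ j := Nat.pow_le_pow_right ht.pos (Nat.one_le_iff_ne_zero.mpr hj0)
  have h3 : t ^ 3 ≤ Nat.card V := by
    rw [hW]
    calc t ^ 3 ≤ d ^ 3 := Nat.pow_le_pow_left hdt 3
      _ ≤ d ^ k := Nat.pow_le_pow_right (ht.pos.trans_le hdt) hk3
  have h4 : t ^ 2 < t ^ 3 := Nat.pow_lt_pow_right ht.one_lt (by norm_num)
  omega

end Cfsg.Agent.Lib.Helper36.BG1435P18
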