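import Mathlib
import Cfsg.Agent.Lib.Helper38.CD3.Defs
import Cfsg.Agent.Lib.Helper83.CharMisc

/-!
# K-CD3 leaf N5 (S4460): `TwoDeg G c` (any `c`) gives a commutative derived subgroup
-/

set_option autoImplicit false

namespace Cfsg.Agent.Lib.Helper36.CD3

open Cfsg Cfsg.Agent.Lib.Helper97

universe u

variable {G : Type u} [Group G] [Finite G]

/-- 446005 N5 : `TwoDeg G c` (any `c`) gives commutative derived subgroup. -/
theorem comm_commutator_of_twoDeg {c : ℕ} (h : TwoDeg G c) :
    ∀ a ∈ commutator G, ∀ b ∈ commutator G, a * b = b * a := by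
  by_cases hc : 2 ≤ c
  · exact h.comm_commutator hc
  · have hlin : ∀ χ : IrrCharacter G, (χ : G → ℂ) 1 = 1 := by
      intro χ
      have hpos := Cfsg.Agent.Lib.Helper83.irr_charDegree_pos χ
      have hd : charDegree (χ : G → ℂ) = 1 := by
        rcases h χ with h1 | h1
        · exact h1
        · omega
      have h2 := Cfsg.Agent.Lib.Helper83.charDegree_cast
        (Cfsg.Agent.Lib.Helper83.IrrCharacter_isCharacter χ)
      rw [hd] at h2
      rw [← h2]
      simp
    have hcomm : ∀ a b : G, a * b = b * a := by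
      by_contra hn
      obtain ⟨χ, hχ⟩ := Cfsg.Agent.Lib.Helper83.exists_nonlinear_of_not_comm hn
      exact hχ (hlin χ)
    intro a _ b _
    exact hcomm a b

end Cfsg.Agent.Lib.Helper36.CD3
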