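import Mathlib
import Cfsg.Agent.Lib.Helper91.SimpleDerived
import Cfsg.Agent.Lib.Helper91.WidthOneInst
import Cfsg.Agent.Lib.Helper54.Basic

set_option autoImplicit false

/-! Fischer: a class of 3-transpositions in a group with no solvable normal subgroup and perfect
derived group is primitive. -/

namespace Cfsg.Agent.Lib.Helper36.Fischer

open Cfsg Cfsg.Agent.Lib.Helper91
open scoped commutatorElement

universe u

section
variable {G : Type u} [Group G] [Finite G] {D : Set G}

theorem pCore_eq_bot_of_nosol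
    (hsol : ∀ N : Subgroup G, N.Normal → Group.IsSolvable ↥N → N = ⊥) (p : ℕ) [Fact p.Prime] :
    Cfsg.pCore p G = ⊥ := by
  apply hsol _ (Cfsg.Agent.Lib.Helper54.pCore_normal p G)
  have h : IsPGroup p ↥(Cfsg.pCore p G) := Cfsg.Agent.Lib.Helper54.pCore_isPGroup p G
  have := h.isNilpotent
  infer_instance

theorem center_eq_bot_of_nosol
    (hsol : ∀ N : Subgroup G, N.Normal → Group.IsSolvable ↥N → N = ⊥) :
    Subgroup.center G = ⊥ := by
  apply hsol _ inferInstance
  exact isSolvable_of_comm (fun a b => Subtype.ext (Subgroup.mem_center_iff.mp b.2 a.1))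

/-- the image of a class of 3-transpositions modulo a normal subgroup missing it. -/
theorem quot_isClass' (hD : Cfsg.IsThreeTranspositionClass D) (N : Subgroup G) [hn : N.Normal]
    (hdN : ∀ d ∈ D, d ∉ N) :
    Cfsg.IsThreeTranspositionClass ((QuotientGroup.mk' N) '' D) := by
  have hT := hD.1
  have hc := class_conj_mem hD
  refine ⟨⟨?_, ?_⟩, ?_, ?_⟩
  · rintro _ ⟨d, hd, rfl⟩
    have : Fact (Nat.Prime 2) := ⟨Nat.prime_two⟩
    apply orderOf_eq_prime
    · rw [← map_pow, pow_two, tt_mul_self hT hd, map_one]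
    · intro h
      have : d ∈ N := by
        rw [← QuotientGroup.ker_mk' N, MonoidHom.mem_ker]; exact h
      exact hdN d hd this
  · rintro _ ⟨d, hd, rfl⟩ _ ⟨e, he, rfl⟩
    rcases hT.2 d hd e he with h | h
    · left; rw [← map_mul, ← map_pow, h, map_one]
    · right; rw [← map_mul, ← map_pow, h, map_one]
  · obtain ⟨_, ⟨d0, hd0, hD0⟩, _⟩ := hD
    refine ⟨QuotientGroup.mk' N d0, ⟨d0, hd0, rfl⟩, ?_⟩
    ext z
    constructor
    · rintro ⟨y, hy, rfl⟩
      rw [hD0, mem_conjOf_iff, isConj_iff] at hy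
      obtain ⟨c, hc'⟩ := hy
      rw [mem_conjOf_iff, isConj_iff]
      refine ⟨QuotientGroup.mk' N c, ?_⟩
      rw [← hc', map_mul, map_mul, map_inv]
    · intro hz
      rw [mem_conjOf_iff, isConj_iff] at hz
      obtain ⟨c, hc'⟩ := hz
      obtain ⟨g, rfl⟩ := QuotientGroup.mk'_surjective N c
      refine ⟨g * d0 * g⁻¹, hc g d0 hd0, ?_⟩
      rw [← hc', map_mul, map_mul, map_inv]
  · rw [← MonoidHom.map_closure, hD.2.2, ← MonoidHom.range_eq_map,
      MonoidHom.range_eq_top]
    exact QuotientGroup.mk'_surjective N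

omit [Finite G] in
/-- a perfect subgroup lies in every normal subgroup with solvable quotient. -/
theorem perfect_le_of_solvable_quotient (N : Subgroup G) [N.Normal]
    (hQ : Group.IsSolvable (G ⧸ N)) (K : Subgroup G) (hK : ⁅K, K⁆ = K) : K ≤ N := by
  have key : ∀ n : ℕ, K.map (QuotientGroup.mk' N) ≤ derivedSeries (G ⧸ N) n := by
    intro n
    induction n with
    | zero => exact le_top
    | succ n ih =>
      rw [derivedSeries_succ]
      calc K.map (QuotientGroup.mk' N) = (⁅K, K⁆).map (QuotientGroup.mk' N) := by rw [hK]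
        _ = ⁅K.map (QuotientGroup.mk' N), K.map (QuotientGroup.mk' N)⁆ :=
          Subgroup.map_commutator K K _
        _ ≤ ⁅derivedSeries (G ⧸ N) n, derivedSeries (G ⧸ N) n⁆ := Subgroup.commutator_mono ih ih
  obtain ⟨n, hn⟩ := hQ.solvable
  have h1 := key n
  rw [hn, le_bot_iff] at h1
  have h2 := (Subgroup.map_eq_bot_iff K).mp h1
  rwa [QuotientGroup.ker_mk'] at h2

/-- a group generated by one element modulo a normal 3-subgroup is solvable. -/
theorem solvable_of_zpowers_sup {H : Type u} [Group H] [Finite H] {e : H}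
    (h : Subgroup.zpowers e ⊔ Cfsg.pCore 3 H = ⊤) : Group.IsSolvable H := by
  have : Fact (Nat.Prime 3) := ⟨Nat.prime_three⟩
  have hPn : (Cfsg.pCore 3 H).Normal := Cfsg.Agent.Lib.Helper54.pCore_normal 3 H
  have hP : IsPGroup 3 ↥(Cfsg.pCore 3 H) := Cfsg.Agent.Lib.Helper54.pCore_isPGroup 3 H
  have := hP.isNilpotent
  have hPs : Group.IsSolvable ↥(Cfsg.pCore 3 H) := inferInstance
  have hcomm : ∀ a b : H ⧸ Cfsg.pCore 3 H, a * b = b * a := by
    have hpow : ∀ a : H ⧸ Cfsg.pCore 3 H, a ∈ Subgroup.zpowers (QuotientGroup.mk' (Cfsg.pCore 3 H) e) := by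
      intro a
      obtain ⟨x, rfl⟩ := QuotientGroup.mk'_surjective (Cfsg.pCore 3 H) a
      have hx : x ∈ Subgroup.zpowers e ⊔ Cfsg.pCore 3 H := by rw [h]; trivial
      have hx' : x ∈ ((Subgroup.zpowers e ⊔ Cfsg.pCore 3 H : Subgroup H) : Set H) := hx
      rw [Subgroup.mul_normal] at hx'
      obtain ⟨y, hy, z, hz, rfl⟩ := Set.mem_mul.mp hx'
      rw [map_mul]
      have hz1 : QuotientGroup.mk' (Cfsg.pCore 3 H) z = 1 := by
        rw [← MonoidHom.mem_ker, QuotientGroup.ker_mk']; exact hz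
      rw [hz1, mul_one]
      obtain ⟨k, rfl⟩ := Subgroup.mem_zpowers_iff.mp hy
      rw [map_zpow]
      exact Subgroup.zpow_mem_zpowers _ k
    intro a b
    obtain ⟨k, rfl⟩ := Subgroup.mem_zpowers_iff.mp (hpow a)
    obtain ⟨l, rfl⟩ := Subgroup.mem_zpowers_iff.mp (hpow b)
    rw [← zpow_add, ← zpow_add, add_comm]
  have hQs : Group.IsSolvable (H ⧸ Cfsg.pCore 3 H) := isSolvable_of_comm hcomm
  exact solvable_of_ker_le_range (Cfsg.pCore 3 H).subtype (QuotientGroup.mk' (Cfsg.pCore 3 H))
    (by rw [QuotientGroup.ker_mk', Subgroup.range_subtype])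

/-- Fischer's primitivity criterion in the form needed here. -/
theorem primitive_of_perfect
    (hsol : ∀ N : Subgroup G, N.Normal → Group.IsSolvable ↥N → N = ⊥)
    (hperf : ⁅commutator G, commutator G⁆ = commutator G)
    (hD : Cfsg.IsThreeTranspositionClass D) (hD2 : ∃ a ∈ D, ∃ b ∈ D, a ≠ b) :
    Cfsg.IsPrimitiveUnderConj D := by
  have hT := hD.1
  have hc := class_conj_mem hD
  have : Fact (Nat.Prime 2) := ⟨Nat.prime_two⟩
  have : Fact (Nat.Prime 3) := ⟨Nat.prime_three⟩
  have h2 : Cfsg.pCore 2 G ≤ Subgroup.center G := by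
    rw [pCore_eq_bot_of_nosol hsol 2]; exact bot_le
  have h3 : Cfsg.pCore 3 G ≤ Subgroup.center G := by
    rw [pCore_eq_bot_of_nosol hsol 3]; exact bot_le
  obtain ⟨L, hLn, hL, hF, hw1⟩ := component_structure hD hD2 h2 h3
  haveI := hLn
  obtain ⟨d, hd, _⟩ := hD.2.1
  -- the derived group lies in L
  have hGL : commutator G ≤ L := by
    by_cases hdL : ∃ d ∈ D, d ∈ L
    · -- then L = ⊤
      obtain ⟨d1, hd1, hd1L⟩ := hdL
      have hDL : D ⊆ L := by
        intro a ha
        obtain ⟨g, rfl⟩ := class_exists_conj hD hd1 ha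
        exact hLn.conj_mem d1 hd1L g
      have : (⊤ : Subgroup G) ≤ L := by
        rw [← hD.2.2, Subgroup.closure_le]; exact hDL
      exact le_top.trans this
    · push Not at hdL
      have hE := quot_isClass' hD L hdL
      have hw : ∀ a ∈ (QuotientGroup.mk' L) '' D, ∀ b ∈ (QuotientGroup.mk' L) '' D,
          Commute a b → a = b := by
        rintro _ ⟨a, ha, rfl⟩ _ ⟨b, hb, rfl⟩ hab
        have h1 : a * b * a⁻¹ * b⁻¹ ∈ L := by
          rw [← QuotientGroup.ker_mk' L, MonoidHom.mem_ker, map_mul, map_mul, map_mul, map_inv,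
            map_inv, hab.eq]
          group
        have h4 := mul_mem_of_commutator_mem hD hL ha hb h1
        rw [← QuotientGroup.ker_mk' L, MonoidHom.mem_ker, map_mul, map_inv] at h4
        exact (inv_mul_eq_one.mp h4)
      have htop := widthOneHyp.{u} (G ⧸ L) ((QuotientGroup.mk' L) '' D) hE hw
        (QuotientGroup.mk' L d) ⟨d, hd, rfl⟩
      exact perfect_le_of_solvable_quotient L (solvable_of_zpowers_sup htop) (commutator G) hperf
  have hmul : ∀ x ∈ D, ∀ y ∈ D, x * y ∈ L := by
    intro x hx y hy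
    obtain ⟨g, hg⟩ := class_exists_conj hD hx hy
    rw [← hg]
    have : x * (g * x * g⁻¹) = ⁅x, g⁆ := by
      rw [commutatorElement_def, tt_inv hT hx]; simp only [mul_assoc]
    rw [this]
    apply hGL
    rw [commutator_def]
    exact Subgroup.commutator_mem_commutator (Subgroup.mem_top _) (Subgroup.mem_top _)
  have hidx : L.index ≤ 2 := index_le_two_of_mul_mem hD hd (fun a ha => hmul d hd a ha)
  exact primitive_of_index_le_two hD hD2 h2 h3 L hL hF hidx

end

end Cfsg.Agent.Lib.Helper36.Fischer
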