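import Cfsg.Prelude.Def_FischerSpaces
import Cfsg.Prelude.Def_Solvable

set_option autoImplicit false

/-! Copy of helper91's `Lib.Helper91.ThreeTransp` under another namespace (that module and
`Lib.Helper91.ThreeTranspBlocksys` both declare `Helper91.blockKernel`, so they cannot be imported
together). All credit to helper91. -/

namespace Cfsg.Agent.Lib.Helper36.TT

variable {G : Type*} [Group G]

/-- `x` and `y` are members of `D` commuting with exactly the same members of `D`. -/
def SamePartners (D : Set G) (x y : G) : Prop :=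
  x ∈ D ∧ y ∈ D ∧ ∀ e ∈ D, Commute x e ↔ Commute y e

theorem SamePartners.refl {D : Set G} {x : G} (hx : x ∈ D) : SamePartners D x x :=
  ⟨hx, hx, fun _ _ => Iff.rfl⟩

theorem SamePartners.symm {D : Set G} {x y : G} (h : SamePartners D x y) : SamePartners D y x :=
  ⟨h.2.1, h.1, fun e he => (h.2.2 e he).symm⟩

theorem SamePartners.trans {D : Set G} {x y z : G} (h₁ : SamePartners D x y) (h₂ : SamePartners D y z) :
    SamePartners D x z :=
  ⟨h₁.1, h₂.2.1, fun e he => (h₁.2.2 e he).trans (h₂.2.2 e he)⟩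

theorem SamePartners.commute {D : Set G} {x y : G} (h : SamePartners D x y) : Commute x y :=
  ((h.2.2 x h.1).mp (Commute.refl x)).symm

theorem commute_conj_iff (g x e : G) : Commute (g * x * g⁻¹) e ↔ Commute x (g⁻¹ * e * g) := by
  constructor
  · intro h
    have h' : g * x * g⁻¹ * e = e * (g * x * g⁻¹) := h
    show x * (g⁻¹ * e * g) = g⁻¹ * e * g * x
    calc x * (g⁻¹ * e * g) = g⁻¹ * (g * x * g⁻¹ * e) * g := by group
      _ = g⁻¹ * (e * (g * x * g⁻¹)) * g := by rw [h']
      _ = g⁻¹ * e * g * x := by group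
  · intro h
    have h' : x * (g⁻¹ * e * g) = g⁻¹ * e * g * x := h
    show g * x * g⁻¹ * e = e * (g * x * g⁻¹)
    calc g * x * g⁻¹ * e = g * (x * (g⁻¹ * e * g)) * g⁻¹ := by group
      _ = g * (g⁻¹ * e * g * x) * g⁻¹ := by rw [h']
      _ = e * (g * x * g⁻¹) := by group

theorem SamePartners.conj {D : Set G} (hconj : ∀ g : G, ∀ d ∈ D, g * d * g⁻¹ ∈ D) {x y : G}
    (h : SamePartners D x y) (g : G) : SamePartners D (g * x * g⁻¹) (g * y * g⁻¹) := by
  refine ⟨hconj g x h.1, hconj g y h.2.1, fun e he => ?_⟩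
  rw [commute_conj_iff, commute_conj_iff]
  have : g⁻¹ * e * g ∈ D := by
    have := hconj g⁻¹ e he
    rwa [inv_inv] at this
  exact h.2.2 _ this

section tt

variable {D : Set G} (hD : Cfsg.IsThreeTranspositionSet D)

include hD

theorem tt_sq {x : G} (hx : x ∈ D) : x * x = 1 := by
  have := pow_orderOf_eq_one x
  rw [hD.1 x hx, pow_two] at this
  exact this

theorem tt_inv {x : G} (hx : x ∈ D) : x⁻¹ = x := inv_eq_of_mul_eq_one_right (tt_sq hD hx)

theorem tt_ne_one {x : G} (hx : x ∈ D) : x ≠ 1 := by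
  intro h
  have := hD.1 x hx
  rw [h, orderOf_one] at this
  omega

theorem tt_commute_of_sq {x y : G} (hx : x ∈ D) (hy : y ∈ D) (h : (x * y) ^ 2 = 1) : Commute x y := by
  have h1 : x * y * (x * y) = 1 := by rw [← pow_two]; exact h
  have h2 : x * y = (x * y)⁻¹ := eq_inv_of_mul_eq_one_left h1
  rw [mul_inv_rev, tt_inv hD hx, tt_inv hD hy] at h2
  exact h2

theorem tt_sq_of_commute {x y : G} (hx : x ∈ D) (hy : y ∈ D) (h : Commute x y) : (x * y) ^ 2 = 1 := by
  rw [pow_two]
  calc x * y * (x * y) = x * (y * x) * y := by group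
    _ = x * (x * y) * y := by rw [h.eq]
    _ = (x * x) * (y * y) := by group
    _ = 1 := by rw [tt_sq hD hx, tt_sq hD hy, one_mul]

theorem tt_cube {x y : G} (hx : x ∈ D) (hy : y ∈ D) (h : ¬ Commute x y) : (x * y) ^ 3 = 1 := by
  rcases hD.2 x hx y hy with h2 | h3
  · exact absurd (tt_commute_of_sq hD hx hy h2) h
  · exact h3

/-- braid relation for two non-commuting members -/
theorem tt_braid {x y : G} (hx : x ∈ D) (hy : y ∈ D) (h : ¬ Commute x y) : x * y * x = y * x * y := by
  have h3 := tt_cube hD hx hy h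
  have h1 : (x * y * x) * (y * x * y) = 1 := by
    rw [← h3, pow_succ, pow_two]; group
  have h2 := eq_inv_of_mul_eq_one_left h1
  rw [h2, mul_inv_rev, mul_inv_rev, tt_inv hD hx, tt_inv hD hy, mul_assoc]

/-- The product of two members with the same partners conjugates every member to one with the same partners. -/
theorem samePartners_conj_mul (hconj : ∀ g : G, ∀ d ∈ D, g * d * g⁻¹ ∈ D) {x y u : G}
    (hxy : SamePartners D x y) (hu : u ∈ D) : SamePartners D ((x * y) * u * (x * y)⁻¹) u := by
  have hx := hxy.1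
  have hy := hxy.2.1
  have hc : Commute x y := hxy.commute
  have e0 : (x * y) * u * (x * y)⁻¹ = y * (x * u * x) * y := by
    rw [mul_inv_rev, tt_inv hD hx, tt_inv hD hy]
    have h := hc.eq
    calc x * y * u * (y * x) = (y * x) * u * (x * y) := by rw [h]
      _ = y * (x * u * x) * y := by group
  by_cases hxu : Commute x u
  · have hyu : Commute y u := (hxy.2.2 u hu).mp hxu
    have : (x * y) * u * (x * y)⁻¹ = u := by
      have h1 : Commute (x * y) u := hxu.mul_left hyu
      rw [h1.eq, mul_inv_cancel_right]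
    rw [this]
    exact SamePartners.refl hu
  · have hyu : ¬ Commute y u := fun h => hxu ((hxy.2.2 u hu).mpr h)
    have b1 := tt_braid hD hx hu hxu
    have b2 := tt_braid hD hy hu hyu
    -- u x u ~ u y u = y u y
    have h1 : SamePartners D (u * x * u⁻¹) (u * y * u⁻¹) := hxy.conj hconj u
    rw [tt_inv hD hu, ← b1, ← b2] at h1
    have h2 := h1.conj hconj y
    rw [tt_inv hD hy] at h2
    have e1 : y * (y * u * y) * y = u := by
      calc y * (y * u * y) * y = (y * y) * u * (y * y) := by group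
        _ = u := by rw [tt_sq hD hy, one_mul, mul_one]
    rw [e1] at h2
    rw [e0]
    exact h2

end tt

/-! ### The normal 2-subgroup generated by products of members with the same partners -/

/-- elements conjugating each member of `D` to a member with the same partners -/
def blockKernel (D : Set G) (hconj : ∀ g : G, ∀ d ∈ D, g * d * g⁻¹ ∈ D) : Subgroup G where
  carrier := {g | ∀ u ∈ D, SamePartners D (g * u * g⁻¹) u}
  one_mem' := by
    intro u hu
    simpa using SamePartners.refl hu
  mul_mem' := by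
    intro a b ha hb u hu
    have h1 := hb u hu
    have h2 := ha (b * u * b⁻¹) h1.1
    have : a * b * u * (a * b)⁻¹ = a * (b * u * b⁻¹) * a⁻¹ := by group
    rw [this]; exact h2.trans h1
  inv_mem' := by
    intro a ha u hu
    have hu' : a⁻¹ * u * a⁻¹⁻¹ ∈ D := hconj a⁻¹ u hu
    have h1 := ha _ hu'
    have : a * (a⁻¹ * u * a⁻¹⁻¹) * a⁻¹ = u := by group
    rw [this] at h1
    exact h1.symm

/-- products of two members with the same partners -/
def pairProducts (D : Set G) : Set G := {t | ∃ x y, SamePartners D x y ∧ t = x * y}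

/-- products of two members with the same partners as `x` -/
def pairProductsAt (D : Set G) (x : G) : Set G :=
  {t | ∃ v w, SamePartners D x v ∧ SamePartners D x w ∧ t = v * w}

theorem pairProducts_conj {D : Set G} (hconj : ∀ g : G, ∀ d ∈ D, g * d * g⁻¹ ∈ D) {t : G}
    (ht : t ∈ pairProducts D) (g : G) : g * t * g⁻¹ ∈ pairProducts D := by
  obtain ⟨x, y, hxy, rfl⟩ := ht
  refine ⟨g * x * g⁻¹, g * y * g⁻¹, hxy.conj hconj g, ?_⟩
  group

theorem closure_pairProducts_normal {D : Set G} (hconj : ∀ g : G, ∀ d ∈ D, g * d * g⁻¹ ∈ D) :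
    (Subgroup.closure (pairProducts D)).Normal := by
  constructor
  intro n hn g
  induction hn using Subgroup.closure_induction with
  | mem t ht => exact Subgroup.subset_closure (pairProducts_conj hconj ht g)
  | one => simp
  | mul a b _ _ ha hb =>
    have : g * (a * b) * g⁻¹ = (g * a * g⁻¹) * (g * b * g⁻¹) := by group
    rw [this]; exact Subgroup.mul_mem _ ha hb
  | inv a _ ha =>
    have : g * a⁻¹ * g⁻¹ = (g * a * g⁻¹)⁻¹ := by group
    rw [this]; exact Subgroup.inv_mem _ ha

theorem closure_pairProductsAt_isPGroup {D : Set G} (hD : Cfsg.IsThreeTranspositionSet D) (x : G) :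
    IsPGroup 2 (Subgroup.closure (pairProductsAt D x)) := by
  -- all generators commute and square to one
  have hgen_comm : ∀ a ∈ pairProductsAt D x, ∀ b ∈ pairProductsAt D x, a * b = b * a := by
    rintro _ ⟨v, w, hv, hw, rfl⟩ _ ⟨v', w', hv', hw', rfl⟩
    have c1 : Commute v v' := (hv.symm.trans hv').commute
    have c2 : Commute v w' := (hv.symm.trans hw').commute
    have c3 : Commute w v' := (hw.symm.trans hv').commute
    have c4 : Commute w w' := (hw.symm.trans hw').commute
    exact ((c1.mul_right c2).mul_left (c3.mul_right c4)).eq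
  have hgen_sq : ∀ a ∈ pairProductsAt D x, a * a = 1 := by
    rintro _ ⟨v, w, hv, hw, rfl⟩
    have := tt_sq_of_commute hD hv.2.1 hw.2.1 (hv.symm.trans hw).commute
    rwa [pow_two] at this
  have hK := Subgroup.isMulCommutative_closure hgen_comm
  have hKcomm : ∀ a ∈ Subgroup.closure (pairProductsAt D x), ∀ b ∈ Subgroup.closure (pairProductsAt D x),
      a * b = b * a := by
    intro a ha b hb
    have := hK.is_comm.comm ⟨a, ha⟩ ⟨b, hb⟩
    exact congrArg Subtype.val this
  have hsq : ∀ a ∈ Subgroup.closure (pairProductsAt D x), a * a = 1 := by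
    intro a ha
    induction ha using Subgroup.closure_induction with
    | mem a ha => exact hgen_sq a ha
    | one => simp
    | mul a b ha hb iha ihb =>
      calc a * b * (a * b) = a * (b * a) * b := by group
        _ = a * (a * b) * b := by rw [hKcomm b hb a ha]
        _ = (a * a) * (b * b) := by group
        _ = 1 := by rw [iha, ihb, one_mul]
    | inv a _ ih => rw [← mul_inv_rev, ih, inv_one]
  intro g
  refine ⟨1, ?_⟩
  apply Subtype.ext
  have := hsq g g.2
  simpa [pow_two] using this

theorem blockKernel_normalizes {D : Set G} (hconj : ∀ g : G, ∀ d ∈ D, g * d * g⁻¹ ∈ D) (x : G) {n : G}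
    (hn : n ∈ blockKernel D hconj) {a : G} (ha : a ∈ Subgroup.closure (pairProductsAt D x)) :
    n * a * n⁻¹ ∈ Subgroup.closure (pairProductsAt D x) := by
  induction ha using Subgroup.closure_induction with
  | mem t ht =>
    obtain ⟨v, w, hv, hw, rfl⟩ := ht
    apply Subgroup.subset_closure
    refine ⟨n * v * n⁻¹, n * w * n⁻¹, hv.trans (hn v hv.2.1).symm, hw.trans (hn w hw.2.1).symm, ?_⟩
    group
  | one => simp
  | mul a b _ _ ha hb =>
    have : n * (a * b) * n⁻¹ = (n * a * n⁻¹) * (n * b * n⁻¹) := by group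
    rw [this]; exact Subgroup.mul_mem _ ha hb
  | inv a _ ha =>
    have : n * a⁻¹ * n⁻¹ = (n * a * n⁻¹)⁻¹ := by group
    rw [this]; exact Subgroup.inv_mem _ ha

theorem closure_pairProducts_isPGroup {D : Set G} (hD : Cfsg.IsThreeTranspositionSet D)
    (hconj : ∀ g : G, ∀ d ∈ D, g * d * g⁻¹ ∈ D) : IsPGroup 2 (Subgroup.closure (pairProducts D)) := by
  set N := blockKernel D hconj with hN
  -- the family of normal 2-subgroups of N
  let 𝒮 : Set (Subgroup N) := {H | ∃ x : G, H = (Subgroup.closure (pairProductsAt D x)).subgroupOf N}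
  have h𝒮p : ∀ H ∈ 𝒮, IsPGroup 2 H := by
    rintro H ⟨x, rfl⟩
    exact (closure_pairProductsAt_isPGroup hD x).comap_subtype
  have h𝒮n : ∀ H ∈ 𝒮, H.Normal := by
    rintro H ⟨x, rfl⟩
    constructor
    intro a ha n
    rw [Subgroup.mem_subgroupOf] at ha ⊢
    exact blockKernel_normalizes hconj x n.2 ha
  have hsup : IsPGroup 2 (sSup 𝒮 : Subgroup N) := Sylow.sSup_of_normal 𝒮 h𝒮p h𝒮n
  have hmem : ∀ g ∈ Subgroup.closure (pairProducts D), ∃ hg : g ∈ N, (⟨g, hg⟩ : N) ∈ sSup 𝒮 := by
    intro g hg
    induction hg using Subgroup.closure_induction with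
    | mem t ht =>
      obtain ⟨x, y, hxy, rfl⟩ := ht
      have htN : x * y ∈ N := fun u hu => samePartners_conj_mul hD hconj hxy hu
      refine ⟨htN, ?_⟩
      have hH : (Subgroup.closure (pairProductsAt D x)).subgroupOf N ∈ 𝒮 := ⟨x, rfl⟩
      apply (le_sSup hH)
      rw [Subgroup.mem_subgroupOf]
      exact Subgroup.subset_closure ⟨x, y, SamePartners.refl hxy.1, hxy, rfl⟩
    | one => exact ⟨N.one_mem, (sSup 𝒮).one_mem⟩
    | mul a b _ _ ha hb =>
      obtain ⟨haN, ha'⟩ := ha
      obtain ⟨hbN, hb'⟩ := hb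
      exact ⟨N.mul_mem haN hbN, (sSup 𝒮).mul_mem ha' hb'⟩
    | inv a _ ha =>
      obtain ⟨haN, ha'⟩ := ha
      exact ⟨N.inv_mem haN, (sSup 𝒮).inv_mem ha'⟩
  intro g
  obtain ⟨hgN, hg'⟩ := hmem g g.2
  obtain ⟨k, hk⟩ := hsup ⟨⟨g, hgN⟩, hg'⟩
  refine ⟨k, ?_⟩
  apply Subtype.ext
  have := congrArg (fun z : (sSup 𝒮 : Subgroup N) => ((z : N) : G)) hk
  simpa using this

theorem closure_pairProducts_le_pCore {D : Set G} (hD : Cfsg.IsThreeTranspositionSet D)
    (hconj : ∀ g : G, ∀ d ∈ D, g * d * g⁻¹ ∈ D) :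
    Subgroup.closure (pairProducts D) ≤ Cfsg.pCore 2 G :=
  le_sSup ⟨closure_pairProducts_normal hconj, closure_pairProducts_isPGroup hD hconj⟩

end Cfsg.Agent.Lib.Helper36.TT
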