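import Mathlib
import Cfsg.Agent.Lib.Helper36.TTCopy

set_option autoImplicit false

/-! Fischer: the transpositions commuting with a given one form a single class of the subgroup they
generate (combinatorial core; hypotheses: trivial centre, trivial `O_2`, maximality of the
`D`-subgroups `⟨d^⊥⟩`). -/

namespace Cfsg.Agent.Lib.Helper36.Fischer

open Cfsg Cfsg.Agent.Lib.Helper36.TT

section
variable {G : Type*} [Group G] {D : Set G}

/-- the members commuting with `x`, other than `x`. -/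
def Dx (D : Set G) (x : G) : Set G := {y : G | y ∈ D ∧ y ≠ x ∧ Commute x y}

/-- the subgroup they generate. -/
def Hx (D : Set G) (x : G) : Subgroup G := Subgroup.closure (Dx D x)

/-- the orbit of `y` under `Hx`. -/
def Orb (D : Set G) (x y : G) : Set G := {z : G | ∃ g ∈ Hx D x, g * y * g⁻¹ = z}

theorem Hx_commute {x g : G} (hg : g ∈ Hx D x) : Commute g x := by
  have : Hx D x ≤ Subgroup.centralizer {x} := by
    unfold Hx
    rw [Subgroup.closure_le]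
    intro y hy
    rw [SetLike.mem_coe, Subgroup.mem_centralizer_iff]
    intro z hz
    rw [Set.mem_singleton_iff] at hz
    rw [hz]
    exact hy.2.2.eq
  have h := this hg
  rw [Subgroup.mem_centralizer_iff] at h
  exact (h x rfl).symm

theorem Dx_symm {x y : G} (hx : x ∈ D) (hy : y ∈ Dx D x) : x ∈ Dx D y :=
  ⟨hx, fun h => hy.2.1 h.symm, hy.2.2.symm⟩

theorem mem_Orb_self (x y : G) : y ∈ Orb D x y := ⟨1, Subgroup.one_mem _, by simp⟩

theorem Orb_eq_of_mem {x y z : G} (hz : z ∈ Orb D x y) : Orb D x z = Orb D x y := by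
  obtain ⟨g, hg, rfl⟩ := hz
  ext w
  constructor
  · rintro ⟨h, hh, rfl⟩
    exact ⟨h * g, Subgroup.mul_mem _ hh hg, by group⟩
  · rintro ⟨h, hh, rfl⟩
    exact ⟨h * g⁻¹, Subgroup.mul_mem _ hh (Subgroup.inv_mem _ hg), by group⟩

theorem Orb_subset (hc : ∀ g : G, ∀ d ∈ D, g * d * g⁻¹ ∈ D) {x y : G} (hy : y ∈ Dx D x) :
    Orb D x y ⊆ Dx D x := by
  rintro z ⟨g, hg, rfl⟩
  have hgx := Hx_commute hg
  refine ⟨hc g y hy.1, ?_, ?_⟩
  · intro h
    apply hy.2.1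
    have : y = g⁻¹ * (g * y * g⁻¹) * g := by group
    rw [this, h, mul_assoc, ← hgx.eq, ← mul_assoc, inv_mul_cancel, one_mul]
  · have h1 : Commute x (g * y) := (hgx.symm).mul_right hy.2.2
    exact h1.mul_right (hgx.symm.inv_right)

variable (hT : Cfsg.IsThreeTranspositionSet D)
include hT

theorem mem_Orb_of_not_commute {x y y' : G} (hy : y ∈ Dx D x) (hy' : y' ∈ Dx D x)
    (h : ¬ Commute y y') : y' ∈ Orb D x y := by
  refine ⟨y * y', Subgroup.mul_mem _ (Subgroup.subset_closure hy) (Subgroup.subset_closure hy'), ?_⟩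
  have hb := tt_braid hT hy.1 hy'.1 h
  rw [mul_inv_rev, tt_inv hT hy.1, tt_inv hT hy'.1]
  calc y * y' * y * (y' * y) = (y * y' * y) * y' * y := by group
    _ = (y' * y * y') * y' * y := by rw [hb]
    _ = y' * y * (y' * y') * y := by group
    _ = y' * (y * y) := by rw [tt_sq hT hy'.1]; group
    _ = y' := by rw [tt_sq hT hy.1, mul_one]

theorem commute_of_not_mem_Orb (hc : ∀ g : G, ∀ d ∈ D, g * d * g⁻¹ ∈ D) {x y y' : G}
    (hy : y ∈ Dx D x) (hy' : y' ∈ Dx D x) (h : y' ∉ Orb D x y) :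
    ∀ z ∈ Orb D x y, ∀ z' ∈ Orb D x y', Commute z z' := by
  intro z hz z' hz'
  by_contra hne
  apply h
  have h1 := mem_Orb_of_not_commute hT (Orb_subset hc hy hz) (Orb_subset hc hy' hz') hne
  rw [Orb_eq_of_mem hz] at h1
  have h2 : y' ∈ Orb D x z' := by
    rw [Orb_eq_of_mem hz']; exact mem_Orb_self x y'
  rw [Orb_eq_of_mem h1] at h2
  exact h2

/-- the orbit is already an orbit of the subgroup generated by the orbit itself. -/
theorem orb_by_own_closure (hc : ∀ g : G, ∀ d ∈ D, g * d * g⁻¹ ∈ D) {x y : G} (hy : y ∈ Dx D x) :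
    ∀ g ∈ Hx D x, ∀ z ∈ Orb D x y, (∃ h ∈ Subgroup.closure (Orb D x y), g * z * g⁻¹ = h * z * h⁻¹) ∧
      (∃ h ∈ Subgroup.closure (Orb D x y), g⁻¹ * z * g = h * z * h⁻¹) := by
  intro g hg
  unfold Hx at hg
  induction hg using Subgroup.closure_induction with
  | mem d hd =>
    intro z hz
    by_cases hdo : d ∈ Orb D x y
    · refine ⟨⟨d, Subgroup.subset_closure hdo, rfl⟩, ⟨d, Subgroup.subset_closure hdo, ?_⟩⟩
      rw [tt_inv hT hd.1]
    · have hcm : Commute z d :=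
        commute_of_not_mem_Orb hT hc hy hd hdo z hz d (mem_Orb_self x d)
      refine ⟨⟨1, Subgroup.one_mem _, ?_⟩, ⟨1, Subgroup.one_mem _, ?_⟩⟩
      · rw [← hcm.eq]; group
      · rw [mul_assoc, hcm.eq]; group
  | one =>
    intro z hz
    exact ⟨⟨1, Subgroup.one_mem _, by simp⟩, ⟨1, Subgroup.one_mem _, by simp⟩⟩
  | mul g1 g2 hg1 hg2 ih1 ih2 =>
    intro z hz
    have hcl : Subgroup.closure (Orb D x y) ≤ Hx D x := by
      rw [Subgroup.closure_le]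
      intro w hw
      exact Subgroup.subset_closure (Orb_subset hc hy hw)
    constructor
    · obtain ⟨h2, hh2, e2⟩ := (ih2 z hz).1
      have hz2 : h2 * z * h2⁻¹ ∈ Orb D x y := by
        rw [← Orb_eq_of_mem hz]; exact ⟨h2, hcl hh2, rfl⟩
      obtain ⟨h1, hh1, e1⟩ := (ih1 _ hz2).1
      refine ⟨h1 * h2, Subgroup.mul_mem _ hh1 hh2, ?_⟩
      calc g1 * g2 * z * (g1 * g2)⁻¹ = g1 * (g2 * z * g2⁻¹) * g1⁻¹ := by group
        _ = g1 * (h2 * z * h2⁻¹) * g1⁻¹ := by rw [e2]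
        _ = h1 * (h2 * z * h2⁻¹) * h1⁻¹ := e1
        _ = h1 * h2 * z * (h1 * h2)⁻¹ := by group
    · obtain ⟨h1, hh1, e1⟩ := (ih1 z hz).2
      have hz1 : h1 * z * h1⁻¹ ∈ Orb D x y := by
        rw [← Orb_eq_of_mem hz]; exact ⟨h1, hcl hh1, rfl⟩
      obtain ⟨h2, hh2, e2⟩ := (ih2 _ hz1).2
      refine ⟨h2 * h1, Subgroup.mul_mem _ hh2 hh1, ?_⟩
      calc (g1 * g2)⁻¹ * z * (g1 * g2) = g2⁻¹ * (g1⁻¹ * z * g1) * g2 := by group
        _ = g2⁻¹ * (h1 * z * h1⁻¹) * g2 := by rw [e1]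
        _ = h2 * (h1 * z * h1⁻¹) * h2⁻¹ := e2
        _ = h2 * h1 * z * (h2 * h1)⁻¹ := by group
  | inv g hg ih =>
    intro z hz
    obtain ⟨a, b⟩ := ih z hz
    refine ⟨?_, ?_⟩
    · obtain ⟨h, hh, e⟩ := b
      exact ⟨h, hh, by rw [inv_inv]; exact e⟩
    · obtain ⟨h, hh, e⟩ := a
      exact ⟨h, hh, by rw [inv_inv]; exact e⟩

theorem orb_eq_own (hc : ∀ g : G, ∀ d ∈ D, g * d * g⁻¹ ∈ D) {x y : G} (hy : y ∈ Dx D x)
    {z : G} (hz : z ∈ Orb D x y) : ∃ h ∈ Subgroup.closure (Orb D x y), z = h * y * h⁻¹ := by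
  obtain ⟨g, hg, rfl⟩ := hz
  obtain ⟨h, hh, e⟩ := (orb_by_own_closure hT hc hy g hg y (mem_Orb_self x y)).1
  exact ⟨h, hh, e⟩

end

section Equivariance
variable {G : Type*} [Group G] {D : Set G}

theorem conj_mem_Dx (hc : ∀ g : G, ∀ d ∈ D, g * d * g⁻¹ ∈ D) (g : G) {x y : G}
    (hy : y ∈ Dx D x) : g * y * g⁻¹ ∈ Dx D (g * x * g⁻¹) := by
  refine ⟨hc g y hy.1, ?_, ?_⟩
  · intro h
    apply hy.2.1
    have h1 : y = g⁻¹ * (g * y * g⁻¹) * g := by group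
    rw [h1, h]; group
  · have := hy.2.2.eq
    show g * x * g⁻¹ * (g * y * g⁻¹) = g * y * g⁻¹ * (g * x * g⁻¹)
    calc g * x * g⁻¹ * (g * y * g⁻¹) = g * (x * y) * g⁻¹ := by group
      _ = g * (y * x) * g⁻¹ := by rw [this]
      _ = g * y * g⁻¹ * (g * x * g⁻¹) := by group

theorem conj_mem_Hx (hc : ∀ g : G, ∀ d ∈ D, g * d * g⁻¹ ∈ D) (g : G) {x h : G}
    (hh : h ∈ Hx D x) : g * h * g⁻¹ ∈ Hx D (g * x * g⁻¹) := by
  unfold Hx at hh ⊢
  induction hh using Subgroup.closure_induction with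
  | mem d hd => exact Subgroup.subset_closure (conj_mem_Dx hc g hd)
  | one => simp
  | mul a b _ _ iha ihb =>
    have : g * (a * b) * g⁻¹ = (g * a * g⁻¹) * (g * b * g⁻¹) := by group
    rw [this]; exact Subgroup.mul_mem _ iha ihb
  | inv a _ iha =>
    have : g * a⁻¹ * g⁻¹ = (g * a * g⁻¹)⁻¹ := by group
    rw [this]; exact Subgroup.inv_mem _ iha

theorem conj_mem_Orb (hc : ∀ g : G, ∀ d ∈ D, g * d * g⁻¹ ∈ D) (g : G) {x y z : G}
    (hz : z ∈ Orb D x y) : g * z * g⁻¹ ∈ Orb D (g * x * g⁻¹) (g * y * g⁻¹) := by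
  obtain ⟨h, hh, rfl⟩ := hz
  exact ⟨g * h * g⁻¹, conj_mem_Hx hc g hh, by group⟩

theorem conj_mem_Orb_iff (hc : ∀ g : G, ∀ d ∈ D, g * d * g⁻¹ ∈ D) (g : G) {x y z : G} :
    g * z * g⁻¹ ∈ Orb D (g * x * g⁻¹) (g * y * g⁻¹) ↔ z ∈ Orb D x y := by
  constructor
  · intro h
    have := conj_mem_Orb hc g⁻¹ h
    have e1 : g⁻¹ * (g * z * g⁻¹) * g⁻¹⁻¹ = z := by group
    have e2 : g⁻¹ * (g * x * g⁻¹) * g⁻¹⁻¹ = x := by group
    have e3 : g⁻¹ * (g * y * g⁻¹) * g⁻¹⁻¹ = y := by group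
    rwa [e1, e2, e3] at this
  · exact conj_mem_Orb hc g

theorem ncard_Orb_conj (hc : ∀ g : G, ∀ d ∈ D, g * d * g⁻¹ ∈ D) (g x y : G) :
    (Orb D (g * x * g⁻¹) (g * y * g⁻¹)).ncard = (Orb D x y).ncard := by
  have : Orb D (g * x * g⁻¹) (g * y * g⁻¹) = (fun z => g * z * g⁻¹) '' Orb D x y := by
    ext w
    constructor
    · intro hw
      refine ⟨g⁻¹ * w * g, ?_, by group⟩
      rw [← conj_mem_Orb_iff hc g]
      have : g * (g⁻¹ * w * g) * g⁻¹ = w := by group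
      rwa [this]
    · rintro ⟨z, hz, rfl⟩
      exact conj_mem_Orb hc g hz
  rw [this]
  apply Set.ncard_image_of_injective
  intro a b hab
  simpa using hab

end Equivariance

end Cfsg.Agent.Lib.Helper36.Fischer
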