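import Mathlib
import Cfsg.Agent.Lib.Helper36.Fischer2
import Cfsg.Agent.Lib.Helper91.ThreeTranspQuot

set_option autoImplicit false

/-! Fischer: single class, main combinatorial argument. -/

namespace Cfsg.Agent.Lib.Helper36.Fischer

open Cfsg Cfsg.Agent.Lib.Helper36.TT

section
variable {G : Type*} [Group G] {D : Set G}

/-- the maximality hypothesis (conclusion of helper91's S5354). -/
def MaxHyp (D : Set G) : Prop :=
  ∀ d ∈ D, ∀ H : Subgroup G, Cfsg.IsDSubgroup D H →
    Subgroup.closure {y : G | y ∈ D ∧ Commute d y} ≤ H →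
      H = Subgroup.closure {y : G | y ∈ D ∧ Commute d y} ∨ H = ⊤

/-- the constraint coming from maximality. -/
theorem constraint (hD : Cfsg.IsThreeTranspositionClass D) (hZ : Subgroup.center G = ⊥)
    (hmax : MaxHyp D) {x : G} (hx : x ∈ D) (Q : Set G) (hQ : Q ⊆ Dx D x) {q0 : G} (hq0 : q0 ∈ Q)
    (hcomp : ∀ t ∈ Dx D x, t ∉ Q → ∀ q ∈ Q, Commute t q) :
    ∀ d ∈ D, (∀ q ∈ Q, Commute d q) → Commute d x := by
  have hT := hD.1
  intro d hd hdQ
  set C : Set G := {d : G | d ∈ D ∧ ∀ q ∈ Q, Commute d q} with hC
  set W : Subgroup G := Subgroup.closure (C ∪ Q) with hW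
  have hCQD : C ∪ Q ⊆ {d : G | d ∈ D ∧ d ∈ W} := by
    rintro y (hy | hy)
    · exact ⟨hy.1, Subgroup.subset_closure (Or.inl hy)⟩
    · exact ⟨(hQ hy).1, Subgroup.subset_closure (Or.inr hy)⟩
  have hDW : Cfsg.IsDSubgroup D W := by
    unfold Cfsg.IsDSubgroup
    apply le_antisymm
    · rw [Subgroup.closure_le]
      intro y hy
      exact hy.2
    · exact Subgroup.closure_mono hCQD
  have hMW : Subgroup.closure {y : G | y ∈ D ∧ Commute x y} ≤ W := by
    rw [Subgroup.closure_le]
    intro y hy
    by_cases hyx : y = x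
    · apply Subgroup.subset_closure
      left
      rw [hyx]
      exact ⟨hx, fun q hq => (hQ hq).2.2⟩
    · have hyD : y ∈ Dx D x := ⟨hy.1, hyx, hy.2⟩
      by_cases hyQ : y ∈ Q
      · exact Subgroup.subset_closure (Or.inr hyQ)
      · exact Subgroup.subset_closure (Or.inl ⟨hy.1, hcomp y hyD hyQ⟩)
  have hMcent : Subgroup.closure {y : G | y ∈ D ∧ Commute x y} ≤ Subgroup.centralizer {x} := by
    rw [Subgroup.closure_le]
    intro y hy
    rw [SetLike.mem_coe, Subgroup.mem_centralizer_iff]
    intro z hz
    rw [Set.mem_singleton_iff] at hz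
    rw [hz]
    exact hy.2.eq
  rcases hmax x hx W hDW hMW with h | h
  · have hdW : d ∈ W := Subgroup.subset_closure (Or.inl ⟨hd, hdQ⟩)
    rw [h] at hdW
    have := hMcent hdW
    rw [Subgroup.mem_centralizer_iff] at this
    exact (this x rfl).symm
  · exfalso
    set Φ : Subgroup G := Subgroup.closure Q with hΦ
    -- members of C centralise Φ
    have hCΦ : ∀ c ∈ C, ∀ φ ∈ Φ, Commute c φ := by
      intro c hcC φ hφ
      have : Φ ≤ Subgroup.centralizer {c} := by
        rw [hΦ, Subgroup.closure_le]
        intro q hq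
        rw [SetLike.mem_coe, Subgroup.mem_centralizer_iff]
        intro z hz
        rw [Set.mem_singleton_iff] at hz
        rw [hz]
        exact (hcC.2 q hq).eq
      have h1 := this hφ
      rw [Subgroup.mem_centralizer_iff] at h1
      exact (h1 c rfl)
    -- Φ is normal
    have hnorm : W ≤ Subgroup.normalizer (Φ : Set G) := by
      rw [hW, Subgroup.closure_le]
      rintro y (hy | hy)
      · rw [SetLike.mem_coe, Subgroup.mem_normalizer_iff]
        intro φ
        constructor
        · intro hφ
          have := (hCΦ y hy φ hφ).eq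
          have e : y * φ * y⁻¹ = φ := by rw [this]; group
          rw [e]; exact hφ
        · intro hφ
          have := (hCΦ y hy _ hφ).eq
          have e : φ = y⁻¹ * (y * φ * y⁻¹) * y := by group
          have e2 : y⁻¹ * (y * φ * y⁻¹) * y = y * φ * y⁻¹ := by
            rw [mul_assoc, ← this]; group
          rw [e, e2]; exact hφ
      · exact Subgroup.le_normalizer (Subgroup.subset_closure hy)
    have hΦx : ∀ φ ∈ Φ, Commute φ x := by
      intro φ hφ
      have : Φ ≤ Subgroup.centralizer {x} := by
        rw [hΦ, Subgroup.closure_le]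
        intro q hq
        rw [SetLike.mem_coe, Subgroup.mem_centralizer_iff]
        intro z hz
        rw [Set.mem_singleton_iff] at hz
        rw [hz]
        exact (hQ hq).2.2.eq
      have h1 := this hφ
      rw [Subgroup.mem_centralizer_iff] at h1
      exact (h1 x rfl).symm
    have hconjΦ : ∀ g : G, ∀ φ ∈ Φ, g * φ * g⁻¹ ∈ Φ := by
      intro g φ hφ
      have hg : g ∈ Subgroup.normalizer (Φ : Set G) := hnorm (by rw [h]; trivial)
      exact (Subgroup.mem_normalizer_iff.mp hg φ).mp hφ
    -- Φ is central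
    have hq0Φ : q0 ∈ Φ := Subgroup.subset_closure hq0
    have hcen : q0 ∈ Subgroup.center G := by
      have hall : ∀ e ∈ D, Commute q0 e := by
        intro e he
        obtain ⟨g, hg⟩ := Cfsg.Agent.Lib.Helper91.class_exists_conj hD hx he
        have h1 := hΦx _ (hconjΦ g⁻¹ q0 hq0Φ)
        rw [inv_inv] at h1
        rw [← hg]
        have h2 := h1.eq
        show q0 * (g * x * g⁻¹) = g * x * g⁻¹ * q0
        calc q0 * (g * x * g⁻¹) = g * ((g⁻¹ * q0 * g) * x) * g⁻¹ := by group
          _ = g * (x * (g⁻¹ * q0 * g)) * g⁻¹ := by rw [h2]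
          _ = g * x * g⁻¹ * q0 := by group
      have : (⊤ : Subgroup G) ≤ Subgroup.centralizer {q0} := by
        rw [← hD.2.2, Subgroup.closure_le]
        intro e he
        rw [SetLike.mem_coe, Subgroup.mem_centralizer_iff]
        intro z hz
        rw [Set.mem_singleton_iff] at hz
        rw [hz]
        exact (hall e he).eq
      rw [Subgroup.mem_center_iff]
      intro g
      have h1 := this (Subgroup.mem_top g)
      rw [Subgroup.mem_centralizer_iff] at h1
      exact (h1 q0 rfl).symm
    rw [hZ, Subgroup.mem_bot] at hcen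
    exact tt_ne_one hT (hQ hq0).1 hcen

end

end Cfsg.Agent.Lib.Helper36.Fischer
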