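import Mathlib
import Cfsg.Agent.Lib.Helper36.Fischer3

set_option autoImplicit false

/-! Fischer: single class, the minimal-orbit argument. -/

namespace Cfsg.Agent.Lib.Helper36.Fischer

open Cfsg Cfsg.Agent.Lib.Helper36.TT

section
variable {G : Type*} [Group G] [Finite G] {D : Set G}

/-- some two members of `Dx` lie in different orbits. -/
def Bad (D : Set G) (x : G) : Prop := ∃ y ∈ Dx D x, ∃ y' ∈ Dx D x, y' ∉ Orb D x y

theorem Bad.conj (hc : ∀ g : G, ∀ d ∈ D, g * d * g⁻¹ ∈ D) {x : G} (h : Bad D x) (g : G) :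
    Bad D (g * x * g⁻¹) := by
  obtain ⟨y, hy, y', hy', hne⟩ := h
  refine ⟨g * y * g⁻¹, conj_mem_Dx hc g hy, g * y' * g⁻¹, conj_mem_Dx hc g hy', ?_⟩
  rw [conj_mem_Orb_iff hc g]
  exact hne

/-- the centraliser sets of conjugate members have the same size. -/
theorem ncard_perp_conj (hc : ∀ g : G, ∀ d ∈ D, g * d * g⁻¹ ∈ D) (g x : G) :
    {e : G | e ∈ D ∧ Commute (g * x * g⁻¹) e}.ncard = {e : G | e ∈ D ∧ Commute x e}.ncard := by
  have : {e : G | e ∈ D ∧ Commute (g * x * g⁻¹) e} =
      (fun z => g * z * g⁻¹) '' {e : G | e ∈ D ∧ Commute x e} := by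
    ext w
    constructor
    · rintro ⟨hw, hcw⟩
      refine ⟨g⁻¹ * w * g, ⟨?_, ?_⟩, by group⟩
      · have := hc g⁻¹ w hw
        rwa [inv_inv] at this
      · rw [commute_conj_iff] at hcw
        exact hcw
    · rintro ⟨z, ⟨hz, hcz⟩, rfl⟩
      refine ⟨hc g z hz, ?_⟩
      rw [commute_conj_iff]
      have : g⁻¹ * (g * z * g⁻¹) * g = z := by group
      rw [this]
      exact hcz
  rw [this]
  apply Set.ncard_image_of_injective
  intro a b hab
  simpa using hab

/-- Fischer: single class (from trivial centre, trivial `O_2` and maximality). -/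
theorem single_class (hD : Cfsg.IsThreeTranspositionClass D) (hZ : Subgroup.center G = ⊥)
    (h2 : Cfsg.pCore 2 G = ⊥) (hmax : MaxHyp D) {x : G} (hx : x ∈ D) :
    ∀ y ∈ Dx D x, ∀ y' ∈ Dx D x, y' ∈ Orb D x y := by
  have hT := hD.1
  have hc := Cfsg.Agent.Lib.Helper91.class_conj_mem hD
  by_contra hbad
  push Not at hbad
  have hBadx : Bad D x := hbad
  have hBad : ∀ d ∈ D, Bad D d := by
    intro d hd
    obtain ⟨g, rfl⟩ := Cfsg.Agent.Lib.Helper91.class_exists_conj hD hx hd
    exact hBadx.conj hc g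
  -- minimal orbit size over all base points
  obtain ⟨y0, hy0, -⟩ := hbad
  have hex : ∃ n : ℕ, ∃ d ∈ D, ∃ y ∈ Dx D d, (Orb D d y).ncard = n := ⟨_, x, hx, y0, hy0, rfl⟩
  classical
  obtain ⟨a, ha, b, hb, hm⟩ := Nat.find_spec hex
  have hmin : ∀ d ∈ D, ∀ y ∈ Dx D d, Nat.find hex ≤ (Orb D d y).ncard :=
    fun d hd y hy => Nat.find_min' hex ⟨d, hd, y, hy, rfl⟩
  set m := Nat.find hex with hmdef
  -- work at `a` with `b ∈ Dx a`
  have hbD : b ∈ D := hb.1
  have haDb : a ∈ Dx D b := Dx_symm ha hb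
  -- an element of Dx b outside the orbit of a
  obtain ⟨q0, hq0, hq0T⟩ : ∃ q ∈ Dx D b, q ∉ Orb D b a := by
    obtain ⟨y1, hy1, y2, hy2, hne⟩ := hBad b hbD
    by_cases h1 : y1 ∈ Orb D b a
    · refine ⟨y2, hy2, ?_⟩
      rw [← Orb_eq_of_mem h1]; exact hne
    · exact ⟨y1, hy1, h1⟩
  set Q : Set G := {q : G | q ∈ Dx D b ∧ q ∉ Orb D b a} with hQ
  -- (a) members of Q commute with a and lie in Dx a
  have hQa : ∀ q ∈ Q, q ∈ Dx D a := by
    intro q hq
    have hcm := commute_of_not_mem_Orb hT hc haDb hq.1 hq.2 a (mem_Orb_self b a) q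
      (mem_Orb_self b q)
    refine ⟨hq.1.1, ?_, hcm⟩
    intro h
    apply hq.2
    rw [h]; exact mem_Orb_self b a
  -- (b) members of Q are outside the orbit of b at a
  have hQb : ∀ q ∈ Q, q ∉ Orb D a b := by
    intro q hq hqO
    set R := Orb D b q with hR
    have hRQ : R ⊆ Q := by
      intro r hr
      refine ⟨Orb_subset hc hq.1 hr, ?_⟩
      intro hrT
      apply hq.2
      have h1 : Orb D b r = Orb D b a := Orb_eq_of_mem hrT
      have h2 : Orb D b r = Orb D b q := Orb_eq_of_mem hr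
      rw [← h1, h2]; exact mem_Orb_self b q
    have hRDa : R ⊆ Dx D a := fun r hr => hQa r (hRQ hr)
    have hRO : R ⊆ Orb D a b := by
      intro r hr
      obtain ⟨h, hh, e⟩ := orb_eq_own hT hc hq.1 hr
      have hcl : Subgroup.closure R ≤ Hx D a := by
        unfold Hx
        exact Subgroup.closure_mono hRDa
      rw [← Orb_eq_of_mem hqO]
      exact ⟨h, hcl hh, e.symm⟩
    have hbR : b ∉ R := fun hbR => (Orb_subset hc hq.1 hbR).2.1 rfl
    have hss : R ⊂ Orb D a b := by
      refine ⟨hRO, fun hsub => hbR (hsub (mem_Orb_self a b))⟩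
    have hlt : R.ncard < (Orb D a b).ncard := Set.ncard_lt_ncard hss (Set.toFinite _)
    have hge : m ≤ R.ncard := hmin b hbD q hq.1
    rw [hm] at hlt
    omega
  -- (c) the orbit of b at a commutes with Q
  have hOQ : ∀ z ∈ Orb D a b, ∀ q ∈ Q, Commute z q := by
    intro z hz q hq
    exact commute_of_not_mem_Orb hT hc hb (hQa q hq) (hQb q hq) z hz q (mem_Orb_self a q)
  -- (d) constraint at b
  have hcons := constraint hD hZ hmax hbD Q (fun q hq => hq.1) (q0 := q0) ⟨hq0, hq0T⟩
    (by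
      intro t ht htQ q hq
      have htT : t ∈ Orb D b a := by
        by_contra h
        exact htQ ⟨ht, h⟩
      exact commute_of_not_mem_Orb hT hc haDb hq.1 hq.2 t htT q (mem_Orb_self b q))
  -- (e) the orbit of b at a is {b}
  have hOb : ∀ z ∈ Orb D a b, Commute z b := fun z hz =>
    hcons z (Orb_subset hc hb hz).1 (hOQ z hz)
  have hsingle : ∀ z ∈ Orb D a b, z = b := by
    intro z hz
    obtain ⟨h, hh, e⟩ := orb_eq_own hT hc hb hz
    have hcl : Subgroup.closure (Orb D a b) ≤ Subgroup.centralizer {b} := by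
      rw [Subgroup.closure_le]
      intro w hw
      rw [SetLike.mem_coe, Subgroup.mem_centralizer_iff]
      intro z' hz'
      rw [Set.mem_singleton_iff] at hz'
      rw [hz']
      exact (hOb w hw).eq.symm
    have h1 := hcl hh
    rw [Subgroup.mem_centralizer_iff] at h1
    have h2 := h1 b rfl
    rw [e, ← h2]; group
  -- (f) a and b have the same partners
  have hsub : {e : G | e ∈ D ∧ Commute a e} ⊆ {e : G | e ∈ D ∧ Commute b e} := by
    rintro e ⟨he, hae⟩
    refine ⟨he, ?_⟩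
    by_cases hea : e = a
    · rw [hea]; exact hb.2.2.symm
    · have heD : e ∈ Dx D a := ⟨he, hea, hae⟩
      by_cases heO : e ∈ Orb D a b
      · rw [hsingle e heO]
      · exact commute_of_not_mem_Orb hT hc hb heD heO b (mem_Orb_self a b) e (mem_Orb_self a e)
  have heq : {e : G | e ∈ D ∧ Commute a e} = {e : G | e ∈ D ∧ Commute b e} := by
    apply Set.eq_of_subset_of_ncard_le hsub _ (Set.toFinite _)
    obtain ⟨g, hg⟩ := Cfsg.Agent.Lib.Helper91.class_exists_conj hD ha hbD
    rw [← hg, ncard_perp_conj hc g a]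
  have hSP : SamePartners D a b := by
    refine ⟨ha, hbD, fun e he => ?_⟩
    constructor
    · intro h
      have : e ∈ {e : G | e ∈ D ∧ Commute a e} := ⟨he, h⟩
      rw [heq] at this
      exact this.2
    · intro h
      have : e ∈ {e : G | e ∈ D ∧ Commute b e} := ⟨he, h⟩
      rw [← heq] at this
      exact this.2
  -- (g) a * b ∈ O_2(G) = 1
  have hab : a * b ∈ Cfsg.pCore 2 G :=
    closure_pairProducts_le_pCore hT hc (Subgroup.subset_closure ⟨a, b, hSP, rfl⟩)
  rw [h2, Subgroup.mem_bot] at hab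
  apply hb.2.1
  have : a * b = a * a := by rw [hab, tt_sq hT ha]
  exact mul_left_cancel this

end

end Cfsg.Agent.Lib.Helper36.Fischer
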