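import Mathlib
import Cfsg.Agent.Lib.Helper36.Fischer4

set_option autoImplicit false

/-! Fischer: the normaliser of a commuting set of transpositions of maximum size. -/

namespace Cfsg.Agent.Lib.Helper36.Fischer

open Cfsg Cfsg.Agent.Lib.Helper36.TT
open scoped Pointwise

section
variable {G : Type*} [Group G] {D : Set G}

/-- members of `D` inside a 2-subgroup commute. -/
theorem commute_of_mem_two_group (hT : Cfsg.IsThreeTranspositionSet D) {Q : Subgroup G}
    (hQ : IsPGroup 2 Q) {a b : G} (ha : a ∈ D) (hb : b ∈ D) (haQ : a ∈ Q) (hbQ : b ∈ Q) :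
    Commute a b := by
  by_contra h
  have h3 := tt_cube hT ha hb h
  have h1 : a * b = 1 :=
    Cfsg.Agent.Lib.Helper91.eq_one_of_mem_two_of_three hQ (Q.mul_mem haQ hbQ) (k := 1)
      (by simpa using h3)
  apply h
  have hab : b = a := by
    have h2 : a * b = a * a := by rw [h1, tt_sq hT ha]
    exact mul_left_cancel h2
  rw [hab]

/-- the closure of a commuting set of involutions is a 2-group. -/
theorem isPGroup_closure_commuting {E : Set G} (hinv : ∀ a ∈ E, a * a = 1)
    (hc : ∀ a ∈ E, ∀ b ∈ E, Commute a b) : IsPGroup 2 (Subgroup.closure E) := by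
  have h1 : Subgroup.closure E ≤ Subgroup.centralizer E := by
    rw [Subgroup.closure_le]
    intro a ha
    rw [SetLike.mem_coe, Subgroup.mem_centralizer_iff]
    intro e he
    exact (hc e he a ha).eq
  have h2 : ∀ x ∈ Subgroup.closure E, ∀ y ∈ Subgroup.closure E, Commute x y := by
    intro x hx y hy
    have : Subgroup.closure E ≤ Subgroup.centralizer {x} := by
      rw [Subgroup.closure_le]
      intro e he
      rw [SetLike.mem_coe, Subgroup.mem_centralizer_iff]
      intro z hz
      rw [Set.mem_singleton_iff] at hz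
      rw [hz]
      have := h1 hx
      rw [Subgroup.mem_centralizer_iff] at this
      exact (this e he).symm
    have h3 := this hy
    rw [Subgroup.mem_centralizer_iff] at h3
    exact (h3 x rfl)
  have h3 : ∀ x ∈ Subgroup.closure E, x * x = 1 := by
    intro x hx
    induction hx using Subgroup.closure_induction with
    | mem a ha => exact hinv a ha
    | one => simp
    | mul a b ha hb iha ihb =>
      have hcm := (h2 a ha b hb).eq
      calc a * b * (a * b) = a * (b * a) * b := by group
        _ = a * (a * b) * b := by rw [hcm]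
        _ = (a * a) * (b * b) := by group
        _ = 1 := by rw [iha, ihb, one_mul]
    | inv a ha iha =>
      calc a⁻¹ * a⁻¹ = (a * a)⁻¹ := by group
        _ = 1 := by rw [iha, inv_one]
  intro g
  refine ⟨1, ?_⟩
  apply Subtype.ext
  show ((g : G)) ^ (2 ^ 1) = 1
  rw [pow_one, pow_two]
  exact h3 g g.2

/-- a conjugation mapping a finite set into itself normalises it. -/
theorem mem_normalizer_of_conj_subset {E : Set G} (hfin : E.Finite) {g : G}
    (h : ∀ n ∈ E, g * n * g⁻¹ ∈ E) : g ∈ Subgroup.normalizer E := by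
  have hinj : Function.Injective (fun z : G => g * z * g⁻¹) := by
    intro a b hab
    simpa using hab
  have himg : (fun z : G => g * z * g⁻¹) '' E = E := by
    apply Set.eq_of_subset_of_ncard_le _ _ hfin
    · rintro _ ⟨n, hn, rfl⟩
      exact h n hn
    · rw [Set.ncard_image_of_injective _ hinj]
  rw [Subgroup.mem_set_normalizer_iff]
  intro n
  constructor
  · exact h n
  · intro hn
    rw [← himg] at hn
    obtain ⟨m, hm, hmn⟩ := hn
    have := hinj hmn
    rw [← this]; exact hm

variable [Finite G]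

/-- a commuting set of maximum size is the set of members of `D` in any 2-subgroup containing it. -/
theorem eq_inter_of_two_group (hT : Cfsg.IsThreeTranspositionSet D) {E : Set G} (hE : E ⊆ D)
    (hmax : ∀ E' : Set G, E' ⊆ D → (∀ a ∈ E', ∀ b ∈ E', Commute a b) → E'.ncard ≤ E.ncard)
    (Q : Subgroup G) (hQ : IsPGroup 2 Q) (hEQ : E ⊆ Q) : E = {d : G | d ∈ D ∧ d ∈ Q} := by
  have hsub : E ⊆ {d : G | d ∈ D ∧ d ∈ Q} := fun e he => ⟨hE he, hEQ he⟩
  apply Set.eq_of_subset_of_ncard_le hsub _ (Set.toFinite _)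
  apply hmax _ (fun d hd => hd.1)
  intro a ha b hb
  exact commute_of_mem_two_group hT hQ ha.1 hb.1 ha.2 hb.2

/-- Fischer: the normaliser of a commuting set of maximum size (from the single-class theorem). -/
theorem normalizer_max_commuting (hD : Cfsg.IsThreeTranspositionClass D)
    (hsingle : ∀ x ∈ D, ∀ y ∈ Dx D x, ∀ y' ∈ Dx D x, y' ∈ Orb D x y)
    {E : Set G} (hE : E ⊆ D) (hc : ∀ a ∈ E, ∀ b ∈ E, Commute a b)
    (hmax : ∀ E' : Set G, E' ⊆ D → (∀ a ∈ E', ∀ b ∈ E', Commute a b) → E'.ncard ≤ E.ncard) :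
    (∃ P : Sylow 2 G, (P : Subgroup G) ≤ Subgroup.normalizer E) ∧
      ∀ a ∈ E, ∀ b ∈ E, ∀ c ∈ E, ∀ d ∈ E, a ≠ b → c ≠ d →
        ∃ g ∈ Subgroup.normalizer E, g * a * g⁻¹ = c ∧ g * b * g⁻¹ = d := by
  have hT := hD.1
  have hcj := Cfsg.Agent.Lib.Helper91.class_conj_mem hD
  have : Fact (Nat.Prime 2) := ⟨Nat.prime_two⟩
  have hEfin : E.Finite := Set.toFinite _
  have hinv : ∀ a ∈ E, a * a = 1 := fun a ha => tt_sq hT (hE ha)
  constructor
  · obtain ⟨P, hP⟩ := (isPGroup_closure_commuting hinv hc).exists_le_sylow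
    refine ⟨P, ?_⟩
    have hEP : E = {d : G | d ∈ D ∧ d ∈ (P : Subgroup G)} :=
      eq_inter_of_two_group hT hE hmax P P.isPGroup' (fun e he => hP (Subgroup.subset_closure he))
    intro t ht
    apply mem_normalizer_of_conj_subset hEfin
    intro n hn
    rw [hEP] at hn ⊢
    exact ⟨hcj t n hn.1, (P : Subgroup G).mul_mem ((P : Subgroup G).mul_mem ht hn.2)
      ((P : Subgroup G).inv_mem ht)⟩
  · intro a ha b hb c hc' d hd hab hcd
    -- move (a, b) to (c, d)
    obtain ⟨g1, hg1⟩ := Cfsg.Agent.Lib.Helper91.class_exists_conj hD (hE ha) (hE hc')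
    have hbDa : b ∈ Dx D a := ⟨hE hb, fun h => hab h.symm, hc a ha b hb⟩
    have hb1 : g1 * b * g1⁻¹ ∈ Dx D c := by
      have := conj_mem_Dx hcj g1 hbDa
      rwa [hg1] at this
    have hdDc : d ∈ Dx D c := ⟨hE hd, fun h => hcd h.symm, hc c hc' d hd⟩
    obtain ⟨h, hh, hhd⟩ := hsingle c (hE hc') _ hb1 d hdDc
    have hhc : Commute h c := Hx_commute hh
    set g := h * g1 with hg
    have hga : g * a * g⁻¹ = c := by
      calc g * a * g⁻¹ = h * (g1 * a * g1⁻¹) * h⁻¹ := by rw [hg]; group
        _ = h * c * h⁻¹ := by rw [hg1]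
        _ = c := by rw [hhc.eq]; group
    have hgb : g * b * g⁻¹ = d := by
      calc g * b * g⁻¹ = h * (g1 * b * g1⁻¹) * h⁻¹ := by rw [hg]; group
        _ = d := hhd
    -- the conjugate maximal set
    set E' : Set G := (fun z => g * z * g⁻¹) '' E with hE'
    have hinj : Function.Injective (fun z : G => g * z * g⁻¹) := by
      intro x y hxy
      simpa using hxy
    have hE'D : E' ⊆ D := by
      rintro _ ⟨n, hn, rfl⟩
      exact hcj g n (hE hn)
    have hE'c : ∀ x ∈ E', ∀ y ∈ E', Commute x y := by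
      rintro _ ⟨n, hn, rfl⟩ _ ⟨m, hm, rfl⟩
      have := (hc n hn m hm).eq
      show g * n * g⁻¹ * (g * m * g⁻¹) = g * m * g⁻¹ * (g * n * g⁻¹)
      calc g * n * g⁻¹ * (g * m * g⁻¹) = g * (n * m) * g⁻¹ := by group
        _ = g * (m * n) * g⁻¹ := by rw [this]
        _ = g * m * g⁻¹ * (g * n * g⁻¹) := by group
    have hE'max : ∀ F : Set G, F ⊆ D → (∀ x ∈ F, ∀ y ∈ F, Commute x y) → F.ncard ≤ E'.ncard := by
      intro F hF hFc
      rw [hE', Set.ncard_image_of_injective _ hinj]
      exact hmax F hF hFc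
    have hcE' : c ∈ E' := ⟨a, ha, hga⟩
    have hdE' : d ∈ E' := ⟨b, hb, hgb⟩
    -- the centraliser of c and d
    set Y : Subgroup G := Subgroup.centralizer {c, d} with hY
    have hmemY : ∀ z : G, Commute z c → Commute z d → z ∈ Y := by
      intro z hzc hzd
      rw [hY, Subgroup.mem_centralizer_iff]
      intro w hw
      rcases hw with rfl | hw
      · exact hzc.eq.symm
      · rw [Set.mem_singleton_iff] at hw
        rw [hw]; exact hzd.eq.symm
    have hYc : ∀ z ∈ Y, Commute z c := by
      intro z hz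
      rw [hY, Subgroup.mem_centralizer_iff] at hz
      exact (hz c (by simp)).symm
    have hYd : ∀ z ∈ Y, Commute z d := by
      intro z hz
      rw [hY, Subgroup.mem_centralizer_iff] at hz
      exact (hz d (by simp)).symm
    have hEY : E ⊆ Y := fun e he => hmemY e (hc e he c hc') (hc e he d hd)
    have hE'Y : E' ⊆ Y := fun e he => hmemY e (hE'c e he c hcE') (hE'c e he d hdE')
    -- Sylow 2-subgroups of Y containing E resp. E'
    have hinv' : ∀ x ∈ E', x * x = 1 := fun x hx => tt_sq hT (hE'D hx)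
    have hA : IsPGroup 2 ((Subgroup.closure E).subgroupOf Y) :=
      (isPGroup_closure_commuting hinv hc).comap_subtype
    have hA' : IsPGroup 2 ((Subgroup.closure E').subgroupOf Y) :=
      (isPGroup_closure_commuting hinv' hE'c).comap_subtype
    obtain ⟨T, hTle⟩ := hA.exists_le_sylow
    obtain ⟨T', hT'le⟩ := hA'.exists_le_sylow
    have hET : E = {x : G | x ∈ D ∧ x ∈ (T : Subgroup Y).map Y.subtype} := by
      apply eq_inter_of_two_group hT hE hmax _ (T.isPGroup'.map _)
      intro e he
      exact ⟨⟨e, hEY he⟩, hTle (Subgroup.mem_subgroupOf.mpr (Subgroup.subset_closure he)), rfl⟩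
    have hE'T : E' = {x : G | x ∈ D ∧ x ∈ (T' : Subgroup Y).map Y.subtype} := by
      apply eq_inter_of_two_group hT hE'D hE'max _ (T'.isPGroup'.map _)
      intro e he
      exact ⟨⟨e, hE'Y he⟩, hT'le (Subgroup.mem_subgroupOf.mpr (Subgroup.subset_closure he)), rfl⟩
    obtain ⟨y, hy⟩ := MulAction.exists_smul_eq ↥Y T' T
    -- the element y * g normalises E
    refine ⟨(y : G) * g, ?_, ?_, ?_⟩
    · apply mem_normalizer_of_conj_subset hEfin
      intro n hn
      have h1 : g * n * g⁻¹ ∈ E' := ⟨n, hn, rfl⟩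
      rw [hE'T] at h1
      obtain ⟨h1D, ⟨t, ht, hte⟩⟩ := h1
      rw [hET]
      refine ⟨?_, ?_⟩
      · have := hcj (y : G) _ h1D
        have e : (y : G) * g * n * ((y : G) * g)⁻¹ = (y : G) * (g * n * g⁻¹) * (y : G)⁻¹ := by group
        rw [e]; exact this
      · refine ⟨y * t * y⁻¹, ?_, ?_⟩
        · have : MulAut.conj y • t ∈ (MulAut.conj y • (T' : Subgroup Y)) :=
            Subgroup.smul_mem_pointwise_smul _ _ _ ht
          rw [← Sylow.coe_subgroup_smul, hy] at this
          exact this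
        · have e : (y : G) * g * n * ((y : G) * g)⁻¹ = (y : G) * (g * n * g⁻¹) * (y : G)⁻¹ := by group
          rw [e, ← hte]
          rfl
    · have hyc := hYc (y : G) y.2
      calc (y : G) * g * a * ((y : G) * g)⁻¹ = (y : G) * (g * a * g⁻¹) * (y : G)⁻¹ := by group
        _ = (y : G) * c * (y : G)⁻¹ := by rw [hga]
        _ = c := by rw [hyc.eq]; group
    · have hyd := hYd (y : G) y.2
      calc (y : G) * g * b * ((y : G) * g)⁻¹ = (y : G) * (g * b * g⁻¹) * (y : G)⁻¹ := by group
        _ = (y : G) * d * (y : G)⁻¹ := by rw [hgb]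
        _ = d := by rw [hyd.eq]; group

end

end Cfsg.Agent.Lib.Helper36.Fischer
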