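import Mathlib
import Cfsg.Agent.Lib.Helper36.Fischer4

set_option autoImplicit false

/-! Fischer: single class, with the hypotheses on the centre and on `O_2` weakened to what a
group with simple derived group gives. -/

namespace Cfsg.Agent.Lib.Helper36.Fischer

open Cfsg Cfsg.Agent.Lib.Helper36.TT

section
variable {G : Type*} [Group G] {D : Set G}

/-- the constraint coming from maximality. -/
theorem constraint' (hD : Cfsg.IsThreeTranspositionClass D) (hZ : ∀ d ∈ D, d ∉ Subgroup.center G)
    (hmax : MaxHyp D) {x : G} (hx : x ∈ D) (Q : Set G) (hQ : Q ⊆ Dx D x) {q0 : G} (hq0 : q0 ∈ Q)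
    (hcomp : ∀ t ∈ Dx D x, t ∉ Q → ∀ q ∈ Q, Commute t q) :
    ∀ d ∈ D, (∀ q ∈ Q, Commute d q) → Commute d x := by
  have hT := hD.1
  intro d hd hdQ
  set C : Set G := {d : G | d ∈ D ∧ ∀ q ∈ Q, Commute d q} with hC
  set W : Subgroup G := Subgroup.closure (C ∪ Q) with hW
  have hCQD : C ∪ Q ⊆ {d : G | d ∈ D ∧ d ∈ W} := by
    rintro y (hy | hy)
    · exact ⟨hy.1, Subgroup.subset_closure (Or.inl hy)⟩
    · exact ⟨(hQ hy).1, Subgroup.subset_closure (Or.inr hy)⟩
  have hDW : Cfsg.IsDSubgroup D W := by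
    unfold Cfsg.IsDSubgroup
    apply le_antisymm
    · rw [Subgroup.closure_le]
      intro y hy
      exact hy.2
    · exact Subgroup.closure_mono hCQD
  have hMW : Subgroup.closure {y : G | y ∈ D ∧ Commute x y} ≤ W := by
    rw [Subgroup.closure_le]
    intro y hy
    by_cases hyx : y = x
    · apply Subgroup.subset_closure
      left
      rw [hyx]
      exact ⟨hx, fun q hq => (hQ hq).2.2⟩
    · have hyD : y ∈ Dx D x := ⟨hy.1, hyx, hy.2⟩
      by_cases hyQ : y ∈ Q
      · exact Subgroup.subset_closure (Or.inr hyQ)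
      · exact Subgroup.subset_closure (Or.inl ⟨hy.1, hcomp y hyD hyQ⟩)
  have hMcent : Subgroup.closure {y : G | y ∈ D ∧ Commute x y} ≤ Subgroup.centralizer {x} := by
    rw [Subgroup.closure_le]
    intro y hy
    rw [SetLike.mem_coe, Subgroup.mem_centralizer_iff]
    intro z hz
    rw [Set.mem_singleton_iff] at hz
    rw [hz]
    exact hy.2.eq
  rcases hmax x hx W hDW hMW with h | h
  · have hdW : d ∈ W := Subgroup.subset_closure (Or.inl ⟨hd, hdQ⟩)
    rw [h] at hdW
    have := hMcent hdW
    rw [Subgroup.mem_centralizer_iff] at this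
    exact (this x rfl).symm
  · exfalso
    set Φ : Subgroup G := Subgroup.closure Q with hΦ
    -- members of C centralise Φ
    have hCΦ : ∀ c ∈ C, ∀ φ ∈ Φ, Commute c φ := by
      intro c hcC φ hφ
      have : Φ ≤ Subgroup.centralizer {c} := by
        rw [hΦ, Subgroup.closure_le]
        intro q hq
        rw [SetLike.mem_coe, Subgroup.mem_centralizer_iff]
        intro z hz
        rw [Set.mem_singleton_iff] at hz
        rw [hz]
        exact (hcC.2 q hq).eq
      have h1 := this hφ
      rw [Subgroup.mem_centralizer_iff] at h1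
      exact (h1 c rfl)
    -- Φ is normal
    have hnorm : W ≤ Subgroup.normalizer (Φ : Set G) := by
      rw [hW, Subgroup.closure_le]
      rintro y (hy | hy)
      · rw [SetLike.mem_coe, Subgroup.mem_normalizer_iff]
        intro φ
        constructor
        · intro hφ
          have := (hCΦ y hy φ hφ).eq
          have e : y * φ * y⁻¹ = φ := by rw [this]; group
          rw [e]; exact hφ
        · intro hφ
          have := (hCΦ y hy _ hφ).eq
          have e : φ = y⁻¹ * (y * φ * y⁻¹) * y := by group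
          have e2 : y⁻¹ * (y * φ * y⁻¹) * y = y * φ * y⁻¹ := by
            rw [mul_assoc, ← this]; group
          rw [e, e2]; exact hφ
      · exact Subgroup.le_normalizer (Subgroup.subset_closure hy)
    have hΦx : ∀ φ ∈ Φ, Commute φ x := by
      intro φ hφ
      have : Φ ≤ Subgroup.centralizer {x} := by
        rw [hΦ, Subgroup.closure_le]
        intro q hq
        rw [SetLike.mem_coe, Subgroup.mem_centralizer_iff]
        intro z hz
        rw [Set.mem_singleton_iff] at hz
        rw [hz]
        exact (hQ hq).2.2.eq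
      have h1 := this hφ
      rw [Subgroup.mem_centralizer_iff] at h1
      exact (h1 x rfl).symm
    have hconjΦ : ∀ g : G, ∀ φ ∈ Φ, g * φ * g⁻¹ ∈ Φ := by
      intro g φ hφ
      have hg : g ∈ Subgroup.normalizer (Φ : Set G) := hnorm (by rw [h]; trivial)
      exact (Subgroup.mem_normalizer_iff.mp hg φ).mp hφ
    -- Φ is central
    have hq0Φ : q0 ∈ Φ := Subgroup.subset_closure hq0
    have hcen : q0 ∈ Subgroup.center G := by
      have hall : ∀ e ∈ D, Commute q0 e := by
        intro e he
        obtain ⟨g, hg⟩ := Cfsg.Agent.Lib.Helper91.class_exists_conj hD hx he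
        have h1 := hΦx _ (hconjΦ g⁻¹ q0 hq0Φ)
        rw [inv_inv] at h1
        rw [← hg]
        have h2 := h1.eq
        show q0 * (g * x * g⁻¹) = g * x * g⁻¹ * q0
        calc q0 * (g * x * g⁻¹) = g * ((g⁻¹ * q0 * g) * x) * g⁻¹ := by group
          _ = g * (x * (g⁻¹ * q0 * g)) * g⁻¹ := by rw [h2]
          _ = g * x * g⁻¹ * q0 := by group
      have : (⊤ : Subgroup G) ≤ Subgroup.centralizer {q0} := by
        rw [← hD.2.2, Subgroup.closure_le]
        intro e he
        rw [SetLike.mem_coe, Subgroup.mem_centralizer_iff]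
        intro z hz
        rw [Set.mem_singleton_iff] at hz
        rw [hz]
        exact (hall e he).eq
      rw [Subgroup.mem_center_iff]
      intro g
      have h1 := this (Subgroup.mem_top g)
      rw [Subgroup.mem_centralizer_iff] at h1
      exact (h1 q0 rfl).symm
    exact hZ q0 (hQ hq0).1 hcen

end

section
variable {G : Type*} [Group G] [Finite G] {D : Set G}

/-- Fischer: single class (from trivial centre, trivial `O_2` and maximality). -/
theorem single_class' (hD : Cfsg.IsThreeTranspositionClass D)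
    (hZ : ∀ d ∈ D, d ∉ Subgroup.center G)
    (h2 : ∀ a ∈ D, ∀ b ∈ D, a * b ∈ Cfsg.pCore 2 G → a = b) (hmax : MaxHyp D) {x : G} (hx : x ∈ D) :
    ∀ y ∈ Dx D x, ∀ y' ∈ Dx D x, y' ∈ Orb D x y := by
  have hT := hD.1
  have hc := Cfsg.Agent.Lib.Helper91.class_conj_mem hD
  by_contra hbad
  push Not at hbad
  have hBadx : Bad D x := hbad
  have hBad : ∀ d ∈ D, Bad D d := by
    intro d hd
    obtain ⟨g, rfl⟩ := Cfsg.Agent.Lib.Helper91.class_exists_conj hD hx hd
    exact hBadx.conj hc g
  -- minimal orbit size over all base points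
  obtain ⟨y0, hy0, -⟩ := hbad
  have hex : ∃ n : ℕ, ∃ d ∈ D, ∃ y ∈ Dx D d, (Orb D d y).ncard = n := ⟨_, x, hx, y0, hy0, rfl⟩
  classical
  obtain ⟨a, ha, b, hb, hm⟩ := Nat.find_spec hex
  have hmin : ∀ d ∈ D, ∀ y ∈ Dx D d, Nat.find hex ≤ (Orb D d y).ncard :=
    fun d hd y hy => Nat.find_min' hex ⟨d, hd, y, hy, rfl⟩
  set m := Nat.find hex with hmdef
  -- work at `a` with `b ∈ Dx a`
  have hbD : b ∈ D := hb.1
  have haDb : a ∈ Dx D b := Dx_symm ha hb
  -- an element of Dx b outside the orbit of a
  obtain ⟨q0, hq0, hq0T⟩ : ∃ q ∈ Dx D b, q ∉ Orb D b a := by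
    obtain ⟨y1, hy1, y2, hy2, hne⟩ := hBad b hbD
    by_cases h1 : y1 ∈ Orb D b a
    · refine ⟨y2, hy2, ?_⟩
      rw [← Orb_eq_of_mem h1]; exact hne
    · exact ⟨y1, hy1, h1⟩
  set Q : Set G := {q : G | q ∈ Dx D b ∧ q ∉ Orb D b a} with hQ
  -- (a) members of Q commute with a and lie in Dx a
  have hQa : ∀ q ∈ Q, q ∈ Dx D a := by
    intro q hq
    have hcm := commute_of_not_mem_Orb hT hc haDb hq.1 hq.2 a (mem_Orb_self b a) q
      (mem_Orb_self b q)
    refine ⟨hq.1.1, ?_, hcm⟩
    intro h
    apply hq.2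
    rw [h]; exact mem_Orb_self b a
  -- (b) members of Q are outside the orbit of b at a
  have hQb : ∀ q ∈ Q, q ∉ Orb D a b := by
    intro q hq hqO
    set R := Orb D b q with hR
    have hRQ : R ⊆ Q := by
      intro r hr
      refine ⟨Orb_subset hc hq.1 hr, ?_⟩
      intro hrT
      apply hq.2
      have h1 : Orb D b r = Orb D b a := Orb_eq_of_mem hrT
      have h2 : Orb D b r = Orb D b q := Orb_eq_of_mem hr
      rw [← h1, h2]; exact mem_Orb_self b q
    have hRDa : R ⊆ Dx D a := fun r hr => hQa r (hRQ hr)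
    have hRO : R ⊆ Orb D a b := by
      intro r hr
      obtain ⟨h, hh, e⟩ := orb_eq_own hT hc hq.1 hr
      have hcl : Subgroup.closure R ≤ Hx D a := by
        unfold Hx
        exact Subgroup.closure_mono hRDa
      rw [← Orb_eq_of_mem hqO]
      exact ⟨h, hcl hh, e.symm⟩
    have hbR : b ∉ R := fun hbR => (Orb_subset hc hq.1 hbR).2.1 rfl
    have hss : R ⊂ Orb D a b := by
      refine ⟨hRO, fun hsub => hbR (hsub (mem_Orb_self a b))⟩
    have hlt : R.ncard < (Orb D a b).ncard := Set.ncard_lt_ncard hss (Set.toFinite _)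
    have hge : m ≤ R.ncard := hmin b hbD q hq.1
    rw [hm] at hlt
    omega
  -- (c) the orbit of b at a commutes with Q
  have hOQ : ∀ z ∈ Orb D a b, ∀ q ∈ Q, Commute z q := by
    intro z hz q hq
    exact commute_of_not_mem_Orb hT hc hb (hQa q hq) (hQb q hq) z hz q (mem_Orb_self a q)
  -- (d) constraint at b
  have hcons := constraint' hD hZ hmax hbD Q (fun q hq => hq.1) (q0 := q0) ⟨hq0, hq0T⟩
    (by
      intro t ht htQ q hq
      have htT : t ∈ Orb D b a := by
        by_contra h
        exact htQ ⟨ht, h⟩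
      exact commute_of_not_mem_Orb hT hc haDb hq.1 hq.2 t htT q (mem_Orb_self b q))
  -- (e) the orbit of b at a is {b}
  have hOb : ∀ z ∈ Orb D a b, Commute z b := fun z hz =>
    hcons z (Orb_subset hc hb hz).1 (hOQ z hz)
  have hsingle : ∀ z ∈ Orb D a b, z = b := by
    intro z hz
    obtain ⟨h, hh, e⟩ := orb_eq_own hT hc hb hz
    have hcl : Subgroup.closure (Orb D a b) ≤ Subgroup.centralizer {b} := by
      rw [Subgroup.closure_le]
      intro w hw
      rw [SetLike.mem_coe, Subgroup.mem_centralizer_iff]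
      intro z' hz'
      rw [Set.mem_singleton_iff] at hz'
      rw [hz']
      exact (hOb w hw).eq.symm
    have h1 := hcl hh
    rw [Subgroup.mem_centralizer_iff] at h1
    have h2 := h1 b rfl
    rw [e, ← h2]; group
  -- (f) a and b have the same partners
  have hsub : {e : G | e ∈ D ∧ Commute a e} ⊆ {e : G | e ∈ D ∧ Commute b e} := by
    rintro e ⟨he, hae⟩
    refine ⟨he, ?_⟩
    by_cases hea : e = a
    · rw [hea]; exact hb.2.2.symm
    · have heD : e ∈ Dx D a := ⟨he, hea, hae⟩
      by_cases heO : e ∈ Orb D a b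
      · rw [hsingle e heO]
      · exact commute_of_not_mem_Orb hT hc hb heD heO b (mem_Orb_self a b) e (mem_Orb_self a e)
  have heq : {e : G | e ∈ D ∧ Commute a e} = {e : G | e ∈ D ∧ Commute b e} := by
    apply Set.eq_of_subset_of_ncard_le hsub _ (Set.toFinite _)
    obtain ⟨g, hg⟩ := Cfsg.Agent.Lib.Helper91.class_exists_conj hD ha hbD
    rw [← hg, ncard_perp_conj hc g a]
  have hSP : SamePartners D a b := by
    refine ⟨ha, hbD, fun e he => ?_⟩
    constructor
    · intro h
      have : e ∈ {e : G | e ∈ D ∧ Commute a e} := ⟨he, h⟩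
      rw [heq] at this
      exact this.2
    · intro h
      have : e ∈ {e : G | e ∈ D ∧ Commute b e} := ⟨he, h⟩
      rw [← heq] at this
      exact this.2
  -- (g) a * b ∈ O_2(G) = 1
  have hab : a * b ∈ Cfsg.pCore 2 G :=
    closure_pairProducts_le_pCore hT hc (Subgroup.subset_closure ⟨a, b, hSP, rfl⟩)
  exact hb.2.1 (h2 a ha b hbD hab).symm

end

end Cfsg.Agent.Lib.Helper36.Fischer
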