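import Mathlib
import Cfsg.Agent.Lib.Helper36.Fischer1

set_option autoImplicit false

/-! Fischer: consequences of a simple nonabelian derived group for a class of 3-transpositions:
solvable normal subgroups are central, the class is primitive, and some two members commute. -/

namespace Cfsg.Agent.Lib.Helper36.Fischer

open Cfsg Cfsg.Agent.Lib.Helper91
open scoped commutatorElement

universe u

section
variable {G : Type u} [Group G] [Finite G] {D : Set G}

/-- the group itself is not solvable. -/
theorem not_solvable_of_simple_derived (hsimple : IsSimpleGroup (commutator G))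
    (hnonab : ∃ x y : commutator G, x * y ≠ y * x) : ¬ Group.IsSolvable G := by
  intro h
  have := hsimple
  have hs : Group.IsSolvable (commutator G) := inferInstance
  obtain ⟨x, y, hxy⟩ := hnonab
  exact hxy ((IsSimpleGroup.comm_iff_isSolvable.mpr hs) x y)

/-- a solvable normal subgroup meets the derived group trivially. -/
theorem eq_one_of_mem_solvable_normal (hsimple : IsSimpleGroup (commutator G))
    (hnonab : ∃ x y : commutator G, x * y ≠ y * x) (N : Subgroup G) [N.Normal]
    (hN : Group.IsSolvable ↥N) {z : G} (hzN : z ∈ N) (hz' : z ∈ commutator G) : z = 1 := by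
  have := hsimple
  have hK : (N.subgroupOf (commutator G)).Normal := inferInstance
  rcases hsimple.eq_bot_or_eq_top_of_normal _ hK with h | h
  · have : (⟨z, hz'⟩ : commutator G) ∈ N.subgroupOf (commutator G) := by
      rw [Subgroup.mem_subgroupOf]; exact hzN
    rw [h, Subgroup.mem_bot] at this
    exact congrArg Subtype.val this
  · exfalso
    rw [Subgroup.subgroupOf_eq_top] at h
    have hs : Group.IsSolvable (commutator G) :=
      solvable_of_solvable_injective (Subgroup.inclusion_injective h)
    obtain ⟨x, y, hxy⟩ := hnonab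
    exact hxy ((IsSimpleGroup.comm_iff_isSolvable.mpr hs) x y)

/-- a solvable normal subgroup is central. -/
theorem solvable_normal_le_center (hsimple : IsSimpleGroup (commutator G))
    (hnonab : ∃ x y : commutator G, x * y ≠ y * x) (N : Subgroup G) [hn : N.Normal]
    (hN : Group.IsSolvable ↥N) : N ≤ Subgroup.center G := by
  intro n hnN
  rw [Subgroup.mem_center_iff]
  intro g
  have h1 : ⁅n, g⁆ ∈ N := by
    rw [commutatorElement_def]
    have : n * g * n⁻¹ * g⁻¹ = n * (g * n⁻¹ * g⁻¹) := by group
    rw [this]
    exact N.mul_mem hnN (hn.conj_mem _ (N.inv_mem hnN) g)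
  have h2 : ⁅n, g⁆ ∈ commutator G := by
    rw [commutator_def]
    exact Subgroup.commutator_mem_commutator (Subgroup.mem_top _) (Subgroup.mem_top _)
  have h3 := eq_one_of_mem_solvable_normal hsimple hnonab N hN h1 h2
  rw [commutatorElement_def] at h3
  have : g * n = (n * g * n⁻¹ * g⁻¹)⁻¹ * (n * g) := by group
  rw [this, h3]; group

theorem pCore_le_center_of_simple_derived (hsimple : IsSimpleGroup (commutator G))
    (hnonab : ∃ x y : commutator G, x * y ≠ y * x) (p : ℕ) [Fact p.Prime] :
    Cfsg.pCore p G ≤ Subgroup.center G := by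
  have := Cfsg.Agent.Lib.Helper54.pCore_normal p G
  apply solvable_normal_le_center hsimple hnonab
  have h : IsPGroup p ↥(Cfsg.pCore p G) := Cfsg.Agent.Lib.Helper54.pCore_isPGroup p G
  have := h.isNilpotent
  infer_instance

/-- no member of the class is central. -/
theorem not_mem_center_of_simple_derived
    (hnonab : ∃ x y : commutator G, x * y ≠ y * x)
    (hD : Cfsg.IsThreeTranspositionClass D) : ∀ d ∈ D, d ∉ Subgroup.center G := by
  intro d hd hdc
  have hDc : D ⊆ Subgroup.center G := by
    intro a ha
    obtain ⟨g, rfl⟩ := class_exists_conj hD hd ha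
    exact (inferInstance : (Subgroup.center G).Normal).conj_mem d hdc g
  have htop : (⊤ : Subgroup G) ≤ Subgroup.center G := by
    rw [← hD.2.2, Subgroup.closure_le]; exact hDc
  obtain ⟨x, y, hxy⟩ := hnonab
  apply hxy
  have := htop (Subgroup.mem_top (y : G))
  rw [Subgroup.mem_center_iff] at this
  exact Subtype.ext (this (x : G))

/-- the class has two members. -/
theorem two_members_of_simple_derived
    (hnonab : ∃ x y : commutator G, x * y ≠ y * x)
    (hD : Cfsg.IsThreeTranspositionClass D) : ∃ a ∈ D, ∃ b ∈ D, a ≠ b := by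
  by_contra hcon
  push Not at hcon
  obtain ⟨d, hd, _⟩ := hD.2.1
  apply not_mem_center_of_simple_derived hnonab hD d hd
  have htop : (⊤ : Subgroup G) ≤ Subgroup.centralizer {d} := by
    rw [← hD.2.2, Subgroup.closure_le]
    intro e he
    rw [SetLike.mem_coe, Subgroup.mem_centralizer_iff]
    intro z hz
    rw [Set.mem_singleton_iff] at hz
    rw [hz, hcon e he d hd]
  rw [Subgroup.mem_center_iff]
  intro g
  have h1 := htop (Subgroup.mem_top g)
  rw [Subgroup.mem_centralizer_iff] at h1
  exact (h1 d rfl).symm

/-- a product of two members in `O_2` forces them equal. -/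
theorem eq_of_mul_mem_pCore_two (hsimple : IsSimpleGroup (commutator G))
    (hnonab : ∃ x y : commutator G, x * y ≠ y * x)
    (hD : Cfsg.IsThreeTranspositionClass D) :
    ∀ a ∈ D, ∀ b ∈ D, a * b ∈ Cfsg.pCore 2 G → a = b := by
  intro a ha b hb hab
  have hT := hD.1
  have : Fact (Nat.Prime 2) := ⟨Nat.prime_two⟩
  have := Cfsg.Agent.Lib.Helper54.pCore_normal 2 G
  have hs : Group.IsSolvable ↥(Cfsg.pCore 2 G) := by
    have h : IsPGroup 2 ↥(Cfsg.pCore 2 G) := Cfsg.Agent.Lib.Helper54.pCore_isPGroup 2 G
    have := h.isNilpotent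
    infer_instance
  obtain ⟨g, hg⟩ := class_exists_conj hD ha hb
  have hcomm : a * b ∈ commutator G := by
    have : a * b = ⁅a, g⁆ := by
      rw [commutatorElement_def, tt_inv hT ha, ← hg]; simp only [mul_assoc]
    rw [this, commutator_def]
    exact Subgroup.commutator_mem_commutator (Subgroup.mem_top _) (Subgroup.mem_top _)
  have h1 := eq_one_of_mem_solvable_normal hsimple hnonab _ hs hab hcomm
  have h2 : b = a⁻¹ := by
    rw [eq_inv_iff_mul_eq_one, ← h1]
    -- b * a = (a * b)⁻¹
    have : b * a = (a * b)⁻¹ := by
      rw [mul_inv_rev, tt_inv hT ha, tt_inv hT hb]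
    rw [this, h1, inv_one]
  rw [h2, tt_inv hT ha]

/-- primitivity from a simple nonabelian derived group. -/
theorem primitive_of_simple_derived (hsimple : IsSimpleGroup (commutator G))
    (hnonab : ∃ x y : commutator G, x * y ≠ y * x)
    (hD : Cfsg.IsThreeTranspositionClass D) :
    Cfsg.IsPrimitiveUnderConj D := by
  have hT := hD.1
  have hc := class_conj_mem hD
  have : Fact (Nat.Prime 2) := ⟨Nat.prime_two⟩
  have : Fact (Nat.Prime 3) := ⟨Nat.prime_three⟩
  have hD2 := two_members_of_simple_derived hnonab hD
  have h2 : Cfsg.pCore 2 G ≤ Subgroup.center G :=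
    pCore_le_center_of_simple_derived hsimple hnonab 2
  have h3 : Cfsg.pCore 3 G ≤ Subgroup.center G :=
    pCore_le_center_of_simple_derived hsimple hnonab 3
  obtain ⟨L, hLn, hL, hF, hw1⟩ := component_structure hD hD2 h2 h3
  have := hLn
  have := hsimple
  obtain ⟨d, hd, _⟩ := hD.2.1
  -- L is contained in the derived group
  have hLG : L ≤ commutator G := by
    have hperf : ⁅L, L⁆ = L := Subgroup.isPerfect_iff.mp hL.1
    rw [← hperf, commutator_def]
    exact Subgroup.commutator_mono le_top le_top
  -- L is not trivial
  have hLne : L ≠ ⊥ := by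
    intro hbot
    haveI : IsSimpleGroup (↥L ⧸ Subgroup.center ↥L) := hL.2
    have hsub : Subsingleton ↥L := by
      rw [hbot]; infer_instance
    have : Subsingleton (↥L ⧸ Subgroup.center ↥L) := inferInstance
    exact not_subsingleton (↥L ⧸ Subgroup.center ↥L) this
  have hGL : commutator G ≤ L := by
    have hK : (L.subgroupOf (commutator G)).Normal := inferInstance
    rcases hsimple.eq_bot_or_eq_top_of_normal _ hK with h | h
    · exfalso
      apply hLne
      rw [Subgroup.eq_bot_iff_forall]
      intro x hx
      have : (⟨x, hLG hx⟩ : commutator G) ∈ L.subgroupOf (commutator G) := by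
        rw [Subgroup.mem_subgroupOf]; exact hx
      rw [h, Subgroup.mem_bot] at this
      exact congrArg Subtype.val this
    · rwa [Subgroup.subgroupOf_eq_top] at h
  have hmul : ∀ x ∈ D, ∀ y ∈ D, x * y ∈ L := by
    intro x hx y hy
    obtain ⟨g, hg⟩ := class_exists_conj hD hx hy
    rw [← hg]
    have : x * (g * x * g⁻¹) = ⁅x, g⁆ := by
      rw [commutatorElement_def, tt_inv hT hx]; simp only [mul_assoc]
    rw [this]
    apply hGL
    rw [commutator_def]
    exact Subgroup.commutator_mem_commutator (Subgroup.mem_top _) (Subgroup.mem_top _)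
  have hidx : L.index ≤ 2 := index_le_two_of_mul_mem hD hd (fun a ha => hmul d hd a ha)
  exact primitive_of_index_le_two hD hD2 h2 h3 L hL hF hidx

/-- some two distinct members commute. -/
theorem exists_commuting_pair (hsimple : IsSimpleGroup (commutator G))
    (hnonab : ∃ x y : commutator G, x * y ≠ y * x)
    (hD : Cfsg.IsThreeTranspositionClass D) :
    ∃ a ∈ D, ∃ b ∈ D, a ≠ b ∧ Commute a b := by
  by_contra hcon
  push Not at hcon
  obtain ⟨d, hd, _⟩ := hD.2.1
  have htop := widthOneHyp.{u} G D hD
    (fun a ha b hb hab => by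
      by_contra hne
      exact hcon a ha b hb hne hab) d hd
  exact not_solvable_of_simple_derived hsimple hnonab (solvable_of_zpowers_sup htop)

end

end Cfsg.Agent.Lib.Helper36.Fischer
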