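import Mathlib
import Cfsg.Agent.Lib.Helper36.Fischer4

set_option autoImplicit false

/-! Fischer: the centraliser of a transposition is transitive on the transpositions not commuting
with it (word identities and the conjugacy relations). -/

namespace Cfsg.Agent.Lib.Helper36.Fischer

open Cfsg Cfsg.Agent.Lib.Helper36.TT

section
variable {G : Type*} [Group G] {D : Set G}

/-- conjugate under the centraliser of `a`. -/
def CConj (a c w : G) : Prop := ∃ g : G, Commute g a ∧ g * c * g⁻¹ = w

theorem CConj.refl (a c : G) : CConj a c c := ⟨1, Commute.one_left a, by simp⟩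

theorem CConj.symm {a c w : G} (h : CConj a c w) : CConj a w c := by
  obtain ⟨g, hg, e⟩ := h
  exact ⟨g⁻¹, hg.inv_left, by rw [← e]; group⟩

theorem CConj.trans {a c w v : G} (h₁ : CConj a c w) (h₂ : CConj a w v) : CConj a c v := by
  obtain ⟨g, hg, e⟩ := h₁
  obtain ⟨k, hk, e'⟩ := h₂
  exact ⟨k * g, hk.mul_left hg, by rw [← e', ← e]; group⟩

/-- simultaneous conjugacy of pairs. -/
def PC (x y x' y' : G) : Prop := ∃ k : G, k * x * k⁻¹ = x' ∧ k * y * k⁻¹ = y'

theorem PC.symm {x y x' y' : G} (h : PC x y x' y') : PC x' y' x y := by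
  obtain ⟨k, e1, e2⟩ := h
  exact ⟨k⁻¹, by rw [← e1]; group, by rw [← e2]; group⟩

theorem PC.trans {x y x' y' x'' y'' : G} (h₁ : PC x y x' y') (h₂ : PC x' y' x'' y'') :
    PC x y x'' y'' := by
  obtain ⟨k, e1, e2⟩ := h₁
  obtain ⟨l, f1, f2⟩ := h₂
  exact ⟨l * k, by rw [← f1, ← e1]; group, by rw [← f2, ← e2]; group⟩

theorem CConj.pc {a c w : G} (h : CConj a c w) : PC a c a w := by
  obtain ⟨g, hg, e⟩ := h
  refine ⟨g, ?_, e⟩
  rw [hg.eq]; group

theorem PC.cconj {a c w : G} (h : PC a c a w) : CConj a c w := by
  obtain ⟨k, e1, e2⟩ := h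
  refine ⟨k, ?_, e2⟩
  show k * a = a * k
  calc k * a = (k * a * k⁻¹) * k := by group
    _ = a * k := by rw [e1]

/-- the third point of a line swaps the other two. -/
theorem pc_swap (hT : Cfsg.IsThreeTranspositionSet D) {x y : G} (hx : x ∈ D) (hy : y ∈ D)
    (h : ¬ Commute x y) : PC x y y x := by
  have hb := tt_braid hT hx hy h
  have hx2 := tt_sq hT hx
  have hy2 := tt_sq hT hy
  have hxi := tt_inv hT hx
  have hyi := tt_inv hT hy
  refine ⟨x * y * x, ?_, ?_⟩
  · have : (x * y * x)⁻¹ = x * y * x := by
      rw [mul_inv_rev, mul_inv_rev, hxi, hyi, mul_assoc]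
    rw [this]
    calc x * y * x * x * (x * y * x) = x * y * (x * x) * (x * y * x) := by simp only [mul_assoc]
      _ = x * y * (x * y * x) := by rw [hx2, mul_one]
      _ = x * y * (y * x * y) := by rw [hb]
      _ = x * (y * y) * x * y := by simp only [mul_assoc]
      _ = y := by rw [hy2, mul_one, hx2, one_mul]
  · have : (x * y * x)⁻¹ = x * y * x := by
      rw [mul_inv_rev, mul_inv_rev, hxi, hyi, mul_assoc]
    rw [this]
    calc x * y * x * y * (x * y * x) = (x * y * x) * y * (x * y * x) := by simp only [mul_assoc]
      _ = (y * x * y) * y * (x * y * x) := by rw [hb]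
      _ = y * x * (y * y) * (x * y * x) := by simp only [mul_assoc]
      _ = y * (x * x) * y * x := by rw [hy2, mul_one]; simp only [mul_assoc]
      _ = x := by rw [hx2, mul_one, hy2, one_mul]

/-- two commuting members, neither commuting with `a`, are conjugate under the centraliser of
`a`. -/
theorem cconj_of_commute (hT : Cfsg.IsThreeTranspositionSet D) {a c d : G} (ha : a ∈ D)
    (hc : c ∈ D) (hd : d ∈ D) (hac : ¬ Commute a c) (had : ¬ Commute a d) (hcd : Commute c d) :
    CConj a c d := by
  have ha2 := tt_sq hT ha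
  have hc2 := tt_sq hT hc
  have hd2 := tt_sq hT hd
  have bac := tt_braid hT ha hc hac
  have bad := tt_braid hT ha hd had
  have hcd' : c * d = d * c := hcd.eq
  -- d c d = c
  have e0 : d * c * d = c := by
    rw [← hcd', mul_assoc, hd2, mul_one]
  -- c a c a c = a
  have e1 : c * a * c * a * c = a := by
    calc c * a * c * a * c = (c * a * c) * a * c := by simp only [mul_assoc]
      _ = (a * c * a) * a * c := by rw [bac]
      _ = a * c * (a * a) * c := by simp only [mul_assoc]
      _ = a := by rw [ha2, mul_one, mul_assoc, hc2, mul_one]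
  set f : G := d * a * c * a * d with hf
  -- (A) a f a = f
  have eA : a * f * a = f := by
    calc a * f * a = (a * d * a) * c * (a * d * a) := by rw [hf]; simp only [mul_assoc]
      _ = (d * a * d) * c * (d * a * d) := by rw [bad]
      _ = d * a * (d * c * d) * a * d := by simp only [mul_assoc]
      _ = f := by rw [e0]
  -- (D) f f = 1
  have eD : f * f = 1 := by
    calc f * f = d * a * c * a * (d * d) * a * c * a * d := by rw [hf]; simp only [mul_assoc]
      _ = d * a * c * (a * a) * c * a * d := by rw [hd2, mul_one]; simp only [mul_assoc]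
      _ = d * a * (c * c) * a * d := by rw [ha2, mul_one]; simp only [mul_assoc]
      _ = d * (a * a) * d := by rw [hc2, mul_one]; simp only [mul_assoc]
      _ = 1 := by rw [ha2, mul_one, hd2]
  -- (B) f c f = d a d
  have eB : f * c * f = d * a * d := by
    calc f * c * f = d * a * c * a * (d * c * d) * a * c * a * d := by
          rw [hf]; simp only [mul_assoc]
      _ = d * a * (c * a * c * a * c) * a * d := by rw [e0]; simp only [mul_assoc]
      _ = d * (a * a) * a * d := by rw [e1]; simp only [mul_assoc]
      _ = d * a * d := by rw [ha2, mul_one]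
  -- (C) a d a d = d a
  have eC : a * d * a * d = d * a := by
    calc a * d * a * d = (a * d * a) * d := by simp only [mul_assoc]
      _ = (d * a * d) * d := by rw [bad]
      _ = d * a * (d * d) := by simp only [mul_assoc]
      _ = d * a := by rw [hd2, mul_one]
  refine ⟨a * f, ?_, ?_⟩
  · show a * f * a = a * (a * f)
    rw [eA, ← mul_assoc, ha2, one_mul]
  · rw [mul_inv_eq_iff_eq_mul]
    -- f c = d a d f
    have e2 : f * c = d * a * d * f := by
      calc f * c = f * c * (f * f) := by rw [eD, mul_one]
        _ = (f * c * f) * f := by simp only [mul_assoc]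
        _ = d * a * d * f := by rw [eB]
    calc a * f * c = a * (f * c) := by simp only [mul_assoc]
      _ = a * (d * a * d * f) := by rw [e2]
      _ = (a * d * a * d) * f := by simp only [mul_assoc]
      _ = d * a * f := by rw [eC]
      _ = d * (a * f) := by simp only [mul_assoc]

/-- two non-commuting members whose third point commutes with `a` are conjugate under the
centraliser of `a`. -/
theorem cconj_of_third (hT : Cfsg.IsThreeTranspositionSet D) {a c w : G}
    (hc : c ∈ D) (hw : w ∈ D) (hcw : ¬ Commute c w) (h3 : Commute (c * w * c) a) :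
    CConj a c w := by
  have hc2 := tt_sq hT hc
  have hw2 := tt_sq hT hw
  have hci := tt_inv hT hc
  have hwi := tt_inv hT hw
  have hb := tt_braid hT hc hw hcw
  refine ⟨c * w * c, h3, ?_⟩
  have : (c * w * c)⁻¹ = c * w * c := by
    rw [mul_inv_rev, mul_inv_rev, hci, hwi, mul_assoc]
  rw [this]
  calc c * w * c * c * (c * w * c) = c * w * (c * c) * (c * w * c) := by simp only [mul_assoc]
    _ = (c * w * c) * w * c := by rw [hc2, mul_one]; simp only [mul_assoc]
    _ = (w * c * w) * w * c := by rw [hb]
    _ = w * c * (w * w) * c := by simp only [mul_assoc]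
    _ = w := by rw [hw2, mul_one, mul_assoc, hc2, mul_one]

end

end Cfsg.Agent.Lib.Helper36.Fischer
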