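import Mathlib
import Cfsg.Agent.Lib.Helper36.Fischer8

set_option autoImplicit false

/-! Fischer: the centraliser of a transposition is transitive on the transpositions not commuting
with it (the global argument: maximality of `⟨a^⊥⟩` and connectedness of the commuting graph). -/

namespace Cfsg.Agent.Lib.Helper36.Fischer

open Cfsg Cfsg.Agent.Lib.Helper36.TT

section
variable {G : Type*} [Group G] {D : Set G}

theorem conj_mem_closure {S : Set G} {g : G} (h : ∀ s ∈ S, g * s * g⁻¹ ∈ S) {n : G}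
    (hn : n ∈ Subgroup.closure S) : g * n * g⁻¹ ∈ Subgroup.closure S := by
  induction hn using Subgroup.closure_induction with
  | mem t ht => exact Subgroup.subset_closure (h t ht)
  | one => simp
  | mul a b _ _ ha hb =>
    have : g * (a * b) * g⁻¹ = (g * a * g⁻¹) * (g * b * g⁻¹) := by group
    rw [this]; exact Subgroup.mul_mem _ ha hb
  | inv a _ ha =>
    have : g * a⁻¹ * g⁻¹ = (g * a * g⁻¹)⁻¹ := by group
    rw [this]; exact Subgroup.inv_mem _ ha

theorem conj_eq_of_commute {g a : G} (hg : Commute g a) : g * a * g⁻¹ = a := by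
  rw [hg.eq]; group

/-- a nonempty set of members not commuting with `a`, invariant under the centraliser of `a`,
generates the group. -/
theorem closure_eq_top_of_invariant (hD : Cfsg.IsThreeTranspositionClass D) (hmax : MaxHyp D)
    {a : G} (ha : a ∈ D) (Ω : Set G) (hΩD : Ω ⊆ D) (hΩa : ∀ x ∈ Ω, ¬ Commute a x)
    (hne : Ω.Nonempty) (hinv : ∀ g : G, Commute g a → ∀ x ∈ Ω, g * x * g⁻¹ ∈ Ω) :
    Subgroup.closure Ω = ⊤ := by
  set N := Subgroup.closure Ω with hN
  set S : Set G := {d | d ∈ D ∧ d ∈ Subgroup.normalizer (N : Set G)} with hS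
  set H := Subgroup.closure S with hH
  have hDH : Cfsg.IsDSubgroup D H := by
    unfold Cfsg.IsDSubgroup
    apply le_antisymm
    · rw [Subgroup.closure_le]
      intro y hy
      exact hy.2
    · apply Subgroup.closure_mono
      intro y hy
      exact ⟨hy.1, Subgroup.subset_closure hy⟩
  have hHn : H ≤ Subgroup.normalizer (N : Set G) := by
    rw [hH, Subgroup.closure_le]
    intro y hy
    exact hy.2
  have hnorm : ∀ g : G, Commute g a → g ∈ Subgroup.normalizer (N : Set G) := by
    intro g hg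
    rw [Subgroup.mem_normalizer_iff]
    intro n
    constructor
    · intro hn
      exact conj_mem_closure (hinv g hg) hn
    · intro hn
      have h1 := conj_mem_closure (S := Ω) (g := g⁻¹) (hinv g⁻¹ hg.inv_left) hn
      have e : g⁻¹ * (g * n * g⁻¹) * g⁻¹⁻¹ = n := by group
      rwa [e] at h1
  have hMH : Subgroup.closure {y : G | y ∈ D ∧ Commute a y} ≤ H := by
    rw [Subgroup.closure_le]
    intro y hy
    exact Subgroup.subset_closure ⟨hy.1, hnorm y hy.2.symm⟩
  obtain ⟨x, hx⟩ := hne
  have hxS : x ∈ S := ⟨hΩD hx, Subgroup.le_normalizer (Subgroup.subset_closure hx)⟩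
  rcases hmax a ha H hDH hMH with h | h
  · exfalso
    have hxH : x ∈ H := Subgroup.subset_closure hxS
    rw [h] at hxH
    have hcent : Subgroup.closure {y : G | y ∈ D ∧ Commute a y} ≤ Subgroup.centralizer {a} := by
      rw [Subgroup.closure_le]
      intro y hy
      rw [SetLike.mem_coe, Subgroup.mem_centralizer_iff]
      intro z hz
      rw [Set.mem_singleton_iff] at hz
      rw [hz]
      exact hy.2.eq
    have h1 := hcent hxH
    rw [Subgroup.mem_centralizer_iff] at h1
    exact hΩa x hx (h1 a rfl)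
  · have hconjN : ∀ g : G, ∀ n ∈ N, g * n * g⁻¹ ∈ N := by
      intro g n hn
      have hg : g ∈ Subgroup.normalizer (N : Set G) := hHn (by rw [h]; trivial)
      exact (Subgroup.mem_normalizer_iff.mp hg n).mp hn
    rw [eq_top_iff, ← hD.2.2, Subgroup.closure_le]
    intro e he
    obtain ⟨g, hg⟩ := Cfsg.Agent.Lib.Helper91.class_exists_conj hD (hΩD hx) he
    rw [← hg]
    exact hconjN g x (Subgroup.subset_closure hx)

/-- the two "one-sided" common partners cannot both exist. -/
theorem nested_false (hT : Cfsg.IsThreeTranspositionSet D) {a c w b b' : G} (ha : a ∈ D)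
    (hc : c ∈ D) (hw : w ∈ D) (hb : b ∈ D) (hb' : b' ∈ D) (hac : ¬ Commute a c)
    (haw : ¬ Commute a w) (hncw : ¬ CConj a c w)
    (hab : Commute a b) (hcb : Commute c b) (hwb : ¬ Commute w b)
    (hab' : Commute a b') (hwb' : Commute w b') (hcb' : ¬ Commute c b') : False := by
  have hcw : ¬ Commute c w := fun h => hncw (cconj_of_commute hT ha hc hw hac haw h)
  have h1 : CConj w a b := cconj_of_commute hT hw ha hb (fun h => haw h.symm) hwb hab
  have h2 : CConj w c b := cconj_of_commute hT hw hc hb (fun h => hcw h.symm) hwb hcb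
  have h3 : CConj w a c := h1.trans h2.symm
  have h4 : CConj c a b' := cconj_of_commute hT hc ha hb' (fun h => hac h.symm) hcb' hab'
  have h5 : CConj c w b' := cconj_of_commute hT hc hw hb' hcw hcb' hwb'
  have h6 : CConj c a w := h4.trans h5.symm
  have p1 : PC a c c a := pc_swap hT ha hc hac
  have p2 : PC c a c w := h6.pc
  have p3 : PC c w w c := pc_swap hT hc hw hcw
  have p4 : PC w c w a := h3.symm.pc
  have p5 : PC w a a w := pc_swap hT hw ha (fun h => haw h.symm)
  exact hncw ((((p1.trans p2).trans p3).trans p4).trans p5).cconj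

/-- the common partners of `a` and `c`. -/
def Fc (D : Set G) (a c : G) : Set G := {b | b ∈ D ∧ Commute a b ∧ Commute c b}

theorem ncard_Fc_le [Finite G] (hcl : ∀ g : G, ∀ d ∈ D, g * d * g⁻¹ ∈ D) {a g : G}
    (hg : Commute g a) (c : G) : (Fc D a c).ncard ≤ (Fc D a (g * c * g⁻¹)).ncard := by
  have hinj : Function.Injective (fun z : G => g * z * g⁻¹) := by
    intro x y hxy
    simpa using hxy
  have hsub : (fun z : G => g * z * g⁻¹) '' Fc D a c ⊆ Fc D a (g * c * g⁻¹) := by
    rintro _ ⟨b, hb, rfl⟩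
    refine ⟨hcl g b hb.1, ?_, (Commute.conj_iff g).mpr hb.2.2⟩
    have h1 : Commute (g * a * g⁻¹) (g * b * g⁻¹) := (Commute.conj_iff g).mpr hb.2.1
    rwa [conj_eq_of_commute hg] at h1
  calc (Fc D a c).ncard = ((fun z : G => g * z * g⁻¹) '' Fc D a c).ncard :=
        (Set.ncard_image_of_injective _ hinj).symm
    _ ≤ _ := Set.ncard_le_ncard hsub (Set.toFinite _)

/-- if `c`, `w` are not conjugate under the centraliser of `a` and `c` has at most as many common
partners with `a` as `w`, then it has none. -/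
theorem Fc_empty_of_le [Finite G] (hD : Cfsg.IsThreeTranspositionClass D)
    (hZ : ∀ d ∈ D, d ∉ Subgroup.center G) (hmax : MaxHyp D) {a c w : G} (ha : a ∈ D)
    (hc : c ∈ D) (hw : w ∈ D) (hac : ¬ Commute a c) (haw : ¬ Commute a w)
    (hncw : ¬ CConj a c w) (hle : (Fc D a c).ncard ≤ (Fc D a w).ncard) : Fc D a c = ∅ := by
  have hT := hD.1
  have hcl := Cfsg.Agent.Lib.Helper91.class_conj_mem hD
  set Ω : Set G := {x | x ∈ D ∧ ¬ Commute a x ∧ CConj a w x} with hΩ
  have hΩtop : Subgroup.closure Ω = ⊤ :=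
    closure_eq_top_of_invariant hD hmax ha Ω (fun x hx => hx.1) (fun x hx => hx.2.1)
      ⟨w, hw, haw, CConj.refl a w⟩ (by
        intro g hg x hx
        refine ⟨hcl g x hx.1, ?_, hx.2.2.trans ⟨g, hg, rfl⟩⟩
        intro h
        apply hx.2.1
        have h1 : Commute (g * a * g⁻¹) (g * x * g⁻¹) := by rwa [conj_eq_of_commute hg]
        exact (Commute.conj_iff g).mp h1)
  have hsub : ∀ w1 ∈ Ω, Fc D a c ⊆ Fc D a w1 := by
    intro w1 hw1
    obtain ⟨g, hg, e⟩ := hw1.2.2
    have hncw1 : ¬ CConj a c w1 := fun h => hncw (h.trans hw1.2.2.symm)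
    have hcard : (Fc D a c).ncard ≤ (Fc D a w1).ncard := by
      rw [← e]; exact hle.trans (ncard_Fc_le hcl hg w)
    by_contra hns
    have hns2 : ¬ Fc D a w1 ⊆ Fc D a c := by
      intro h2
      apply hns
      have := Set.eq_of_subset_of_ncard_le h2 hcard (Set.toFinite _)
      rw [this]
    rw [Set.not_subset] at hns hns2
    obtain ⟨b, hb, hbn⟩ := hns
    obtain ⟨b', hb', hbn'⟩ := hns2
    have hwb : ¬ Commute w1 b := fun h => hbn ⟨hb.1, hb.2.1, h⟩
    have hcb' : ¬ Commute c b' := fun h => hbn' ⟨hb'.1, hb'.2.1, h⟩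
    exact nested_false hT ha hc hw1.1 hb.1 hb'.1 hac hw1.2.1 hncw1 hb.2.1 hb.2.2 hwb hb'.2.1
      hb'.2.2 hcb'
  rw [Set.eq_empty_iff_forall_notMem]
  intro b hb
  apply hZ b hb.1
  have htop : (⊤ : Subgroup G) ≤ Subgroup.centralizer {b} := by
    rw [← hΩtop, Subgroup.closure_le]
    intro x hx
    rw [SetLike.mem_coe, Subgroup.mem_centralizer_iff]
    intro z hz
    rw [Set.mem_singleton_iff] at hz
    rw [hz]
    exact ((hsub x hx hb).2.2).eq.symm
  rw [Subgroup.mem_center_iff]
  intro g
  have h1 := htop (Subgroup.mem_top g)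
  rw [Subgroup.mem_centralizer_iff] at h1
  exact (h1 b rfl).symm

/-- an orbit without common partners contradicts connectedness. -/
theorem false_of_Fc_empty (hT : Cfsg.IsThreeTranspositionSet D)
    (hconn : (Cfsg.commutingGraph D).Connected) {a c : G} (ha : a ∈ D) (hc : c ∈ D)
    (hac : ¬ Commute a c)
    (hF : ∀ x ∈ D, ¬ Commute a x → CConj a c x → Fc D a x = ∅) : False := by
  set Δ : Set G := {x | x ∈ D ∧ ¬ Commute a x ∧ CConj a c x} with hΔ
  have hclosed : ∀ x ∈ Δ, ∀ y ∈ D, Commute x y → y ∈ Δ := by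
    intro x hx y hy hxy
    have hay : ¬ Commute a y := by
      intro h
      have hy' : y ∈ Fc D a x := ⟨hy, h, hxy⟩
      rw [hF x hx.1 hx.2.1 hx.2.2] at hy'
      exact hy'
    exact ⟨hy, hay, hx.2.2.trans (cconj_of_commute hT ha hx.1 hy hx.2.1 hay hxy)⟩
  have hwalk : ∀ (u v : D) (p : (Cfsg.commutingGraph D).Walk u v), (u : G) ∈ Δ → (v : G) ∈ Δ := by
    intro u v p
    induction p with
    | nil => exact id
    | cons hadj p ih =>
      intro hu
      apply ih
      rw [Cfsg.commutingGraph, SimpleGraph.fromRel_adj] at hadj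
      rcases hadj.2 with h | h
      · exact hclosed _ hu _ (Subtype.coe_prop _) h
      · exact hclosed _ hu _ (Subtype.coe_prop _) h.symm
  obtain ⟨p⟩ := hconn.preconnected ⟨c, hc⟩ ⟨a, ha⟩
  have h1 := hwalk _ _ p ⟨hc, hac, CConj.refl a c⟩
  exact h1.2.1 (Commute.refl a)

/-- Fischer: the centraliser of `a` is transitive on the members not commuting with `a`. -/
theorem trans_noncommuting [Finite G] (hD : Cfsg.IsThreeTranspositionClass D)
    (hZ : ∀ d ∈ D, d ∉ Subgroup.center G) (hmax : MaxHyp D)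
    (hconn : (Cfsg.commutingGraph D).Connected) {a : G} (ha : a ∈ D) :
    ∀ c ∈ D, ∀ w ∈ D, ¬ Commute a c → ¬ Commute a w → CConj a c w := by
  intro c hc w hw hac haw
  by_contra hncw
  have hT := hD.1
  have hcl := Cfsg.Agent.Lib.Helper91.class_conj_mem hD
  have key : ∀ x g : G, Commute g a → ∀ y : G, g * y * g⁻¹ = x →
      (Fc D a x).ncard ≤ (Fc D a y).ncard := by
    intro x g hg y e
    have h1 := ncard_Fc_le hcl (hg.inv_left) x
    have e2 : g⁻¹ * x * g⁻¹⁻¹ = y := by rw [← e]; group
    rwa [e2] at h1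
  rcases le_total (Fc D a c).ncard (Fc D a w).ncard with hle | hle
  · apply false_of_Fc_empty hT hconn ha hc hac
    intro x hx hax hcx
    obtain ⟨g, hg, e⟩ := hcx
    exact Fc_empty_of_le hD hZ hmax ha hx hw hax haw
      (fun h => hncw (CConj.trans ⟨g, hg, e⟩ h)) ((key x g hg c e).trans hle)
  · apply false_of_Fc_empty hT hconn ha hw haw
    intro x hx hax hwx
    obtain ⟨g, hg, e⟩ := hwx
    exact Fc_empty_of_le hD hZ hmax ha hx hc hax hac
      (fun h => hncw (CConj.trans ⟨g, hg, e⟩ h).symm) ((key x g hg w e).trans hle)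

end

end Cfsg.Agent.Lib.Helper36.Fischer
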