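import Mathlib
import Cfsg.Prelude.Def_Sporadic_a

set_option autoImplicit false

/-!
Bitmask model of the length-24 code `Cfsg.golayCode`.
Point `some x` is bit `x.val`, the extra point `none` is bit 23.
-/

namespace Cfsg.Agent.Lib.Helper36

open Cfsg

/-- Bit index of a point. -/
def idx : GolayPt → ℕ
  | none => 23
  | some x => x.val

/-- The binary word with bitmask `m`. -/
def ofMask (m : ℕ) : GolayPt → ZMod 2 := fun p => if m.testBit (idx p) then 1 else 0

theorem ofMask_zero : ofMask 0 = 0 := by
  funext p; simp [ofMask]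

theorem ofMask_xor (a b : ℕ) : ofMask (a ^^^ b) = ofMask a + ofMask b := by
  funext p
  simp only [ofMask, Nat.testBit_xor, Pi.add_apply]
  cases a.testBit (idx p) <;> cases b.testBit (idx p) <;> decide

/-- All `2 ^ k` xor-combinations of a list of masks. -/
def spanList : List ℕ → List ℕ
  | [] => [0]
  | b :: bs => spanList bs ++ (spanList bs).map (· ^^^ b)

theorem mem_span_iff (bs : List ℕ) (w : GolayPt → ZMod 2) :
    w ∈ Submodule.span (ZMod 2) {x | ∃ b ∈ bs, x = ofMask b} ↔ ∃ m ∈ spanList bs, w = ofMask m := by
  induction bs generalizing w with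
  | nil =>
    simp [spanList, ofMask_zero]
  | cons b bs ih =>
    have hset : {x | ∃ b' ∈ b :: bs, x = ofMask b'} = insert (ofMask b) {x | ∃ b' ∈ bs, x = ofMask b'} := by
      ext x; simp
    rw [hset, Submodule.mem_span_insert]
    constructor
    · rintro ⟨a, z, hz, rfl⟩
      obtain ⟨m, hm, rfl⟩ := (ih z).1 hz
      have ha : a = 0 ∨ a = 1 := by
        revert a; decide
      rcases ha with rfl | rfl
      · exact ⟨m, by simp [spanList, hm], by simp⟩
      · refine ⟨m ^^^ b, by simp only [spanList, List.mem_append, List.mem_map]; exact Or.inr ⟨m, hm, rfl⟩, ?_⟩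
        rw [ofMask_xor]; simp [add_comm]
    · rintro ⟨m, hm, rfl⟩
      simp only [spanList, List.mem_append, List.mem_map] at hm
      rcases hm with hm | ⟨m', hm', rfl⟩
      · exact ⟨0, ofMask m, (ih _).2 ⟨m, hm, rfl⟩, by simp⟩
      · exact ⟨1, ofMask m', (ih _).2 ⟨m', hm', rfl⟩, by rw [ofMask_xor]; simp [add_comm]⟩

/-- xor of a list. -/
def xorList : List ℕ → ℕ
  | [] => 0
  | a :: l => a ^^^ xorList l

theorem ofMask_xorList_mem (C : Submodule (ZMod 2) (GolayPt → ZMod 2)) (S : List ℕ)
    (h : ∀ s ∈ S, ofMask s ∈ C) : ofMask (xorList S) ∈ C := by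
  induction S with
  | nil => simp [xorList, ofMask_zero]
  | cons a l ih =>
    simp only [xorList, ofMask_xor]
    exact C.add_mem (h a (by simp)) (ih fun s hs => h s (by simp [hs]))

def qrMaskTab : List ℕ := [340831, 681662, 1363324, 2726648, 5453296, 2517985, 5035970, 1683333, 3366666, 6733332, 5078057, 1767507, 3535014, 7070028, 5751449, 3114291, 6228582, 4068557, 8137114, 7885621, 7382635, 6376663, 4364719]

def basis : List ℕ := [14919680, 11654144, 8077824, 4038912, 2019456, 15515712, 11952160, 10170384, 7221256, 13938692, 4845570, 13062145]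

def basisCert : List (List ℕ) := [[340831, 1363324, 2517985, 6733332, 5078057, 16777215], [340831, 681662, 2517985, 5035970, 6733332, 5078057, 16777215], [340831, 1363324, 2517985, 5035970], [340831, 681662, 5035970, 3366666, 5078057], [5453296, 5035970, 1683333, 3366666, 6733332, 5078057], [340831, 1363324, 2726648, 5035970, 1683333, 3366666, 5078057, 16777215], [340831, 681662, 1363324, 5453296, 1683333, 3366666, 6733332, 5078057, 16777215], [681662, 2726648, 5453296, 2517985, 1683333, 6733332, 5078057, 16777215], [2726648, 5453296, 2517985, 5035970, 3366666, 5078057], [340831, 2726648, 5453296, 1683333, 5078057, 16777215], [2726648, 5453296, 3366666], [340831, 2726648, 2517985, 1683333, 6733332, 5078057, 16777215]]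

theorem qrWord_eq (t : ZMod 23) : qrWord t = ofMask (qrMaskTab.getD t.val 0) := by
  revert t; decide

theorem one_eq : (1 : GolayPt → ZMod 2) = ofMask 16777215 := by
  decide

/-- The list of all 4096 code masks. -/
def codeList : List ℕ := spanList basis


theorem gen_mem : ∀ g ∈ 16777215 :: qrMaskTab, ofMask g ∈ golayCode := by
  intro g hg
  rcases List.mem_cons.1 hg with rfl | hg
  · rw [← one_eq]
    exact Submodule.subset_span (Or.inr rfl)
  · have h : ∀ g ∈ qrMaskTab, ∃ t : ZMod 23, qrMaskTab.getD t.val 0 = g := by decide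
    obtain ⟨t, rfl⟩ := h g hg
    rw [← qrWord_eq]
    exact Submodule.subset_span (Or.inl ⟨t, rfl⟩)

theorem basis_mem : ∀ b ∈ basis, ofMask b ∈ golayCode := by
  have h1 : basis = basisCert.map xorList := by decide
  have h2 : ∀ S ∈ basisCert, ∀ s ∈ S, s ∈ 16777215 :: qrMaskTab := by decide
  intro b hb
  rw [h1] at hb
  obtain ⟨S, hS, rfl⟩ := List.mem_map.1 hb
  exact ofMask_xorList_mem _ S fun s hs => gen_mem s (h2 S hS s hs)

theorem mem_golayCode_iff (w : GolayPt → ZMod 2) :
    w ∈ golayCode ↔ ∃ m ∈ codeList, w = ofMask m := by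
  rw [codeList, ← mem_span_iff]
  have hle : golayCode ≤ Submodule.span (ZMod 2) {x | ∃ b ∈ basis, x = ofMask b} := by
    rw [golayCode, Submodule.span_le]
    have hq : ∀ t : ZMod 23, qrMaskTab.getD t.val 0 ∈ codeList := by decide +kernel
    have h1 : (16777215 : ℕ) ∈ codeList := by decide +kernel
    rintro x (⟨t, rfl⟩ | rfl)
    · exact (mem_span_iff basis _).2 ⟨_, hq t, qrWord_eq t⟩
    · exact (mem_span_iff basis _).2 ⟨_, h1, one_eq⟩
  have hge : Submodule.span (ZMod 2) {x | ∃ b ∈ basis, x = ofMask b} ≤ golayCode := by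
    rw [Submodule.span_le]
    rintro x ⟨b, hb, rfl⟩
    exact basis_mem b hb
  exact ⟨fun h => hle h, fun h => hge h⟩

/-- number of one bits among the lowest `k` bits. -/
def popc : ℕ → ℕ → ℕ
  | 0, _ => 0
  | k + 1, m => m % 2 + popc k (m / 2)

theorem popc_eq_sum (k m : ℕ) : popc k m = ∑ i ∈ Finset.range k, if m.testBit i then 1 else 0 := by
  induction k generalizing m with
  | zero => simp [popc]
  | succ k ih =>
    rw [popc, Finset.sum_range_succ', ih]
    simp only [Nat.testBit_succ, Nat.testBit_zero]
    rcases Nat.mod_two_eq_zero_or_one m with h | h <;> simp [h, add_comm]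

/-- The set of points with bit set. -/
def setOf (m : ℕ) : Finset GolayPt := Finset.univ.filter fun p => m.testBit (idx p)

theorem mem_setOf (m : ℕ) (p : GolayPt) : p ∈ setOf m ↔ m.testBit (idx p) = true := by
  simp [setOf]

theorem support₂_ofMask (m : ℕ) : support₂ (ofMask m) = setOf m := by
  ext p
  simp only [support₂, setOf, ofMask, Finset.mem_filter, Finset.mem_univ, true_and]
  by_cases h : m.testBit (idx p) = true
  · simp [h]
  · simp [h]

theorem card_setOf (m : ℕ) : (setOf m).card = popc 24 m := by
  rw [popc_eq_sum, setOf, Finset.card_filter, Fintype.sum_option, Finset.sum_range_succ, add_comm]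
  congr 1

theorem hammingNorm_ofMask (m : ℕ) : hammingNorm (ofMask m) = popc 24 m := by
  rw [← card_setOf, ← support₂_ofMask]
  rfl

/-- The point with a given bit index. -/
def ptOf (i : ℕ) : GolayPt := if i = 23 then none else some (i : ZMod 23)

theorem idx_ptOf {i : ℕ} (hi : i < 24) : idx (ptOf i) = i := by
  revert i; decide

theorem ptOf_idx (p : GolayPt) : ptOf (idx p) = p := by
  revert p; decide

theorem idx_lt (p : GolayPt) : idx p < 24 := by
  revert p; decide

theorem idx_injective : Function.Injective idx := by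
  intro p q h
  rw [← ptOf_idx p, ← ptOf_idx q, h]

theorem ofMask_apply_ptOf {m i : ℕ} (hi : i < 24) :
    ofMask m (ptOf i) = if m.testBit i then 1 else 0 := by
  simp [ofMask, idx_ptOf hi]

theorem ofMask_inj {a b : ℕ} (ha : a < 2 ^ 24) (hb : b < 2 ^ 24) (h : ofMask a = ofMask b) :
    a = b := by
  apply Nat.eq_of_testBit_eq
  intro i
  by_cases hi : i < 24
  · have h1 := congrFun h (ptOf i)
    rw [ofMask_apply_ptOf hi, ofMask_apply_ptOf hi] at h1
    by_cases h2 : a.testBit i = true <;> by_cases h3 : b.testBit i = true <;> simp_all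
  · have h24 : 2 ^ 24 ≤ 2 ^ i := Nat.pow_le_pow_right (by norm_num) (by omega)
    rw [Nat.testBit_lt_two_pow (lt_of_lt_of_le ha h24),
      Nat.testBit_lt_two_pow (lt_of_lt_of_le hb h24)]

theorem codeList_lt : ∀ m ∈ codeList, m < 2 ^ 24 := by
  have h : codeList.all (fun m => decide (m < 2 ^ 24)) = true := by decide +kernel
  intro m hm
  exact of_decide_eq_true (List.all_eq_true.1 h m hm)

/-- checks that the `j`-th entry is congruent to `i + j` modulo 4096. -/
def checkMod : List ℕ → ℕ → Bool
  | [], _ => true
  | a :: l, i => a % 4096 == i && checkMod l (i + 1)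

theorem checkMod_spec (l : List ℕ) (i : ℕ) (h : checkMod l i = true) :
    l.map (· % 4096) = List.range' i l.length := by
  induction l generalizing i with
  | nil => simp
  | cons a l ih =>
    simp only [checkMod, Bool.and_eq_true, beq_iff_eq] at h
    simp [List.range'_succ, h.1, ih (i + 1) h.2]

theorem codeList_length : codeList.length = 4096 := by decide +kernel

theorem codeList_mod : codeList.map (· % 4096) = List.range 4096 := by
  have h : checkMod codeList 0 = true := by decide +kernel
  rw [checkMod_spec _ _ h, codeList_length, List.range_eq_range']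

theorem codeList_nodup : codeList.Nodup :=
  List.Nodup.of_map _ (codeList_mod ▸ List.nodup_range)

/-- Every nonzero code word has weight 8, 12, 16 or 24. -/
theorem codeList_weights : ∀ m ∈ codeList,
    m = 0 ∨ popc 24 m = 8 ∨ popc 24 m = 12 ∨ popc 24 m = 16 ∨ m = 16777215 := by
  have h : codeList.all (fun m => decide (m = 0 ∨ popc 24 m = 8 ∨ popc 24 m = 12 ∨
      popc 24 m = 16 ∨ m = 16777215)) = true := by decide +kernel
  intro m hm
  exact of_decide_eq_true (List.all_eq_true.1 h m hm)

theorem codeList_count_8 : (codeList.filter fun m => popc 24 m = 8).length = 759 := by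
  decide +kernel

theorem codeList_count_12 : (codeList.filter fun m => popc 24 m = 12).length = 2576 := by
  decide +kernel

theorem codeList_count_16 : (codeList.filter fun m => popc 24 m = 16).length = 759 := by
  decide +kernel

end Cfsg.Agent.Lib.Helper36
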