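import Mathlib
import Cfsg.Prelude.Def_SporadicCombinatorics
import Cfsg.Agent.Lib.Helper36.F4

/-!
# The concrete hexacode over `F4`
-/

set_option autoImplicit false

namespace Cfsg.Agent.Lib.Helper36

open Cfsg F4

/-- Words of the concrete hexacode from three parameters. -/
def wordP (p : F4 × F4 × F4) : Fin 6 → F4 := p.1 • hb1 w + p.2.1 • hb2 w + p.2.2 • hb3 w

theorem wordP_mem (p : F4 × F4 × F4) : wordP p ∈ hexacode F4 w :=
  (mem_hexacode_iff w _).mpr ⟨_, _, _, rfl⟩

theorem mem_iff_wordP (x : Fin 6 → F4) : x ∈ hexacode F4 w ↔ ∃ p, wordP p = x := by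
  rw [mem_hexacode_iff]
  constructor
  · rintro ⟨a, b, c, rfl⟩
    exact ⟨(a, b, c), rfl⟩
  · rintro ⟨⟨a, b, c⟩, rfl⟩
    exact ⟨a, b, c, rfl⟩

/-- The weight of a word. -/
def wt (x : Fin 6 → F4) : ℕ := (Finset.univ.filter fun i => x i ≠ 0).card

theorem wordP_injective : Function.Injective wordP := by
  have h : ∀ p q : F4 × F4 × F4, wordP p = wordP q → p = q := by decide +kernel
  exact fun p q hpq => h p q hpq

theorem wordP_weights : ∀ p : F4 × F4 × F4, wordP p ≠ 0 → wt (wordP p) = 4 ∨ wt (wordP p) = 6 := by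
  decide +kernel

theorem count4 : (Finset.univ.filter fun p : F4 × F4 × F4 => wt (wordP p) = 4).card = 45 := by
  decide +kernel

theorem count6 : (Finset.univ.filter fun p : F4 × F4 × F4 => wt (wordP p) = 6).card = 18 := by
  decide +kernel

theorem card_hexacode_F4 : Nat.card ↥(hexacode F4 w) = 64 := by
  have e : (F4 × F4 × F4) ≃ ↥(hexacode F4 w) :=
    Equiv.ofBijective (fun p => ⟨wordP p, wordP_mem p⟩)
      ⟨fun p q h => wordP_injective (congrArg Subtype.val h),
       fun ⟨x, hx⟩ => by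
        obtain ⟨p, rfl⟩ := (mem_iff_wordP x).mp hx
        exact ⟨p, rfl⟩⟩
  rw [← Nat.card_congr e, Nat.card_eq_fintype_card]
  rfl

theorem ncard_weight (k n : ℕ)
    (h : (Finset.univ.filter fun p : F4 × F4 × F4 => wt (wordP p) = k).card = n) :
    {x : Fin 6 → F4 | x ∈ hexacode F4 w ∧ (Finset.univ.filter fun i => x i ≠ 0).card = k}.ncard = n := by
  have e : {x : Fin 6 → F4 | x ∈ hexacode F4 w ∧ (Finset.univ.filter fun i => x i ≠ 0).card = k} =
      ((Finset.univ.filter fun p : F4 × F4 × F4 => wt (wordP p) = k).image wordP : Finset _) := by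
    ext x
    simp only [Set.mem_ofPred_eq, Finset.coe_image, Finset.coe_filter, Finset.mem_univ, true_and,
      Set.mem_image]
    constructor
    · rintro ⟨hx, hk⟩
      obtain ⟨p, rfl⟩ := (mem_iff_wordP x).mp hx
      exact ⟨p, hk, rfl⟩
    · rintro ⟨p, hk, rfl⟩
      exact ⟨wordP_mem p, hk⟩
  rw [e, Set.ncard_coe_finset, Finset.card_image_of_injective _ wordP_injective, h]

end Cfsg.Agent.Lib.Helper36
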