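import Mathlib
import Cfsg.Prelude.Def_SporadicCombinatorics
import Cfsg.Agent.Lib.Helper36.Hexa

/-!
# Monomial automorphisms of the concrete hexacode over `F4`
-/

set_option autoImplicit false

namespace Cfsg.Agent.Lib.Helper36

open Cfsg F4

/-- Parameters of a word from its first three coordinates. -/
def decP (y : Fin 6 → F4) : F4 × F4 × F4 :=
  (w * y 0 + v * y 1, v * y 0 + v * y 1 + y 2, y 1 + y 2)

theorem decP_wordP : ∀ p : F4 × F4 × F4, decP (wordP p) = p := by decide +kernel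

/-- Boolean membership test for the concrete hexacode. -/
def memB (y : Fin 6 → F4) : Bool := decide (wordP (decP y) = y)

theorem memB_iff (y : Fin 6 → F4) : memB y = true ↔ y ∈ hexacode F4 w := by
  unfold memB
  rw [decide_eq_true_eq]
  constructor
  · intro h
    rw [← h]
    exact wordP_mem _
  · intro h
    obtain ⟨p, rfl⟩ := (mem_iff_wordP y).mp h
    rw [decP_wordP]

theorem hb1_mem : hb1 w ∈ hexacode F4 w := by
  rw [hexacode_eq]; exact Submodule.subset_span (Or.inl rfl)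
theorem hb2_mem : hb2 w ∈ hexacode F4 w := by
  rw [hexacode_eq]; exact Submodule.subset_span (Or.inr (Or.inl rfl))
theorem hb3_mem : hb3 w ∈ hexacode F4 w := by
  rw [hexacode_eq]; exact Submodule.subset_span (Or.inr (Or.inr rfl))

/-- The three units of `F4`. -/
def u3 : Fin 3 → F4ˣ := ![1, ⟨w, v, rfl, rfl⟩, ⟨v, w, rfl, rfl⟩]

theorem u3_surj (u : F4ˣ) : ∃ k, u3 k = u := by
  have h : ∀ x : F4, x ≠ 0 → x = 1 ∨ x = w ∨ x = v := by decide
  rcases h u.val u.ne_zero with h1 | h1 | h1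
  · exact ⟨0, Units.ext h1.symm⟩
  · exact ⟨1, Units.ext h1.symm⟩
  · exact ⟨2, Units.ext h1.symm⟩

theorem u3_injective : Function.Injective u3 := by
  have h : ∀ a b : Fin 3, (u3 a).val = (u3 b).val → a = b := by decide
  exact fun a b hab => h a b (congrArg Units.val hab)

/-- A diagonal part from indices. -/
def ck (k : Fin 6 → Fin 3) : Fin 6 → F4ˣ := fun i => u3 (k i)

theorem exists_ck (c : Fin 6 → F4ˣ) : ∃ k0 k1 k2 k3 k4 k5 : Fin 3, c = ck ![k0, k1, k2, k3, k4, k5] := by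
  choose k hk using fun i => u3_surj (c i)
  refine ⟨k 0, k 1, k 2, k 3, k 4, k 5, ?_⟩
  funext i
  fin_cases i <;> simp [ck, hk]

/-- Boolean test that a monomial map preserves the concrete hexacode. -/
def presB (σ : Equiv.Perm (Fin 6)) (c : Fin 6 → F4ˣ) : Bool :=
  memB (monomialMap σ c (hb1 w)) && memB (monomialMap σ c (hb2 w)) &&
    memB (monomialMap σ c (hb3 w))

theorem presB_iff (σ : Equiv.Perm (Fin 6)) (c : Fin 6 → F4ˣ) :
    presB σ c = true ↔ Mono.Pres (hexacode F4 w) σ c := by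
  unfold presB
  simp only [Bool.and_eq_true, memB_iff]
  constructor
  · rintro ⟨⟨h1, h2⟩, h3⟩
    rw [hexacode_eq]
    apply Mono.pres_span
    intro s hs
    rw [← hexacode_eq]
    simp only [Set.mem_insert_iff, Set.mem_singleton_iff] at hs
    rcases hs with rfl | rfl | rfl
    · exact h1
    · exact h2
    · exact h3
  · intro h
    exact ⟨⟨h _ hb1_mem, h _ hb2_mem⟩, h _ hb3_mem⟩

/-- A permutation of `Fin 6` from a table and its inverse table. -/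
def mkP (t t' : Fin 6 → Fin 6) (h1 : ∀ i, t' (t i) = i) (h2 : ∀ i, t (t' i) = i) :
    Equiv.Perm (Fin 6) := ⟨t, t', h1, h2⟩

theorem diag_check : ∀ k0 k1 k2 k3 k4 k5 : Fin 3,
    presB 1 (ck ![k0, k1, k2, k3, k4, k5]) = true →
      k0 = k1 ∧ k0 = k2 ∧ k0 = k3 ∧ k0 = k4 ∧ k0 = k5 := by decide +kernel

theorem diag_F4 (c : Fin 6 → F4ˣ) (h : Mono.Pres (hexacode F4 w) 1 c) : ∀ i j, c i = c j := by
  obtain ⟨k0, k1, k2, k3, k4, k5, rfl⟩ := exists_ck c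
  obtain ⟨h1, h2, h3, h4, h5⟩ := diag_check k0 k1 k2 k3 k4 k5 ((presB_iff _ _).mpr h)
  subst h1 h2 h3 h4 h5
  intro i j
  fin_cases i <;> fin_cases j <;> rfl

/-- An odd permutation. -/
def sOdd : Equiv.Perm (Fin 6) := mkP ![1, 0, 2, 3, 4, 5] ![1, 0, 2, 3, 4, 5] (by decide) (by decide)

theorem odd_check : ∀ k0 k1 k2 k3 k4 k5 : Fin 3,
    presB sOdd (ck ![k0, k1, k2, k3, k4, k5]) = false := by decide +kernel

theorem sOdd_not_mem : sOdd ∉ Mono.permPart (hexacode F4 w) := by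
  rintro ⟨c, hc⟩
  obtain ⟨k0, k1, k2, k3, k4, k5, rfl⟩ := exists_ck c
  have h1 := odd_check k0 k1 k2 k3 k4 k5
  rw [(presB_iff _ _).mpr hc] at h1
  exact Bool.noConfusion h1

/-- A transversal element. -/
def g0_0 : Equiv.Perm (Fin 6) := mkP ![0, 1, 2, 3, 4, 5] ![0, 1, 2, 3, 4, 5] (by decide) (by decide)
theorem g0_0_mem : g0_0 ∈ Mono.permPart (hexacode F4 F4.w) := ⟨ck ![0, 0, 0, 0, 0, 0], (presB_iff _ _).mp (by decide +kernel)⟩
/-- A transversal element. -/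
def g0_1 : Equiv.Perm (Fin 6) := mkP ![1, 0, 2, 3, 5, 4] ![1, 0, 2, 3, 5, 4] (by decide) (by decide)
theorem g0_1_mem : g0_1 ∈ Mono.permPart (hexacode F4 F4.w) := ⟨ck ![0, 0, 0, 0, 0, 0], (presB_iff _ _).mp (by decide +kernel)⟩
/-- A transversal element. -/
def g0_2 : Equiv.Perm (Fin 6) := mkP ![2, 0, 1, 3, 4, 5] ![1, 2, 0, 3, 4, 5] (by decide) (by decide)
theorem g0_2_mem : g0_2 ∈ Mono.permPart (hexacode F4 F4.w) := ⟨ck ![0, 0, 0, 0, 1, 2], (presB_iff _ _).mp (by decide +kernel)⟩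
/-- A transversal element. -/
def g0_3 : Equiv.Perm (Fin 6) := mkP ![3, 0, 1, 2, 5, 4] ![1, 2, 3, 0, 5, 4] (by decide) (by decide)
theorem g0_3_mem : g0_3 ∈ Mono.permPart (hexacode F4 F4.w) := ⟨ck ![0, 0, 0, 0, 2, 1], (presB_iff _ _).mp (by decide +kernel)⟩
/-- A transversal element. -/
def g0_4 : Equiv.Perm (Fin 6) := mkP ![4, 0, 1, 2, 3, 5] ![1, 2, 3, 4, 0, 5] (by decide) (by decide)
theorem g0_4_mem : g0_4 ∈ Mono.permPart (hexacode F4 F4.w) := ⟨ck ![0, 1, 2, 0, 2, 1], (presB_iff _ _).mp (by decide +kernel)⟩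
/-- A transversal element. -/
def g0_5 : Equiv.Perm (Fin 6) := mkP ![5, 0, 1, 2, 4, 3] ![1, 2, 3, 5, 4, 0] (by decide) (by decide)
theorem g0_5_mem : g0_5 ∈ Mono.permPart (hexacode F4 F4.w) := ⟨ck ![0, 2, 1, 0, 2, 1], (presB_iff _ _).mp (by decide +kernel)⟩
/-- Transversal at level 0. -/
def lev0 : List (Equiv.Perm (Fin 6)) := [g0_0, g0_1, g0_2, g0_3, g0_4, g0_5]
/-- A transversal element. -/
def g1_0 : Equiv.Perm (Fin 6) := mkP ![0, 1, 2, 3, 4, 5] ![0, 1, 2, 3, 4, 5] (by decide) (by decide)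
theorem g1_0_mem : g1_0 ∈ Mono.permPart (hexacode F4 F4.w) := ⟨ck ![0, 0, 0, 0, 0, 0], (presB_iff _ _).mp (by decide +kernel)⟩
/-- A transversal element. -/
def g1_1 : Equiv.Perm (Fin 6) := mkP ![0, 2, 1, 3, 5, 4] ![0, 2, 1, 3, 5, 4] (by decide) (by decide)
theorem g1_1_mem : g1_1 ∈ Mono.permPart (hexacode F4 F4.w) := ⟨ck ![0, 0, 0, 0, 1, 2], (presB_iff _ _).mp (by decide +kernel)⟩
/-- A transversal element. -/
def g1_2 : Equiv.Perm (Fin 6) := mkP ![0, 3, 1, 2, 4, 5] ![0, 2, 3, 1, 4, 5] (by decide) (by decide)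
theorem g1_2_mem : g1_2 ∈ Mono.permPart (hexacode F4 F4.w) := ⟨ck ![0, 0, 0, 0, 2, 1], (presB_iff _ _).mp (by decide +kernel)⟩
/-- A transversal element. -/
def g1_3 : Equiv.Perm (Fin 6) := mkP ![0, 4, 1, 2, 5, 3] ![0, 2, 3, 5, 1, 4] (by decide) (by decide)
theorem g1_3_mem : g1_3 ∈ Mono.permPart (hexacode F4 F4.w) := ⟨ck ![0, 1, 2, 0, 2, 1], (presB_iff _ _).mp (by decide +kernel)⟩
/-- A transversal element. -/
def g1_4 : Equiv.Perm (Fin 6) := mkP ![0, 5, 1, 2, 3, 4] ![0, 2, 3, 4, 5, 1] (by decide) (by decide)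
theorem g1_4_mem : g1_4 ∈ Mono.permPart (hexacode F4 F4.w) := ⟨ck ![0, 2, 1, 0, 2, 1], (presB_iff _ _).mp (by decide +kernel)⟩
/-- Transversal at level 1. -/
def lev1 : List (Equiv.Perm (Fin 6)) := [g1_0, g1_1, g1_2, g1_3, g1_4]
/-- A transversal element. -/
def g2_0 : Equiv.Perm (Fin 6) := mkP ![0, 1, 2, 3, 4, 5] ![0, 1, 2, 3, 4, 5] (by decide) (by decide)
theorem g2_0_mem : g2_0 ∈ Mono.permPart (hexacode F4 F4.w) := ⟨ck ![0, 0, 0, 0, 0, 0], (presB_iff _ _).mp (by decide +kernel)⟩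
/-- A transversal element. -/
def g2_1 : Equiv.Perm (Fin 6) := mkP ![0, 1, 3, 2, 5, 4] ![0, 1, 3, 2, 5, 4] (by decide) (by decide)
theorem g2_1_mem : g2_1 ∈ Mono.permPart (hexacode F4 F4.w) := ⟨ck ![0, 0, 0, 0, 0, 0], (presB_iff _ _).mp (by decide +kernel)⟩
/-- A transversal element. -/
def g2_2 : Equiv.Perm (Fin 6) := mkP ![0, 1, 4, 2, 3, 5] ![0, 1, 3, 4, 2, 5] (by decide) (by decide)
theorem g2_2_mem : g2_2 ∈ Mono.permPart (hexacode F4 F4.w) := ⟨ck ![0, 1, 2, 2, 2, 2], (presB_iff _ _).mp (by decide +kernel)⟩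
/-- A transversal element. -/
def g2_3 : Equiv.Perm (Fin 6) := mkP ![0, 1, 5, 2, 4, 3] ![0, 1, 3, 5, 4, 2] (by decide) (by decide)
theorem g2_3_mem : g2_3 ∈ Mono.permPart (hexacode F4 F4.w) := ⟨ck ![0, 2, 1, 1, 1, 1], (presB_iff _ _).mp (by decide +kernel)⟩
/-- Transversal at level 2. -/
def lev2 : List (Equiv.Perm (Fin 6)) := [g2_0, g2_1, g2_2, g2_3]
/-- A transversal element. -/
def g3_0 : Equiv.Perm (Fin 6) := mkP ![0, 1, 2, 3, 4, 5] ![0, 1, 2, 3, 4, 5] (by decide) (by decide)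
theorem g3_0_mem : g3_0 ∈ Mono.permPart (hexacode F4 F4.w) := ⟨ck ![0, 0, 0, 0, 0, 0], (presB_iff _ _).mp (by decide +kernel)⟩
/-- A transversal element. -/
def g3_1 : Equiv.Perm (Fin 6) := mkP ![0, 1, 2, 4, 5, 3] ![0, 1, 2, 5, 3, 4] (by decide) (by decide)
theorem g3_1_mem : g3_1 ∈ Mono.permPart (hexacode F4 F4.w) := ⟨ck ![0, 1, 2, 2, 2, 2], (presB_iff _ _).mp (by decide +kernel)⟩
/-- A transversal element. -/
def g3_2 : Equiv.Perm (Fin 6) := mkP ![0, 1, 2, 5, 3, 4] ![0, 1, 2, 4, 5, 3] (by decide) (by decide)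
theorem g3_2_mem : g3_2 ∈ Mono.permPart (hexacode F4 F4.w) := ⟨ck ![0, 2, 1, 1, 1, 1], (presB_iff _ _).mp (by decide +kernel)⟩
/-- Transversal at level 3. -/
def lev3 : List (Equiv.Perm (Fin 6)) := [g3_0, g3_1, g3_2]

/-- The stabiliser chain of the group of permutation parts. -/
def PP0 : Subgroup (Equiv.Perm (Fin 6)) := Mono.permPart (hexacode F4 w)
/-- Second term of the chain. -/
def PP1 : Subgroup (Equiv.Perm (Fin 6)) := PP0 ⊓ MulAction.stabilizer (Equiv.Perm (Fin 6)) (0 : Fin 6)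
/-- Third term of the chain. -/
def PP2 : Subgroup (Equiv.Perm (Fin 6)) := PP1 ⊓ MulAction.stabilizer (Equiv.Perm (Fin 6)) (1 : Fin 6)
/-- Fourth term of the chain. -/
def PP3 : Subgroup (Equiv.Perm (Fin 6)) := PP2 ⊓ MulAction.stabilizer (Equiv.Perm (Fin 6)) (2 : Fin 6)
/-- Fifth term of the chain. -/
def PP4 : Subgroup (Equiv.Perm (Fin 6)) := PP3 ⊓ MulAction.stabilizer (Equiv.Perm (Fin 6)) (3 : Fin 6)

theorem lev0_mem : ∀ g ∈ lev0, g ∈ PP0 := by
  intro g hg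
  simp only [lev0, List.mem_cons, List.not_mem_nil, or_false] at hg
  rcases hg with rfl | rfl | rfl | rfl | rfl | rfl
  exacts [g0_0_mem, g0_1_mem, g0_2_mem, g0_3_mem, g0_4_mem, g0_5_mem]

theorem lev1_mem : ∀ g ∈ lev1, g ∈ PP1 := by
  intro g hg
  simp only [lev1, List.mem_cons, List.not_mem_nil, or_false] at hg
  rcases hg with rfl | rfl | rfl | rfl | rfl
  exacts [⟨g1_0_mem, rfl⟩, ⟨g1_1_mem, rfl⟩, ⟨g1_2_mem, rfl⟩, ⟨g1_3_mem, rfl⟩, ⟨g1_4_mem, rfl⟩]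

theorem lev2_mem : ∀ g ∈ lev2, g ∈ PP2 := by
  intro g hg
  simp only [lev2, List.mem_cons, List.not_mem_nil, or_false] at hg
  rcases hg with rfl | rfl | rfl | rfl
  exacts [⟨⟨g2_0_mem, rfl⟩, rfl⟩, ⟨⟨g2_1_mem, rfl⟩, rfl⟩, ⟨⟨g2_2_mem, rfl⟩, rfl⟩, ⟨⟨g2_3_mem, rfl⟩, rfl⟩]

theorem lev3_mem : ∀ g ∈ lev3, g ∈ PP3 := by
  intro g hg
  simp only [lev3, List.mem_cons, List.not_mem_nil, or_false] at hg
  rcases hg with rfl | rfl | rfl
  exacts [⟨⟨⟨g3_0_mem, rfl⟩, rfl⟩, rfl⟩, ⟨⟨⟨g3_1_mem, rfl⟩, rfl⟩, rfl⟩, ⟨⟨⟨g3_2_mem, rfl⟩, rfl⟩, rfl⟩]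

theorem card_PP0_ge : 360 ≤ Nat.card PP0 := by
  have h4 : 1 ≤ Nat.card PP4 := Nat.one_le_iff_ne_zero.mpr Nat.card_pos.ne'
  have h3 := Mono.card_ge_of_list PP3 (3 : Fin 6) lev3 lev3_mem (by decide) h4
  have h2 := Mono.card_ge_of_list PP2 (2 : Fin 6) lev2 lev2_mem (by decide) h3
  have h1 := Mono.card_ge_of_list PP1 (1 : Fin 6) lev1 lev1_mem (by decide) h2
  have h0 := Mono.card_ge_of_list PP0 (0 : Fin 6) lev0 lev0_mem (by decide) h1
  exact h0

theorem permPart_F4 : Mono.permPart (hexacode F4 w) = alternatingGroup (Fin 6) := by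
  apply Equiv.Perm.eq_alternatingGroup_of_index_eq_two
  have h1 := (Mono.permPart (hexacode F4 w)).card_mul_index
  rw [Nat.card_perm, Nat.card_eq_fintype_card (α := Fin 6), Fintype.card_fin] at h1
  have h2 : 360 ≤ Nat.card (Mono.permPart (hexacode F4 w)) := card_PP0_ge
  have h3 : (Mono.permPart (hexacode F4 w)).index ≠ 1 := by
    intro h
    rw [Subgroup.index_eq_one] at h
    apply sOdd_not_mem
    rw [h]
    trivial
  have h4 : (Mono.permPart (hexacode F4 w)).index ≠ 0 := Subgroup.index_ne_zero_of_finite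
  have h5 : (Nat.factorial 6) = 720 := rfl
  rw [h5] at h1
  have h6 : (Mono.permPart (hexacode F4 w)).index ≤ 2 := by
    by_contra hc
    have hc : 3 ≤ (Mono.permPart (hexacode F4 w)).index := by omega
    have : 360 * 3 ≤ Nat.card (Mono.permPart (hexacode F4 w)) * (Mono.permPart (hexacode F4 w)).index :=
      Nat.mul_le_mul h2 hc
    omega
  omega

end Cfsg.Agent.Lib.Helper36
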