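import Cfsg.Agent.Lib.Helper36.L23b

/-!
# Maximality of `23:11` in the Mathieu group of degree 23 and of `PSL(2,23)` in the group of the
length-24 code
-/

set_option autoImplicit false

namespace Cfsg.Agent.Lib.Helper36.L23

open Cfsg Cfsg.Agent.Lib.Helper10 MulAction
open scoped Pointwise

/-- Sylow counting for a subgroup `Z` of prime order `p` of `Y` with `p ^ 2` not dividing `|Y|`. -/
theorem sylow_count {P : Type*} [Group P] [Finite P] (Y Z : Subgroup P) (hZY : Z ≤ Y) (p : ℕ)
    [Fact p.Prime] (hZ : Nat.card Z = p) (hp2 : ¬ p ^ 2 ∣ Nat.card Y) :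
    ∃ k, Nat.card Y = k * Nat.card ↥(Subgroup.normalizer (Z : Set P) ⊓ Y) ∧ k % p = 1 := by
  have hZ' : Nat.card (Z.subgroupOf Y) = p := by
    rw [Nat.card_congr (Subgroup.subgroupOfEquivOfLe hZY).toEquiv, hZ]
  have hpg : IsPGroup p (Z.subgroupOf Y) := IsPGroup.of_card (n := 1) (by rw [hZ', pow_one])
  have hidx : ¬ p ∣ (Z.subgroupOf Y).index := by
    intro hd
    apply hp2
    have := (Z.subgroupOf Y).card_mul_index
    rw [hZ'] at this
    rw [← this, pow_two]
    exact Nat.mul_dvd_mul_left p hd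
  let S : Sylow p Y := hpg.toSylow hidx
  have h1 : Nat.card (Sylow p Y) ≡ 1 [MOD p] := card_sylow_modEq_one p ↥Y
  have h2 : Nat.card (Sylow p Y) =
      (Subgroup.normalizer ((Z.subgroupOf Y : Subgroup ↥Y) : Set ↥Y)).index :=
    Sylow.card_eq_index_normalizer S
  rw [← Subgroup.subgroupOf_normalizer_eq hZY] at h2
  refine ⟨Nat.card (Sylow p Y), ?_, ?_⟩
  · rw [h2]
    have h4 := ((Subgroup.normalizer (Z : Set P)).subgroupOf Y).index_mul_card
    have h5 : Nat.card ((Subgroup.normalizer (Z : Set P)).subgroupOf Y) =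
        Nat.card ↥(Subgroup.normalizer (Z : Set P) ⊓ Y) := by
      rw [← Subgroup.inf_subgroupOf_right]
      exact Nat.card_congr (Subgroup.subgroupOfEquivOfLe inf_le_right).toEquiv
    rw [h5] at h4
    exact h4.symm
  · have h6 := h1
    unfold Nat.ModEq at h6
    rw [h6]
    exact Nat.mod_eq_of_lt (Fact.out : p.Prime).one_lt

theorem arith_m' : ∀ a : Fin 631, ∀ b : Fin 64, (64 * a.val + b.val) ∣ 40320 →
    (64 * a.val + b.val) % 23 = 1 →
    (64 * a.val + b.val) ∈ [1, 24, 70, 576, 1680, 40320] := by decide +kernel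

theorem arith_m (m : ℕ) (hm : m < 40321) (h1 : m ∣ 40320) (h2 : m % 23 = 1) :
    m ∈ [1, 24, 70, 576, 1680, 40320] := by
  have h := arith_m' ⟨m / 64, by omega⟩ ⟨m % 64, Nat.mod_lt _ (by norm_num)⟩
  simp only at h
  have e : 64 * (m / 64) + m % 64 = m := Nat.div_add_mod m 64
  rw [e] at h
  exact h h1 h2

theorem arith_aux' : ∀ m ∈ [24, 70, 576, 1680], ∀ a : Fin 604, ∀ b : Fin 64,
    (64 * a.val + b.val) % 2 = 1 →
    (64 * a.val + b.val) ∣ 23 * m → (23 * m / (64 * a.val + b.val)) % 11 ≠ 1 := by decide +kernel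

theorem arith_aux (m : ℕ) (hm : m ∈ [24, 70, 576, 1680]) (e : ℕ) (he : e < 38641)
    (h1 : e % 2 = 1) (h2 : e ∣ 23 * m) : (23 * m / e) % 11 ≠ 1 := by
  have h := arith_aux' m hm ⟨e / 64, by omega⟩ ⟨e % 64, Nat.mod_lt _ (by norm_num)⟩
  simp only at h
  have e' : 64 * (e / 64) + e % 64 = e := Nat.div_add_mod e 64
  rw [e'] at h
  exact h h1 h2

theorem arith (n k23 k11 c : ℕ) (hn2 : n ∣ 10200960) (h23 : n = k23 * 253)
    (hm23 : k23 % 23 = 1) (h11 : n = k11 * c) (hm11 : k11 % 11 = 1) (hc11 : 11 ∣ c)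
    (hodd : c % 2 = 1) : n = 253 ∨ n = 10200960 := by
  have hm : k23 ∣ 40320 := by
    rw [h23, show (10200960 : ℕ) = 40320 * 253 by norm_num] at hn2
    exact Nat.dvd_of_mul_dvd_mul_right (by norm_num) hn2
  have hle : k23 ≤ 40320 := Nat.le_of_dvd (by norm_num) hm
  have hl := arith_m k23 (by omega) hm hm23
  simp only [List.mem_cons, List.not_mem_nil, or_false] at hl
  obtain ⟨e, rfl⟩ := hc11
  have he : e % 2 = 1 := by
    rcases Nat.mod_two_eq_zero_or_one e with h | h
    · exfalso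
      have : (11 * e) % 2 = 0 := by omega
      omega
    · exact h
  have hprod : e * k11 = 23 * k23 := by
    have : k11 * (11 * e) = k23 * 253 := by rw [← h11, ← h23]
    nlinarith
  have hex : ∀ m ∈ [24, 70, 576, 1680], k23 = m → False := by
    intro m hmem hkm
    subst hkm
    have hk230 : 0 < k23 := by
      simp only [List.mem_cons, List.not_mem_nil, or_false] at hmem
      omega
    have hk110 : 0 < k11 := by
      rcases Nat.eq_zero_or_pos k11 with h | h
      · rw [h] at hm11; simp at hm11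
      · exact h
    have hed : e ∣ 23 * k23 := ⟨k11, hprod.symm⟩
    have hele : e ≤ 23 * k23 := Nat.le_of_dvd (by omega) hed
    have hele' : e < 38641 := by
      simp only [List.mem_cons, List.not_mem_nil, or_false] at hmem
      omega
    have hq : 23 * k23 / e = k11 := by
      rw [← hprod]
      have he0 : 0 < e := by omega
      exact Nat.mul_div_cancel_left k11 he0
    have := arith_aux k23 hmem e hele' he hed
    rw [hq] at this
    exact this hm11
  rcases hl with h | h | h | h | h | h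
  · left; rw [h23, h]
  · exact (hex 24 (by simp) h).elim
  · exact (hex 70 (by simp) h).elim
  · exact (hex 576 (by simp) h).elim
  · exact (hex 1680 (by simp) h).elim
  · right; rw [h23, h]

theorem gM_mem_normalizer_inf (Y : Subgroup (Equiv.Perm GolayPt)) (h1 : Fb ≤ Y) :
    Subgroup.zpowers gM ≤
      Subgroup.normalizer (Subgroup.zpowers gM : Set (Equiv.Perm GolayPt)) ⊓ Y :=
  le_inf Subgroup.le_normalizer (zpowers_gM_le_Fb.trans h1)

theorem odd_card_N11 (Y : Subgroup (Equiv.Perm GolayPt)) (h2 : Y ≤ Spor.M23) :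
    Nat.card ↥(Subgroup.normalizer (Subgroup.zpowers gM : Set (Equiv.Perm GolayPt)) ⊓ Y) % 2 = 1 := by
  set N := Subgroup.normalizer (Subgroup.zpowers gM : Set (Equiv.Perm GolayPt)) ⊓ Y with hN
  by_contra hodd
  have h2dvd : 2 ∣ Nat.card N := by omega
  have : Fact (Nat.Prime 2) := ⟨Nat.prime_two⟩
  obtain ⟨t, ht⟩ := exists_prime_orderOf_dvd_card' 2 h2dvd
  have ht1 : orderOf (t : Equiv.Perm GolayPt) = 2 := by rw [Subgroup.orderOf_coe]; exact ht
  have htn : (t : Equiv.Perm GolayPt) ∈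
      Subgroup.normalizer (Subgroup.zpowers gM : Set (Equiv.Perm GolayPt)) := t.2.1
  have htY : (t : Equiv.Perm GolayPt) ∈ Y := t.2.2
  set τ := (t : Equiv.Perm GolayPt) with hτ
  have hsq : τ * τ = 1 := by
    have := pow_orderOf_eq_one τ
    rw [ht1, pow_two] at this
    exact this
  have hinv : τ⁻¹ = τ := inv_eq_of_mul_eq_one_left hsq
  have hconj : τ * gM * τ⁻¹ ∈ Subgroup.zpowers gM :=
    (Subgroup.mem_normalizer_iff.mp htn gM).mp (Subgroup.mem_zpowers gM)
  obtain ⟨k, hk11, hk⟩ := exists_pow_lt_of_mem_zpowers (n := 11) (by norm_num) gM_pow_11 hconj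
  have hkk : gM ^ (k * k) = gM ^ 1 := by
    have e1 : τ * gM ^ k * τ⁻¹ = gM ^ (k * k) := by rw [← conj_pow, hk, ← pow_mul]
    rw [← e1, ← hk, hinv, pow_one]
    calc τ * (τ * gM * τ) * τ = (τ * τ) * gM * (τ * τ) := by group
      _ = gM := by rw [hsq, one_mul, mul_one]
  have hmod : k * k % 11 = 1 := by
    have := (pow_eq_pow_iff_modEq (x := gM) (n := k * k) (m := 1)).mp hkk
    rw [orderOf_gM] at this
    exact this
  have hcases : k = 1 ∨ k = 10 := by
    have : ∀ k : Fin 11, k.val * k.val % 11 = 1 → k.val = 1 ∨ k.val = 10 := by decide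
    exact this ⟨k, hk11⟩ hmod
  rcases hcases with rfl | rfl
  · -- centralises
    have hcomm : τ * gM = gM * τ := by
      rw [pow_one] at hk
      calc τ * gM = (τ * gM * τ⁻¹) * τ := by group
        _ = gM * τ := by rw [hk]
    have hz := cent_gM (h2 htY).1 hcomm
    obtain ⟨i, _, hi⟩ := exists_pow_lt_of_mem_zpowers (n := 11) (by norm_num) gM_pow_11 hz
    have h11 : τ ^ 11 = 1 := by rw [hi, ← pow_mul, mul_comm, pow_mul, gM_pow_11, one_pow]
    have hd : orderOf τ ∣ 11 := orderOf_dvd_of_pow_eq_one h11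
    rw [ht1] at hd
    revert hd
    decide
  · -- inverts
    rw [← gM_inv_eq] at hk
    exact no_invert (h2 htY) hk

theorem card_M23' : Nat.card Spor.M23 = 10200960 := card_M23

theorem between_F_M23 (Y : Subgroup (Equiv.Perm GolayPt)) (h1 : Fb ≤ Y) (h2 : Y ≤ Spor.M23) :
    Y = Fb ∨ Y = Spor.M23 := by
  have hn1 : 253 ∣ Nat.card Y := by
    have := Subgroup.card_dvd_of_le h1
    rwa [card_Fb] at this
  have hn2 : Nat.card Y ∣ 10200960 := by
    have := Subgroup.card_dvd_of_le h2
    rwa [card_M23] at this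
  have : Fact (Nat.Prime 23) := ⟨by norm_num⟩
  have : Fact (Nat.Prime 11) := ⟨by norm_num⟩
  have hp23 : ¬ 23 ^ 2 ∣ Nat.card Y := fun h => by
    have := dvd_trans h hn2
    revert this; decide
  have hp11 : ¬ 11 ^ 2 ∣ Nat.card Y := fun h => by
    have := dvd_trans h hn2
    revert this; decide
  obtain ⟨k23, hk23, hm23⟩ := sylow_count Y (Subgroup.zpowers gA)
    ((Subgroup.zpowers_le.mpr gA_mem_Fb).trans h1) 23
    (by rw [Nat.card_zpowers, orderOf_gA]) hp23
  rw [normalizer23_inf Y h1 h2, card_Fb] at hk23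
  obtain ⟨k11, hk11, hm11⟩ := sylow_count Y (Subgroup.zpowers gM)
    (zpowers_gM_le_Fb.trans h1) 11 (by rw [Nat.card_zpowers, orderOf_gM]) hp11
  have hc11 : 11 ∣ Nat.card
      ↥(Subgroup.normalizer (Subgroup.zpowers gM : Set (Equiv.Perm GolayPt)) ⊓ Y) := by
    have := Subgroup.card_dvd_of_le (gM_mem_normalizer_inf Y h1)
    rwa [Nat.card_zpowers, orderOf_gM] at this
  rcases arith _ k23 k11 _ hn2 hk23 hm23 hk11 hm11 hc11 (odd_card_N11 Y h2) with h | h
  · left
    exact (Subgroup.eq_of_le_of_card_ge h1 (by rw [h, card_Fb])).symm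
  · right
    exact Subgroup.eq_of_le_of_card_ge h2 (by rw [h, card_M23])

theorem M23_eq : Spor.M23 = M24 ⊓ stabilizer (Equiv.Perm GolayPt) (none : GolayPt) := rfl

theorem between_L_M24 (Y : Subgroup (Equiv.Perm GolayPt)) (h1 : LL ≤ Y) (h2 : Y ≤ M24) :
    Y = LL ∨ Y = M24 := by
  have hc := card_of_transitive Y h1
  have hF : Fb ≤ Y ⊓ stabilizer (Equiv.Perm GolayPt) (none : GolayPt) :=
    le_inf (Fb_le_LL.trans h1) Fb_le_stab
  have hM : Y ⊓ stabilizer (Equiv.Perm GolayPt) (none : GolayPt) ≤ Spor.M23 :=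
    inf_le_inf_right _ h2
  rcases between_F_M23 _ hF hM with h | h
  · left
    rw [h, card_Fb] at hc
    exact (Subgroup.eq_of_le_of_card_ge h1 (by rw [hc, card_LL])).symm
  · right
    rw [h, card_M23] at hc
    exact Subgroup.eq_of_le_of_card_ge h2 (by rw [hc, card_M24])

/-! ### Transfer to subgroups of subgroups -/

theorem isCoatom_subgroupOf {G : Type*} [Group G] (X B : Subgroup G) (hXB : X ≤ B) (hne : X ≠ B)
    (h : ∀ Y : Subgroup G, X ≤ Y → Y ≤ B → Y = X ∨ Y = B) : IsCoatom (X.subgroupOf B) := by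
  constructor
  · intro htop
    rw [Subgroup.subgroupOf_eq_top] at htop
    exact hne (le_antisymm hXB htop)
  · intro Y' hlt
    have hY' : (Y'.map B.subtype).subgroupOf B = Y' :=
      Subgroup.comap_map_eq_self_of_injective (Subgroup.subtype_injective B) Y'
    have hYB : Y'.map B.subtype ≤ B := Subgroup.map_subtype_le Y'
    have hXY : X ≤ Y'.map B.subtype := by
      have := Subgroup.map_mono (f := B.subtype) hlt.le
      rwa [Subgroup.map_subgroupOf_eq_of_le hXB] at this
    rcases h _ hXY hYB with h1 | h1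
    · exfalso
      apply hlt.ne
      rw [← hY', h1]
    · rw [← hY', h1]
      exact Subgroup.subgroupOf_self B

theorem between_subgroupOf {G : Type*} [Group G] (M X C : Subgroup G) (hXM : X ≤ M) (hCM : C ≤ M)
    (h : ∀ Y : Subgroup G, X ≤ Y → Y ≤ C → Y = X ∨ Y = C) (Y' : Subgroup ↥M)
    (h1 : X.subgroupOf M ≤ Y') (h2 : Y' ≤ C.subgroupOf M) :
    Y' = X.subgroupOf M ∨ Y' = C.subgroupOf M := by
  have hY' : (Y'.map M.subtype).subgroupOf M = Y' :=
    Subgroup.comap_map_eq_self_of_injective (Subgroup.subtype_injective M) Y'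
  have hXY : X ≤ Y'.map M.subtype := by
    have := Subgroup.map_mono (f := M.subtype) h1
    rwa [Subgroup.map_subgroupOf_eq_of_le hXM] at this
  have hYC : Y'.map M.subtype ≤ C := by
    have := Subgroup.map_mono (f := M.subtype) h2
    rwa [Subgroup.map_subgroupOf_eq_of_le hCM] at this
  rcases h _ hXY hYC with h3 | h3
  · left; rw [← hY', h3]
  · right; rw [← hY', h3]

theorem stab_eq : MulAction.stabilizer ↥M24 (none : GolayPt) = Spor.M23.subgroupOf M24 := by
  ext x
  constructor
  · intro h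
    exact ⟨x.2, h⟩
  · intro h
    exact h.2

theorem coatom_L : IsCoatom (LL.subgroupOf M24) := by
  apply isCoatom_subgroupOf LL M24 LL_le_M24 _ between_L_M24
  intro h
  have := card_LL
  rw [h, card_M24] at this
  revert this; decide

theorem coatom_F : IsCoatom ((Fb.subgroupOf M24).subgroupOf
    (MulAction.stabilizer ↥M24 (none : GolayPt))) := by
  have hM23 : Spor.M23 ≤ M24 := inf_le_left
  have hF24 : Fb ≤ M24 := Fb_le_M23.trans hM23
  rw [stab_eq]
  apply isCoatom_subgroupOf
  · exact Subgroup.comap_mono Fb_le_M23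
  · intro h
    have h1 := congrArg (Subgroup.map M24.subtype) h
    rw [Subgroup.map_subgroupOf_eq_of_le hF24, Subgroup.map_subgroupOf_eq_of_le hM23] at h1
    have := card_Fb
    rw [h1, card_M23] at this
    revert this; decide
  · exact between_subgroupOf M24 Fb Spor.M23 hF24 hM23 between_F_M23

end Cfsg.Agent.Lib.Helper36.L23
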