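import Cfsg.Agent.Lib.Helper92.M24Seven2
import Cfsg.Agent.Lib.Helper36.L23c
import Cfsg.Agent.Lib.Helper36.Monomial

set_option autoImplicit false

/-! Subgroups of order 40320 of a point stabiliser of the group of the length-24 code containing the
standard element of order 7 (helper92's `s0`): normaliser bookkeeping. -/

namespace Cfsg.Agent.Lib.Helper36.Idx253

open Cfsg Cfsg.Agent.Lib.Helper10 Cfsg.Agent.Lib.Helper92 Cfsg.Agent.Lib.Helper36.L23
open scoped Pointwise

/-- key of the involution centralising `s0` and fixing the point of index 8. -/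
def t2k : ℕ × ℕ × ℕ × ℕ := (1, 18, 15, 5)

/-- its table. -/
def t2T : List ℕ :=
  [16, 9, 21, 7, 4, 15, 6, 3, 8, 1, 10, 11, 14, 13, 12, 5, 0, 22, 23, 19, 20, 2, 17, 18]

/-- keys of the normalising elements fixing the point of index 8. -/
def N8 : List (ℕ × ℕ × ℕ × ℕ) := nKeys.filter (fun k => (nCandT k).getD 8 0 == 8)

theorem N8_length : N8.length = 42 := by decide +kernel

theorem t2k_mem : t2k ∈ nKeys := by decide +kernel

theorem t2k_mem8 : t2k ∈ N8 := by decide +kernel

theorem t2T_spec : nCandT t2k = t2T := by decide +kernel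

/-- the involution. -/
noncomputable def t2 : Equiv.Perm GolayPt := wordPerm (nCand t2k)

theorem t2_mem : t2 ∈ M24 := wordPerm_mem_M24 _

theorem t2_apply {x : ℕ} (hx : x < 24) : t2 (pt x) = pt (t2T.getD x 0) := by
  apply wordPerm_pt hx
  rw [← tabW_getD _ hx, tabW_nCand_of_mem t2k_mem, t2T_spec]

theorem s0_apply {x : ℕ} (hx : x < 24) : s0 (pt x) = pt (s0T.getD x 0) := by
  apply wordPerm_pt hx
  rw [← tabW_getD _ hx, s0T_spec]

theorem s0_ne_one' : s0 ≠ 1 := by
  intro h
  have h1 := s0_apply (x := 0) (by norm_num)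
  rw [h] at h1
  simp only [Equiv.Perm.coe_one, id_eq] at h1
  have := pt_injective (by norm_num) (by decide) h1
  revert this
  decide

theorem orderOf_s0' : orderOf s0 = 7 :=
  orderOf_eq_prime (p := 7) (hp := ⟨by norm_num⟩) s0_pow_seven s0_ne_one'

/-- the normalising elements fixing the point of index 8. -/
noncomputable def F8 : Finset (Equiv.Perm GolayPt) :=
  (N8.map (fun k => wordPerm (nCand k))).toFinset

theorem card_F8_le : F8.card ≤ 42 := by
  unfold F8
  refine (List.toFinset_card_le _).trans ?_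
  rw [List.length_map, N8_length]

theorem t2_mem_F8 : t2 ∈ F8 := by
  unfold F8
  rw [List.mem_toFinset, List.mem_map]
  exact ⟨t2k, t2k_mem8, rfl⟩

theorem mem_F8_of_norm (n : Equiv.Perm GolayPt) (hn : n ∈ M24)
    (hN : n ∈ Subgroup.normalizer (Subgroup.zpowers s0 : Set (Equiv.Perm GolayPt)))
    (h8 : n (pt 8) = pt 8) : n ∈ F8 := by
  have h1 : n * s0 * n⁻¹ ∈ Subgroup.zpowers s0 :=
    (Subgroup.mem_normalizer_iff.mp hN s0).mp (Subgroup.mem_zpowers s0)
  obtain ⟨i, hi, hpow⟩ := exists_pow_lt_of_mem_zpowers (by norm_num : 0 < 7) s0_pow_seven h1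
  have hi0 : i ≠ 0 := by
    rintro rfl
    rw [pow_zero] at hpow
    apply s0_ne_one'
    have : n * s0 * n⁻¹ = 1 := hpow
    have h2 : s0 = n⁻¹ * (n * s0 * n⁻¹) * n := by group
    rw [h2, this]; group
  have hrel : n * s0 = s0 ^ i * n := by
    rw [← hpow]; group
  obtain ⟨k, hk, -, hnk⟩ := norm_mem n hn i (Nat.pos_of_ne_zero hi0) hi hrel
  unfold F8
  rw [List.mem_toFinset, List.mem_map]
  refine ⟨k, ?_, hnk.symm⟩
  unfold N8
  rw [List.mem_filter]
  refine ⟨hk, ?_⟩
  rw [beq_iff_eq, ← tabW_nCand_of_mem hk, tabW_getD _ (by norm_num : 8 < 24),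
    ← idx_wordPerm_pt _ (by norm_num : 8 < 24), ← hnk, h8, idx_pt (by norm_num)]

/-- the normaliser of `⟨s0⟩` in a subgroup of the group of the code fixing the point of index 8
has at most 42 elements. -/
theorem card_norm_le (Y : Subgroup (Equiv.Perm GolayPt)) (hY : Y ≤ M24)
    (hfix : ∀ y ∈ Y, y (pt 8) = pt 8) :
    Nat.card ↥(Subgroup.normalizer (Subgroup.zpowers s0 : Set (Equiv.Perm GolayPt)) ⊓ Y) ≤ 42 ∧
    (Nat.card ↥(Subgroup.normalizer (Subgroup.zpowers s0 : Set (Equiv.Perm GolayPt)) ⊓ Y) = 42 →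
      t2 ∈ Y) := by
  set S : Set (Equiv.Perm GolayPt) :=
    ((Subgroup.normalizer (Subgroup.zpowers s0 : Set (Equiv.Perm GolayPt)) ⊓ Y :
      Subgroup (Equiv.Perm GolayPt)) : Set (Equiv.Perm GolayPt)) with hS
  have hsub : S ⊆ (F8 : Set (Equiv.Perm GolayPt)) := by
    intro n hn
    have hn' : n ∈ Subgroup.normalizer (Subgroup.zpowers s0 : Set (Equiv.Perm GolayPt)) ⊓ Y := hn
    rw [Subgroup.mem_inf] at hn'
    exact mem_F8_of_norm n (hY hn'.2) hn'.1 (hfix n hn'.2)
  have hcard : Nat.card ↥(Subgroup.normalizer (Subgroup.zpowers s0 : Set (Equiv.Perm GolayPt)) ⊓ Y)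
      = S.ncard := rfl
  have hle : S.ncard ≤ F8.card := by
    have := Set.ncard_le_ncard hsub F8.finite_toSet
    rwa [Set.ncard_coe_finset] at this
  refine ⟨by rw [hcard]; exact hle.trans card_F8_le, ?_⟩
  intro h42
  have heq : S = (F8 : Set (Equiv.Perm GolayPt)) := by
    apply Set.eq_of_subset_of_ncard_le hsub _ F8.finite_toSet
    rw [Set.ncard_coe_finset, ← hcard, h42]
    exact card_F8_le
  have : t2 ∈ S := by rw [heq]; exact t2_mem_F8
  have h' : t2 ∈ Subgroup.normalizer (Subgroup.zpowers s0 : Set (Equiv.Perm GolayPt)) ⊓ Y := this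
  exact (Subgroup.mem_inf.mp h').2

/-- Sylow counting: a subgroup of order 40320 containing `s0` and fixing the point of index 8
contains the involution `t2`. -/
theorem t2_mem_of_card (K : Subgroup (Equiv.Perm GolayPt)) (hK : K ≤ M24)
    (hfix : ∀ y ∈ K, y (pt 8) = pt 8) (hs0 : s0 ∈ K) (hcard : Nat.card K = 40320) : t2 ∈ K := by
  have : Fact (Nat.Prime 7) := ⟨by norm_num⟩
  have hZ : Subgroup.zpowers s0 ≤ K := Subgroup.zpowers_le.mpr hs0
  obtain ⟨k, hk, hk7⟩ := sylow_count K (Subgroup.zpowers s0) hZ 7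
    (by rw [Nat.card_zpowers, orderOf_s0']) (by rw [hcard]; decide)
  obtain ⟨hle, h42⟩ := card_norm_le K hK hfix
  apply h42
  have h7 : 7 ∣ Nat.card
      ↥(Subgroup.normalizer (Subgroup.zpowers s0 : Set (Equiv.Perm GolayPt)) ⊓ K) := by
    have h1 : Subgroup.zpowers s0 ≤
        Subgroup.normalizer (Subgroup.zpowers s0 : Set (Equiv.Perm GolayPt)) ⊓ K :=
      le_inf Subgroup.le_normalizer hZ
    have := Subgroup.card_dvd_of_le h1
    rwa [Nat.card_zpowers, orderOf_s0'] at this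
  rw [hcard] at hk
  obtain ⟨m, hm⟩ := h7
  rw [hm] at hk hle ⊢
  have hm6 : m ≤ 6 := by omega
  interval_cases m <;> omega

/-- Sylow counting: no subgroup of order 4480 containing `s0` and fixing the point of index 8. -/
theorem no_4480 (Y : Subgroup (Equiv.Perm GolayPt)) (hY : Y ≤ M24)
    (hfix : ∀ y ∈ Y, y (pt 8) = pt 8) (hs0 : s0 ∈ Y) (hcard : Nat.card Y = 4480) : False := by
  have : Fact (Nat.Prime 7) := ⟨by norm_num⟩
  have hZ : Subgroup.zpowers s0 ≤ Y := Subgroup.zpowers_le.mpr hs0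
  obtain ⟨k, hk, hk7⟩ := sylow_count Y (Subgroup.zpowers s0) hZ 7
    (by rw [Nat.card_zpowers, orderOf_s0']) (by rw [hcard]; decide)
  obtain ⟨hle, -⟩ := card_norm_le Y hY hfix
  have h7 : 7 ∣ Nat.card
      ↥(Subgroup.normalizer (Subgroup.zpowers s0 : Set (Equiv.Perm GolayPt)) ⊓ Y) := by
    have h1 : Subgroup.zpowers s0 ≤
        Subgroup.normalizer (Subgroup.zpowers s0 : Set (Equiv.Perm GolayPt)) ⊓ Y :=
      le_inf Subgroup.le_normalizer hZ
    have := Subgroup.card_dvd_of_le h1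
    rwa [Nat.card_zpowers, orderOf_s0'] at this
  rw [hcard] at hk
  obtain ⟨m, hm⟩ := h7
  rw [hm] at hk hle
  have hm6 : m ≤ 6 := by omega
  interval_cases m <;> omega

end Cfsg.Agent.Lib.Helper36.Idx253
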