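import Cfsg.Agent.Lib.Helper36.Idx253a

set_option autoImplicit false

/-! Orbit analysis for a subgroup of order 40320 of the stabiliser of the point of index 8 that
contains `s0`. -/

namespace Cfsg.Agent.Lib.Helper36.Idx253

open Cfsg Cfsg.Agent.Lib.Helper10 Cfsg.Agent.Lib.Helper92 Cfsg.Agent.Lib.Helper36.L23
open Cfsg.Agent.Lib.Helper36.Mono
open scoped Pointwise

/-- orbits of `⟨s0, t2⟩`: 0 for the fixed point 8, 1 for the pair 17, 22, 2 for the cycle in the
octad of 8, 3 for the other 14 points. -/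
def nclsT : List ℕ := [3,3,3,3,2,3,2,3,0,3,2,2,3,2,3,3,3,1,3,2,2,3,1,3]

/-- class of a point. -/
def cls (p : GolayPt) : ℕ := nclsT.getD (idx p) 0

theorem reach_tab : ∀ i j : Fin 24, nclsT.getD i 0 = nclsT.getD j 0 →
    ∃ e : Fin 7, ∃ f : Fin 2,
      (s0P.getD e []).getD (if f.val = 0 then i.val else t2T.getD i 0) 0 = j.val := by
  decide +kernel

theorem t2T_lt : ∀ i : Fin 24, t2T.getD i 0 < 24 := by decide

theorem cls_cases_tab : ∀ i : Fin 24, nclsT.getD i 0 = 0 ∨ nclsT.getD i 0 = 1 ∨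
    nclsT.getD i 0 = 2 ∨ nclsT.getD i 0 = 3 := by decide

theorem cls0_tab : ∀ i : Fin 24, nclsT.getD i 0 = 0 → i.val = 8 := by decide

theorem cls1_tab : ∀ i : Fin 24, nclsT.getD i 0 = 1 → i.val = 17 ∨ i.val = 22 := by decide

theorem clsO_tab : ∀ i : Fin 24, (1584464 : ℕ).testBit i = true ↔
    (nclsT.getD i 0 = 0 ∨ nclsT.getD i 0 = 2) := by decide

theorem cls_cases (p : GolayPt) : cls p = 0 ∨ cls p = 1 ∨ cls p = 2 ∨ cls p = 3 :=
  cls_cases_tab ⟨idx p, idx_lt p⟩

theorem eq_of_cls0 {p : GolayPt} (h : cls p = 0) : p = pt 8 :=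
  eq_pt_of_idx (cls0_tab ⟨idx p, idx_lt p⟩ h)

theorem eq_of_cls1 {p : GolayPt} (h : cls p = 1) : p = pt 17 ∨ p = pt 22 := by
  rcases cls1_tab ⟨idx p, idx_lt p⟩ h with h | h
  · exact Or.inl (eq_pt_of_idx h)
  · exact Or.inr (eq_pt_of_idx h)

theorem mem_O_iff (p : GolayPt) : p ∈ fs 1584464 ↔ (cls p = 0 ∨ cls p = 2) := by
  rw [mem_fs]
  exact clsO_tab ⟨idx p, idx_lt p⟩

theorem cls_17 : cls (pt 17) = 1 := by decide
theorem cls_22 : cls (pt 22) = 1 := by decide
theorem cls_4 : cls (pt 4) = 2 := by decide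
theorem cls_0 : cls (pt 0) = 3 := by decide
theorem cls_8 : cls (pt 8) = 0 := by decide

theorem O_mem : fs 1584464 ∈ octads := by
  obtain ⟨h1, h2, h3⟩ := trioMasks_facts.1 1584464 (by decide)
  exact fs_mem_octads h1 h2 h3

section
variable (K : Subgroup (Equiv.Perm GolayPt))

/-- same orbit. -/
def R (p q : GolayPt) : Prop := ∃ k ∈ K, k p = q

variable {K}

theorem R.symm {p q : GolayPt} (h : R K p q) : R K q p := by
  obtain ⟨k, hk, rfl⟩ := h
  exact ⟨k⁻¹, K.inv_mem hk, by simp⟩

theorem R.trans {p q r : GolayPt} (h : R K p q) (h' : R K q r) : R K p r := by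
  obtain ⟨k, hk, rfl⟩ := h
  obtain ⟨k', hk', rfl⟩ := h'
  exact ⟨k' * k, K.mul_mem hk' hk, rfl⟩

theorem R_of_cls (hs0 : s0 ∈ K) (ht2 : t2 ∈ K) {p q : GolayPt} (h : cls p = cls q) :
    R K p q := by
  obtain ⟨e, f, hef⟩ := reach_tab ⟨idx p, idx_lt p⟩ ⟨idx q, idx_lt q⟩ h
  simp only at hef
  by_cases hf : f.val = 0
  · rw [if_pos hf] at hef
    refine ⟨s0 ^ e.val, K.pow_mem hs0 _, ?_⟩
    conv_lhs => rw [← pt_idx p]
    rw [s0_pow_apply e.2 (idx_lt p), hef, pt_idx]
  · rw [if_neg hf] at hef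
    refine ⟨s0 ^ e.val * t2, K.mul_mem (K.pow_mem hs0 _) ht2, ?_⟩
    conv_lhs => rw [← pt_idx p]
    show (s0 ^ e.val) (t2 (pt (idx p))) = q
    rw [t2_apply (idx_lt p), s0_pow_apply e.2 (t2T_lt ⟨idx p, idx_lt p⟩), hef, pt_idx]

end

theorem ncard_ne8 : {p : GolayPt | p ≠ pt 8}.ncard = 23 := by
  have : {p : GolayPt | p ≠ pt 8} = ((Finset.univ.erase (pt 8) : Finset GolayPt) : Set GolayPt) := by
    ext p; simp
  rw [this, Set.ncard_coe_finset]
  decide

theorem ncard_nine : {p : GolayPt | cls p = 1 ∨ cls p = 2}.ncard = 9 := by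
  have : {p : GolayPt | cls p = 1 ∨ cls p = 2} =
      ((Finset.univ.filter (fun p => cls p = 1 ∨ cls p = 2) : Finset GolayPt) : Set GolayPt) := by
    ext p; simp
  rw [this, Set.ncard_coe_finset]
  decide

theorem pt17_ne_pt8 : pt 17 ≠ pt 8 := by decide

/-- The main dichotomy. -/
theorem core (K : Subgroup (Equiv.Perm GolayPt)) (hK : K ≤ M24)
    (hfix : ∀ k ∈ K, k (pt 8) = pt 8) (hcard : Nat.card K = 40320) (hs0 : s0 ∈ K) :
    (∃ s : Finset GolayPt, s.card = 2 ∧ pt 8 ∉ s ∧ ∀ k ∈ K, k • s = s) ∨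
      (∃ o ∈ octads, pt 8 ∈ o ∧ ∀ k ∈ K, k • o = o) := by
  have ht2 := t2_mem_of_card K hK hfix hs0 hcard
  have iso : ∀ p, R K p (pt 8) → p = pt 8 := by
    rintro p ⟨k, hk, h⟩
    rw [← hfix k hk] at h
    exact k.injective h
  have hcl : ∀ {p q : GolayPt}, cls p = cls q → R K p q := fun h => R_of_cls hs0 ht2 h
  have h17 : ¬ R K (pt 17) (pt 8) := fun h => pt17_ne_pt8 (iso _ h)
  by_cases hA : R K (pt 17) (pt 4)
  · by_cases hB : R K (pt 17) (pt 0)
    · -- transitive on 23 points
      exfalso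
      have h := card_eq_orbit_mulG K (pt 17) {p : GolayPt | p ≠ pt 8}
        (fun σ hσ h => h17 ⟨σ, hσ, h⟩)
        (fun c hc => by
          rcases cls_cases c with h0 | h1 | h2 | h3
          · exact absurd (eq_of_cls0 h0) hc
          · exact hcl (cls_17.trans h1.symm)
          · exact hA.trans (hcl (cls_4.trans h2.symm))
          · exact hB.trans (hcl (cls_0.trans h3.symm)))
      rw [hcard, ncard_ne8] at h
      omega
    · -- orbit of length 9
      exfalso
      have h := card_eq_orbit_mulG K (pt 17) {p : GolayPt | cls p = 1 ∨ cls p = 2}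
        (fun σ hσ => by
          have hR : R K (pt 17) (σ • pt 17) := ⟨σ, hσ, rfl⟩
          rcases cls_cases (σ • pt 17) with h0 | h1 | h2 | h3
          · exact absurd (by rw [eq_of_cls0 h0] at hR; exact hR) h17
          · exact Or.inl h1
          · exact Or.inr h2
          · exact absurd (hR.trans (hcl (h3.trans cls_0.symm))) hB)
        (fun c hc => by
          rcases hc with h1 | h2
          · exact hcl (cls_17.trans h1.symm)
          · exact hA.trans (hcl (cls_4.trans h2.symm)))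
      rw [hcard, ncard_nine] at h
      refine no_4480 (K ⊓ MulAction.stabilizer (Equiv.Perm GolayPt) (pt 17))
        (inf_le_left.trans hK) (fun y hy => hfix y (Subgroup.mem_inf.mp hy).1) ?_ (by omega)
      rw [Subgroup.mem_inf, MulAction.mem_stabilizer_iff]
      exact ⟨hs0, s0_apply (x := 17) (by norm_num)⟩
  · by_cases hB : R K (pt 17) (pt 0)
    · -- the octad
      right
      have hcl' : ∀ q, R K (pt 17) q → cls q = 1 ∨ cls q = 3 := by
        intro q hq
        rcases cls_cases q with h0 | h1 | h2 | h3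
        · exact absurd (by rw [eq_of_cls0 h0] at hq; exact hq) h17
        · exact Or.inl h1
        · exact absurd (hq.trans (hcl (h2.trans cls_4.symm))) hA
        · exact Or.inr h3
      refine ⟨fs 1584464, O_mem, (mem_O_iff _).mpr (Or.inl cls_8), ?_⟩
      intro k hk
      apply Finset.eq_of_subset_of_card_le _ (by rw [Finset.card_smul_finset])
      intro q hq
      obtain ⟨p, hp, rfl⟩ := Finset.mem_smul_finset.mp hq
      rw [mem_O_iff] at hp ⊢
      have hR : R K p (k • p) := ⟨k, hk, rfl⟩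
      rcases cls_cases (k • p) with h0 | h1 | h2 | h3
      · exact Or.inl h0
      · exfalso
        have := hcl' p ((hcl (cls_17.trans h1.symm)).trans hR.symm)
        omega
      · exact Or.inr h2
      · exfalso
        have := hcl' p ((hB.trans (hcl (cls_0.trans h3.symm))).trans hR.symm)
        omega
    · -- the duad
      left
      have hcl' : ∀ q, R K (pt 17) q → cls q = 1 := by
        intro q hq
        rcases cls_cases q with h0 | h1 | h2 | h3
        · exact absurd (by rw [eq_of_cls0 h0] at hq; exact hq) h17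
        · exact h1
        · exact absurd (hq.trans (hcl (h2.trans cls_4.symm))) hA
        · exact absurd (hq.trans (hcl (h3.trans cls_0.symm))) hB
      refine ⟨{pt 17, pt 22}, Finset.card_pair (by decide), by decide, ?_⟩
      intro k hk
      apply Finset.eq_of_subset_of_card_le _ (by rw [Finset.card_smul_finset])
      intro q hq
      obtain ⟨p, hp, rfl⟩ := Finset.mem_smul_finset.mp hq
      have hp1 : cls p = 1 := by
        rw [Finset.mem_insert, Finset.mem_singleton] at hp
        rcases hp with rfl | rfl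
        · exact cls_17
        · exact cls_22
      have hR : R K (pt 17) (k • p) := (hcl (cls_17.trans hp1.symm)).trans ⟨k, hk, rfl⟩
      rw [Finset.mem_insert, Finset.mem_singleton]
      exact eq_of_cls1 (hcl' _ hR)

end Cfsg.Agent.Lib.Helper36.Idx253
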