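import Cfsg.Agent.Lib.Helper36.Idx253b
import Cfsg.Agent.Lib.Helper92.PermModule
import Cfsg.Agent.Lib.Helper95.M24Seven
import Cfsg.Agent.Lib.Helper09.Steiner
import Cfsg.Agent.S5604
import Cfsg.Agent.S0376

set_option autoImplicit false

/-! Subgroups of order 40320 of a point stabiliser of the group of the length-24 code: they
stabilise a duad or an octad through the point. -/

namespace Cfsg.Agent.Lib.Helper36.Idx253

open Cfsg Cfsg.Agent.Lib.Helper10 Cfsg.Agent.Lib.Helper92 Cfsg.Agent.Lib.Helper36.L23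
open Cfsg.Agent.Lib.Helper36.Mono
open scoped Pointwise

/-- the conclusion. -/
def Good (K : Subgroup (Equiv.Perm GolayPt)) (x : GolayPt) : Prop :=
  (∃ s : Finset GolayPt, s.card = 2 ∧ x ∉ s ∧ ∀ k ∈ K, k • s = s) ∨
    (∃ o ∈ octads, x ∈ o ∧ ∀ k ∈ K, k • o = o)

/-- conjugate subgroup. -/
def cj (h : Equiv.Perm GolayPt) (K : Subgroup (Equiv.Perm GolayPt)) :
    Subgroup (Equiv.Perm GolayPt) := K.map (MulAut.conj h).toMonoidHom

theorem mem_cj {h : Equiv.Perm GolayPt} {K : Subgroup (Equiv.Perm GolayPt)}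
    {y : Equiv.Perm GolayPt} : y ∈ cj h K ↔ h⁻¹ * y * h ∈ K := by
  unfold cj
  rw [Subgroup.mem_map]
  constructor
  · rintro ⟨k, hk, rfl⟩
    have : h⁻¹ * ((MulAut.conj h).toMonoidHom k) * h = k := by
      show h⁻¹ * (h * k * h⁻¹) * h = k
      group
    rw [this]; exact hk
  · intro hy
    refine ⟨h⁻¹ * y * h, hy, ?_⟩
    show h * (h⁻¹ * y * h) * h⁻¹ = y
    group

theorem card_cj (h : Equiv.Perm GolayPt) (K : Subgroup (Equiv.Perm GolayPt)) :
    Nat.card (cj h K) = Nat.card K :=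
  Subgroup.card_map_of_injective (MulAut.conj h).injective

theorem cj_le {h : Equiv.Perm GolayPt} (hh : h ∈ M24) {K : Subgroup (Equiv.Perm GolayPt)}
    (hK : K ≤ M24) : cj h K ≤ M24 := by
  intro y hy
  rw [mem_cj] at hy
  have := M24.mul_mem (M24.mul_mem hh (hK hy)) (M24.inv_mem hh)
  have h2 : h * (h⁻¹ * y * h) * h⁻¹ = y := by group
  rwa [h2] at this

theorem cj_fix {h : Equiv.Perm GolayPt} {K : Subgroup (Equiv.Perm GolayPt)} {x : GolayPt}
    (hfix : ∀ k ∈ K, k x = x) : ∀ k ∈ cj h K, k (h x) = h x := by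
  intro y hy
  rw [mem_cj] at hy
  have := hfix _ hy
  have h2 : (h⁻¹ * y * h) x = h⁻¹ (y (h x)) := rfl
  rw [h2] at this
  have h3 := congrArg h this
  simpa using h3

theorem good_of_cj {h : Equiv.Perm GolayPt} (hh : h ∈ M24) {K : Subgroup (Equiv.Perm GolayPt)}
    {x : GolayPt} (hg : Good (cj h K) (h x)) : Good K x := by
  have hconj : ∀ k ∈ K, h * k * h⁻¹ ∈ cj h K := by
    intro k hk
    rw [mem_cj]
    have : h⁻¹ * (h * k * h⁻¹) * h = k := by group
    rwa [this]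
  have key : ∀ (s : Finset GolayPt), (∀ k ∈ cj h K, k • s = s) → ∀ k ∈ K, k • h⁻¹ • s = h⁻¹ • s := by
    intro s hs k hk
    have := hs _ (hconj k hk)
    calc k • h⁻¹ • s = h⁻¹ • ((h * k * h⁻¹) • s) := by
          rw [smul_smul, smul_smul]; congr 1; group
      _ = h⁻¹ • s := by rw [this]
  have hx : ∀ s : Finset GolayPt, x ∈ h⁻¹ • s ↔ h x ∈ s := by
    intro s
    rw [Finset.mem_inv_smul_finset_iff]
    rfl
  rcases hg with ⟨s, hs2, hxs, hst⟩ | ⟨o, ho, hxo, hst⟩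
  · left
    exact ⟨h⁻¹ • s, by rw [Finset.card_smul_finset]; exact hs2, fun hc => hxs ((hx s).mp hc),
      key s hst⟩
  · right
    exact ⟨h⁻¹ • o, smul_mem_octads (M24.inv_mem hh) ho, (hx o).mpr hxo, key o hst⟩

/-- Sylow conjugation to the standard element of order 7. -/
theorem exists_conj_s0 (K : Subgroup (Equiv.Perm GolayPt)) (hK : K ≤ M24)
    (h7 : 7 ∣ Nat.card K) : ∃ g ∈ M24, s0 ∈ cj g K := by
  have : Fact (Nat.Prime 7) := ⟨by norm_num⟩
  obtain ⟨y, hy⟩ := exists_prime_orderOf_dvd_card' (G := ↥K) 7 h7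
  have hη : orderOf (y : Equiv.Perm GolayPt) = 7 := by rw [Subgroup.orderOf_coe]; exact hy
  have hηM : (y : Equiv.Perm GolayPt) ∈ M24 := hK y.2
  set y' : ↥M24 := ⟨(y : Equiv.Perm GolayPt), hηM⟩ with hy'
  have hS : Nat.card (Subgroup.zpowers y') = 7 := by
    rw [Nat.card_zpowers, ← Subgroup.orderOf_coe y']
    exact hη
  obtain ⟨g, hg⟩ := Cfsg.Agent.S5604.exists_conj (Subgroup.zpowers y') hS
  have hmem : g * Cfsg.Agent.S5604.s0' * g⁻¹ ∈ Subgroup.zpowers y' := by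
    rw [hg]
    have : g⁻¹ * (g * Cfsg.Agent.S5604.s0' * g⁻¹) * g = Cfsg.Agent.S5604.s0' := by group
    rw [this]
    exact Subgroup.mem_zpowers _
  obtain ⟨n, hn⟩ := Subgroup.mem_zpowers_iff.mp hmem
  have hn' : (y : Equiv.Perm GolayPt) ^ n = (g : Equiv.Perm GolayPt) * s0 * (g : Equiv.Perm GolayPt)⁻¹ := by
    have := congrArg (fun z : ↥M24 => (z : Equiv.Perm GolayPt)) hn
    simpa [hy', Cfsg.Agent.S5604.s0'] using this
  refine ⟨(g : Equiv.Perm GolayPt)⁻¹, M24.inv_mem g.2, ?_⟩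
  rw [mem_cj, inv_inv, ← hn']
  exact K.zpow_mem y.2 n

theorem s0T_lt : ∀ i : Fin 24, s0T.getD i 0 < 24 := by decide

theorem s0_fixed_tab : ∀ i : Fin 24, s0T.getD i 0 = i.val → i.val = 8 ∨ i.val = 17 ∨ i.val = 22 := by
  decide

theorem s0_fixed (p : GolayPt) (h : s0 p = p) : p = pt 8 ∨ p = pt 17 ∨ p = pt 22 := by
  have h1 := s0_apply (idx_lt p)
  rw [pt_idx, h] at h1
  have h2 : s0T.getD (idx p) 0 = idx p := by
    have := congrArg idx h1
    rw [idx_pt (s0T_lt ⟨idx p, idx_lt p⟩)] at this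
    exact this.symm
  rcases s0_fixed_tab ⟨idx p, idx_lt p⟩ h2 with h3 | h3 | h3
  · exact Or.inl (eq_pt_of_idx h3)
  · exact Or.inr (Or.inl (eq_pt_of_idx h3))
  · exact Or.inr (Or.inr (eq_pt_of_idx h3))

/-- centralising elements moving the other fixed points to the point of index 8. -/
def c17k : ℕ × ℕ × ℕ × ℕ := (1, 4, 15, 14)
def c22k : ℕ × ℕ × ℕ × ℕ := (1, 23, 18, 14)

theorem ck_facts : c17k ∈ nKeys ∧ c22k ∈ nKeys ∧ (nCandT c17k).getD 17 0 = 8 ∧
    (nCandT c22k).getD 22 0 = 8 := by decide +kernel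

theorem cent_apply {k : ℕ × ℕ × ℕ × ℕ} (hk : k ∈ nKeys) {i j : ℕ} (hi : i < 24)
    (h : (nCandT k).getD i 0 = j) : wordPerm (nCand k) (pt i) = pt j := by
  apply wordPerm_pt hi
  rw [← tabW_getD _ hi, tabW_nCand_of_mem hk, h]

theorem cent_cj {k : ℕ × ℕ × ℕ × ℕ} (hk : k ∈ nKeys) (hk1 : k.1 = 1)
    {K : Subgroup (Equiv.Perm GolayPt)} (hs0 : s0 ∈ K) : s0 ∈ cj (wordPerm (nCand k)) K := by
  rw [mem_cj]
  have h := nKeys_rel hk
  rw [hk1, pow_one] at h
  have : (wordPerm (nCand k))⁻¹ * s0 * wordPerm (nCand k) = s0 := by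
    rw [mul_assoc, ← h, ← mul_assoc, inv_mul_cancel, one_mul]
  rwa [this]

/-- a subgroup of order 40320 of a point stabiliser stabilises a duad or an octad. -/
theorem main (K : Subgroup (Equiv.Perm GolayPt)) (x : GolayPt) (hK : K ≤ M24)
    (hfix : ∀ k ∈ K, k x = x) (hcard : Nat.card K = 40320) : Good K x := by
  obtain ⟨g, hg, hs0⟩ := exists_conj_s0 K hK (by rw [hcard]; decide)
  apply good_of_cj hg
  have hK1 : cj g K ≤ M24 := cj_le hg hK
  have hfix1 : ∀ k ∈ cj g K, k (g x) = g x := cj_fix hfix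
  have hcard1 : Nat.card (cj g K) = 40320 := by rw [card_cj, hcard]
  have hfx : s0 (g x) = g x := hfix1 s0 hs0
  obtain ⟨hc17, hc22, e17, e22⟩ := ck_facts
  rcases s0_fixed _ hfx with h | h | h
  · rw [h] at hfix1 ⊢
    exact core _ hK1 hfix1 hcard1 hs0
  · apply good_of_cj (wordPerm_mem_M24 (nCand c17k))
    have hfix2 := cj_fix (h := wordPerm (nCand c17k)) hfix1
    rw [h, cent_apply hc17 (by norm_num) e17] at hfix2 ⊢
    exact core _ (cj_le (wordPerm_mem_M24 _) hK1) hfix2 (by rw [card_cj, hcard1])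
      (cent_cj hc17 rfl hs0)
  · apply good_of_cj (wordPerm_mem_M24 (nCand c22k))
    have hfix2 := cj_fix (h := wordPerm (nCand c22k)) hfix1
    rw [h, cent_apply hc22 (by norm_num) e22] at hfix2 ⊢
    exact core _ (cj_le (wordPerm_mem_M24 _) hK1) hfix2 (by rw [card_cj, hcard1])
      (cent_cj hc22 rfl hs0)

end Cfsg.Agent.Lib.Helper36.Idx253
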