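import Cfsg.Agent.Lib.Helper10.OutM23
import Cfsg.Agent.Lib.Helper10.OutM22

/-!
# The subgroups `23:11` and `PSL(2,23)` of the group of the length-24 code: orders
-/

set_option autoImplicit false

namespace Cfsg.Agent.Lib.Helper36.L23

open Cfsg Cfsg.Agent.Lib.Helper10 MulAction
open scoped Pointwise

/-- The Frobenius group `23:11`. -/
def Fb : Subgroup (Equiv.Perm GolayPt) := Subgroup.closure {gA, gM}
/-- The group `PSL(2,23)`. -/
def LL : Subgroup (Equiv.Perm GolayPt) := Subgroup.closure {gA, projInv, gM}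

theorem gA_mem_M24 : gA ∈ M24 := H_le_M24 (gen_mem_H 0)

/-- In a finite group, the closure of `s` lies in any set containing `1` and closed under right
multiplication by the elements of `s`. -/
theorem closure_subset_of_right {G : Type*} [Group G] [Finite G] (s T : Set G) (h1 : 1 ∈ T)
    (hmul : ∀ x ∈ T, ∀ y ∈ s, x * y ∈ T) : (Subgroup.closure s : Set G) ⊆ T := by
  intro x hx
  have hx' : x ∈ (Subgroup.closure s).toSubmonoid := hx
  rw [Subgroup.closure_toSubmonoid_of_finite] at hx'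
  clear hx
  exact Submonoid.closure_induction_right (motive := fun x _ => x ∈ T) h1
    (fun x _ y hy ih => hmul x ih y hy) hx'

theorem gM_pow_some (n : ℕ) (x : ZMod 23) : (gM ^ n) (some x) = some (2 ^ n * x) := by
  induction n with
  | zero => simp
  | succ n ih =>
    rw [pow_succ']
    show gM ((gM ^ n) (some x)) = _
    rw [ih, gM_apply]
    show some (2 * (2 ^ n * x)) = some (2 ^ (n + 1) * x)
    rw [pow_succ]
    congr 1
    ring

theorem gM_pow_none (n : ℕ) : (gM ^ n) none = none := by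
  induction n with
  | zero => simp
  | succ n ih =>
    rw [pow_succ']
    show gM ((gM ^ n) none) = _
    rw [ih]; rfl

theorem sq_pow : ∀ r : ZMod 23, r ≠ 0 → ∃ k : Fin 11, r * r = 2 ^ k.val := by decide +kernel

theorem sq_mem_zpowers (u : (ZMod 23)ˣ) (hu : IsSquare u) :
    Equiv.optionCongr (Units.mulLeft u) ∈ Subgroup.zpowers gM := by
  obtain ⟨r, rfl⟩ := hu
  have : Fact (1 < 23) := ⟨by norm_num⟩
  obtain ⟨k, hk⟩ := sq_pow (r : ZMod 23) r.ne_zero
  have : Equiv.optionCongr (Units.mulLeft (r * r)) = gM ^ k.val := by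
    ext1 p
    cases p with
    | none => rw [gM_pow_none]; rfl
    | some x =>
      rw [gM_pow_some, ← hk]
      rfl
  rw [this]
  exact Subgroup.pow_mem _ (Subgroup.mem_zpowers gM) _

theorem gM_mem_sq : gM ∈ {g : Equiv.Perm GolayPt | ∃ u : (ZMod 23)ˣ, IsSquare u ∧
    g = Equiv.optionCongr (Units.mulLeft u)} := ⟨v5 * v5, ⟨v5, rfl⟩, rfl⟩

theorem gM_mem_Fb : gM ∈ Fb := Subgroup.subset_closure (by simp)
theorem gA_mem_Fb : gA ∈ Fb := Subgroup.subset_closure (by simp)
theorem zpowers_gM_le_Fb : Subgroup.zpowers gM ≤ Fb := by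
  rw [Subgroup.zpowers_le]; exact gM_mem_Fb

theorem Fb_le_LL : Fb ≤ LL := by
  unfold Fb LL
  apply Subgroup.closure_mono
  intro x hx
  simp only [Set.mem_insert_iff, Set.mem_singleton_iff] at hx ⊢
  rcases hx with rfl | rfl
  · exact Or.inl rfl
  · exact Or.inr (Or.inr rfl)

theorem closure_F_eq : Subgroup.closure ({Equiv.optionCongr (Equiv.addRight (1 : ZMod 23))} ∪
    {g : Equiv.Perm GolayPt | ∃ u : (ZMod 23)ˣ, IsSquare u ∧
      g = Equiv.optionCongr (Units.mulLeft u)}) = Fb := by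
  apply le_antisymm
  · rw [Subgroup.closure_le]
    rintro x (hx | ⟨u, hu, rfl⟩)
    · rw [Set.mem_singleton_iff] at hx
      rw [hx]
      exact gA_mem_Fb
    · exact zpowers_gM_le_Fb (sq_mem_zpowers u hu)
  · unfold Fb
    rw [Subgroup.closure_le]
    intro x hx
    simp only [Set.mem_insert_iff, Set.mem_singleton_iff] at hx
    rcases hx with rfl | rfl
    · exact Subgroup.subset_closure (Or.inl rfl)
    · exact Subgroup.subset_closure (Or.inr gM_mem_sq)

theorem closure_L_eq : Subgroup.closure ({Equiv.optionCongr (Equiv.addRight (1 : ZMod 23)),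
    Cfsg.projInv} ∪ {g : Equiv.Perm GolayPt | ∃ u : (ZMod 23)ˣ, IsSquare u ∧
      g = Equiv.optionCongr (Units.mulLeft u)}) = LL := by
  apply le_antisymm
  · rw [Subgroup.closure_le]
    rintro x (hx | ⟨u, hu, rfl⟩)
    · simp only [Set.mem_insert_iff, Set.mem_singleton_iff] at hx
      rcases hx with rfl | rfl
      · exact Subgroup.subset_closure (Or.inl rfl)
      · exact Subgroup.subset_closure (Or.inr (Or.inl rfl))
    · exact Fb_le_LL (zpowers_gM_le_Fb (sq_mem_zpowers u hu))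
  · unfold LL
    rw [Subgroup.closure_le]
    intro x hx
    simp only [Set.mem_insert_iff, Set.mem_singleton_iff] at hx
    rcases hx with rfl | rfl | rfl
    · exact Subgroup.subset_closure (Or.inl (Or.inl rfl))
    · exact Subgroup.subset_closure (Or.inl (Or.inr rfl))
    · exact Subgroup.subset_closure (Or.inr gM_mem_sq)

theorem Fb_le_M23 : Fb ≤ Spor.M23 := by
  unfold Fb
  rw [Subgroup.closure_le]
  intro x hx
  simp only [Set.mem_insert_iff, Set.mem_singleton_iff] at hx
  rcases hx with rfl | rfl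
  · exact ⟨gA_mem_M24, rfl⟩
  · exact gM_mem_M23

theorem LL_le_M24 : LL ≤ M24 := by
  unfold LL
  rw [Subgroup.closure_le]
  intro x hx
  simp only [Set.mem_insert_iff, Set.mem_singleton_iff] at hx
  rcases hx with rfl | rfl | rfl
  · exact gA_mem_M24
  · exact projInv_mem_M24
  · exact gM_mem

/-! ### The order of `23:11` -/

theorem comm_MA (j : ℕ) : gM ^ j * gA = gA ^ (2 ^ j) * gM ^ j := by
  have h1 : gM ^ j * gA * (gM ^ j)⁻¹ = gA ^ (2 ^ j) := by
    induction j with
    | zero => simp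
    | succ j ih =>
      have : gM ^ (j + 1) * gA * (gM ^ (j + 1))⁻¹ = gM * (gM ^ j * gA * (gM ^ j)⁻¹) * gM⁻¹ := by
        rw [pow_succ']; group
      rw [this, ih, ← conj_pow, rel_ma, ← pow_mul, pow_succ, mul_comm]
  rw [← h1]
  group

theorem comm_MA_pow (j i : ℕ) : gM ^ j * gA ^ i = gA ^ (2 ^ j * i) * gM ^ j := by
  have h1 : gM ^ j * gA * (gM ^ j)⁻¹ = gA ^ (2 ^ j) := by
    rw [comm_MA]; group
  have h2 : gM ^ j * gA ^ i * (gM ^ j)⁻¹ = gA ^ (2 ^ j * i) := by
    rw [← conj_pow, h1, ← pow_mul]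
  rw [← h2]
  group

/-- The set of products `gA ^ i * gM ^ j`. -/
def TF : Set (Equiv.Perm GolayPt) := {σ | ∃ i j : ℕ, σ = gA ^ i * gM ^ j}

theorem Fb_subset_TF : (Fb : Set (Equiv.Perm GolayPt)) ⊆ TF := by
  apply closure_subset_of_right
  · exact ⟨0, 0, by simp⟩
  · rintro x ⟨i, j, rfl⟩ y hy
    simp only [Set.mem_insert_iff, Set.mem_singleton_iff] at hy
    rcases hy with rfl | rfl
    · refine ⟨i + 2 ^ j, j, ?_⟩
      rw [mul_assoc, comm_MA, ← mul_assoc, ← pow_add]
    · exact ⟨i, j + 1, by rw [mul_assoc, ← pow_succ]⟩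

theorem TF_subset_Fb : TF ⊆ (Fb : Set (Equiv.Perm GolayPt)) := by
  rintro _ ⟨i, j, rfl⟩
  exact Fb.mul_mem (Fb.pow_mem gA_mem_Fb i) (Fb.pow_mem gM_mem_Fb j)

theorem mem_Fb_iff (σ : Equiv.Perm GolayPt) : σ ∈ Fb ↔ ∃ i j : ℕ, σ = gA ^ i * gM ^ j :=
  ⟨fun h => Fb_subset_TF h, fun h => TF_subset_Fb h⟩

theorem card_Fb : Nat.card Fb = 253 := by
  apply le_antisymm
  · let f : Fin 23 × Fin 11 → Equiv.Perm GolayPt := fun p => gA ^ p.1.val * gM ^ p.2.val
    have hsub : (Fb : Set (Equiv.Perm GolayPt)) ⊆ Set.range f := by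
      intro σ hσ
      obtain ⟨i, j, rfl⟩ := Fb_subset_TF hσ
      refine ⟨(⟨i % 23, Nat.mod_lt _ (by norm_num)⟩, ⟨j % 11, Nat.mod_lt _ (by norm_num)⟩), ?_⟩
      show gA ^ (i % 23) * gM ^ (j % 11) = gA ^ i * gM ^ j
      rw [← orderOf_gA, ← orderOf_gM, pow_mod_orderOf, pow_mod_orderOf]
    have h1 : Nat.card Fb = (Fb : Set (Equiv.Perm GolayPt)).ncard := rfl
    rw [h1]
    calc (Fb : Set (Equiv.Perm GolayPt)).ncard ≤ (Set.range f).ncard :=
          Set.ncard_le_ncard hsub (Set.toFinite _)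
      _ ≤ Nat.card (Fin 23 × Fin 11) := by
          rw [← Set.image_univ]
          exact (Set.ncard_image_le (Set.toFinite _)).trans (by rw [Set.ncard_univ])
      _ = 253 := by simp
  · have h23 : 23 ∣ Nat.card Fb := by
      have := Subgroup.card_dvd_of_le (show Subgroup.zpowers gA ≤ Fb by
        rw [Subgroup.zpowers_le]; exact gA_mem_Fb)
      rwa [Nat.card_zpowers, orderOf_gA] at this
    have h11 : 11 ∣ Nat.card Fb := by
      have := Subgroup.card_dvd_of_le zpowers_gM_le_Fb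
      rwa [Nat.card_zpowers, orderOf_gM] at this
    have h253 : 23 * 11 ∣ Nat.card Fb := Nat.Coprime.mul_dvd_of_dvd_of_dvd (by norm_num) h23 h11
    exact Nat.le_of_dvd Nat.card_pos h253

/-! ### The order of `PSL(2,23)` -/

theorem projInv_sq : projInv * projInv = 1 :=
  (isTab_projInv.mul isTab_projInv).eq_of IsTab.one (by decide +kernel)

theorem rel_wM : projInv * gM = gM⁻¹ * projInv := by
  have h : gM * projInv * gM = projInv :=
    ((isTab_gM.mul isTab_projInv).mul isTab_gM).eq_of isTab_projInv (by decide +kernel)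
  calc projInv * gM = gM⁻¹ * (gM * projInv * gM) := by group
    _ = gM⁻¹ * projInv := by rw [h]

/-- Exponents in the Bruhat relation. -/
def aL : List ℕ := [0, 22, 11, 15, 17, 9, 19, 13, 20, 5, 16, 2, 21, 7, 18, 3, 10, 4, 14, 6, 8, 12, 1]
/-- Exponents in the Bruhat relation. -/
def kL : List ℕ := [0, 0, 9, 6, 7, 10, 4, 3, 5, 1, 8, 2, 2, 8, 1, 5, 3, 4, 10, 7, 6, 9, 0]

theorem bruhat_tab : ∀ j : Fin 23, j.val ≠ 0 → ∀ i : Fin 24,
    tbl 1 ((tbl 0)^[j.val] (tbl 1 i)) =
      (tbl 0)^[aL.getD j 0] (tblM^[kL.getD j 0] (tbl 1 ((tbl 0)^[aL.getD j 0] i))) := by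
  decide +kernel

theorem bruhat (j : ℕ) (hj : j < 23) (hj0 : j ≠ 0) : projInv * gA ^ j * projInv =
    gA ^ (aL.getD j 0) * gM ^ (kL.getD j 0) * projInv * gA ^ (aL.getD j 0) :=
  ((isTab_projInv.mul (isTab_gA.pow j)).mul isTab_projInv).eq_of
    ((((isTab_gA.pow _).mul (isTab_gM.pow _)).mul isTab_projInv).mul (isTab_gA.pow _))
    (fun i hi => bruhat_tab ⟨j, hj⟩ hj0 ⟨i, hi⟩)

theorem gA_pow_mod (j : ℕ) : gA ^ (j % 23) = gA ^ j := by
  rw [← orderOf_gA, pow_mod_orderOf]

theorem comm_AM (j : ℕ) : gA ^ j * gM = gM * gA ^ (12 * j) := by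
  have h := comm_MA_pow 1 (12 * j)
  rw [pow_one] at h
  rw [h]
  have : 2 ^ 1 * (12 * j) = j + 23 * j := by ring
  rw [this, pow_add, pow_mul, gA_pow_23, one_pow, mul_one]

/-- The Bruhat decomposition set. -/
def TL : Set (Equiv.Perm GolayPt) :=
  {σ | σ ∈ Fb ∨ ∃ f ∈ Fb, ∃ j : ℕ, σ = f * projInv * gA ^ j}

theorem LL_subset_TL : (LL : Set (Equiv.Perm GolayPt)) ⊆ TL := by
  apply closure_subset_of_right
  · exact Or.inl Fb.one_mem
  · rintro x hx y hy
    simp only [Set.mem_insert_iff, Set.mem_singleton_iff] at hy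
    rcases hx with hx | ⟨f, hf, j, rfl⟩
    · rcases hy with rfl | rfl | rfl
      · exact Or.inl (Fb.mul_mem hx gA_mem_Fb)
      · exact Or.inr ⟨x, hx, 0, by simp⟩
      · exact Or.inl (Fb.mul_mem hx gM_mem_Fb)
    · rcases hy with rfl | rfl | rfl
      · exact Or.inr ⟨f, hf, j + 1, by rw [pow_succ, ← mul_assoc]⟩
      · by_cases h0 : j % 23 = 0
        · left
          have : gA ^ j = 1 := by rw [← gA_pow_mod, h0, pow_zero]
          rw [this, mul_one, mul_assoc, projInv_sq, mul_one]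
          exact hf
        · right
          have hb := bruhat (j % 23) (Nat.mod_lt _ (by norm_num)) h0
          rw [gA_pow_mod] at hb
          refine ⟨f * gA ^ (aL.getD (j % 23) 0) * gM ^ (kL.getD (j % 23) 0),
            Fb.mul_mem (Fb.mul_mem hf (Fb.pow_mem gA_mem_Fb _)) (Fb.pow_mem gM_mem_Fb _),
            aL.getD (j % 23) 0, ?_⟩
          calc f * projInv * gA ^ j * projInv = f * (projInv * gA ^ j * projInv) := by group
            _ = _ := by rw [hb]; group
      · right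
        refine ⟨f * gM⁻¹, Fb.mul_mem hf (Fb.inv_mem gM_mem_Fb), 12 * j, ?_⟩
        calc f * projInv * gA ^ j * gM = f * projInv * (gA ^ j * gM) := by group
          _ = f * (projInv * gM) * gA ^ (12 * j) := by rw [comm_AM]; group
          _ = _ := by rw [rel_wM]; group

theorem card_LL_le : Nat.card LL ≤ 6072 := by
  let g : ↥Fb × Fin 23 → Equiv.Perm GolayPt := fun p => p.1.1 * projInv * gA ^ p.2.val
  have hsub : (LL : Set (Equiv.Perm GolayPt)) ⊆ (Fb : Set (Equiv.Perm GolayPt)) ∪ Set.range g := by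
    intro σ hσ
    rcases LL_subset_TL hσ with h | ⟨f, hf, j, rfl⟩
    · exact Or.inl h
    · right
      refine ⟨(⟨f, hf⟩, ⟨j % 23, Nat.mod_lt _ (by norm_num)⟩), ?_⟩
      show f * projInv * gA ^ (j % 23) = _
      rw [gA_pow_mod]
  have h1 : Nat.card LL = (LL : Set (Equiv.Perm GolayPt)).ncard := rfl
  rw [h1]
  calc (LL : Set (Equiv.Perm GolayPt)).ncard
      ≤ ((Fb : Set (Equiv.Perm GolayPt)) ∪ Set.range g).ncard :=
        Set.ncard_le_ncard hsub (Set.toFinite _)
    _ ≤ (Fb : Set (Equiv.Perm GolayPt)).ncard + (Set.range g).ncard := Set.ncard_union_le _ _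
    _ ≤ 253 + 253 * 23 := by
        apply Nat.add_le_add
        · have : (Fb : Set (Equiv.Perm GolayPt)).ncard = Nat.card Fb := rfl
          rw [this, card_Fb]
        · rw [← Set.image_univ]
          refine (Set.ncard_image_le (Set.toFinite _)).trans ?_
          rw [Set.ncard_univ, Nat.card_prod, card_Fb]
          simp
    _ = 6072 := by norm_num

theorem exists_LL_none (c : GolayPt) : ∃ σ ∈ LL, σ none = c := by
  have hA : gA ∈ LL := Fb_le_LL gA_mem_Fb
  have hW : projInv ∈ LL := Subgroup.subset_closure (by simp)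
  cases c with
  | none => exact ⟨1, LL.one_mem, rfl⟩
  | some x =>
    refine ⟨gA ^ x.val * projInv, LL.mul_mem (LL.pow_mem hA _) hW, ?_⟩
    show (gA ^ x.val) (projInv none) = some x
    have : projInv none = some 0 := rfl
    rw [this, gA_pow_some, zero_add, ZMod.natCast_zmod_val]

theorem card_of_transitive (Y : Subgroup (Equiv.Perm GolayPt)) (hY : LL ≤ Y) :
    Nat.card Y = 24 * Nat.card ↥(Y ⊓ stabilizer (Equiv.Perm GolayPt) (none : GolayPt)) := by
  have h := card_eq_orbit_mul Y none Finset.univ (fun _ _ => Finset.mem_univ _)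
    (fun c _ => by
      obtain ⟨σ, hσ, h⟩ := exists_LL_none c
      exact ⟨σ, hY hσ, h⟩)
  rw [h]
  rfl

theorem Fb_le_stab : Fb ≤ stabilizer (Equiv.Perm GolayPt) (none : GolayPt) :=
  fun _ h => (Fb_le_M23 h).2

theorem card_LL : Nat.card LL = 6072 := by
  apply le_antisymm card_LL_le
  rw [card_of_transitive LL le_rfl]
  have h : Fb ≤ LL ⊓ stabilizer (Equiv.Perm GolayPt) (none : GolayPt) :=
    le_inf Fb_le_LL Fb_le_stab
  have h2 := Subgroup.card_le_of_le h
  rw [card_Fb] at h2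
  omega

end Cfsg.Agent.Lib.Helper36.L23
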