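import Cfsg.Agent.Lib.Helper36.L23a

/-!
# Normalisers of the subgroups of order 23 and 11 in the Mathieu group of degree 23
-/

set_option autoImplicit false

namespace Cfsg.Agent.Lib.Helper36.L23

open Cfsg Cfsg.Agent.Lib.Helper10 MulAction
open scoped Pointwise

/-! ### Negation is not a code automorphism -/

/-- Table of `x ↦ -x`. -/
def tblNeg (i : ℕ) : ℕ := if i = 23 then 23 else (23 - i) % 23

theorem specNeg : ∀ x : ZMod 23, idx (some (-x)) = tblNeg (idx (some x)) := by decide +kernel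

theorem neg_check : ∃ b ∈ basis, enc (pull tblNeg b) ≠ pull tblNeg b := by decide +kernel

theorem neg_not_mem (ν : Equiv.Perm GolayPt) (h0 : ν none = none)
    (h1 : ∀ x : ZMod 23, ν (some x) = some (-x)) : ν ∉ M24 := by
  intro hM
  have hT : IsTab ν tblNeg := by
    intro p
    cases p with
    | none => rw [h0]; rfl
    | some x => rw [h1]; exact specNeg x
  obtain ⟨b, hb, hne⟩ := neg_check
  exact hne (pull_mem hT hM (vec_basis_mem b hb))

/-! ### The normaliser of the subgroup of order 23 -/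

theorem norm23 (σ : Equiv.Perm GolayPt) (hσ : σ ∈ Spor.M23)
    (hn : σ * gA * σ⁻¹ ∈ Subgroup.zpowers gA) : σ ∈ Fb := by
  obtain ⟨k, _, hk⟩ := exists_pow_lt_of_mem_zpowers (n := 23) (by norm_num) gA_pow_23 hn
  have h2 : ∀ n : ℕ, σ * gA ^ n = gA ^ (k * n) * σ := by
    intro n
    have : σ * gA ^ n * σ⁻¹ = gA ^ (k * n) := by rw [← conj_pow, hk, ← pow_mul]
    rw [← this]; group
  have hnone : σ none = none := hσ.2
  have hM24 : σ ∈ M24 := hσ.1
  obtain ⟨b, hb⟩ : ∃ b, σ (some 0) = some b := by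
    cases h : σ (some 0) with
    | none =>
      have := σ.injective (h.trans hnone.symm)
      exact absurd this (by simp)
    | some b => exact ⟨b, rfl⟩
  have h3 : ∀ n : ℕ, σ (some (n : ZMod 23)) = some (b + k * n) := by
    intro n
    have e1 : some (n : ZMod 23) = (gA ^ n) (some 0) := by rw [gA_pow_some, zero_add]
    rw [e1]
    show (σ * gA ^ n) (some 0) = _
    rw [h2 n]
    show (gA ^ (k * n)) (σ (some 0)) = _
    rw [hb, gA_pow_some]
    push_cast
    rfl
  have hk0 : (k : ZMod 23) ≠ 0 := by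
    intro h0
    have e1 := h3 1
    have e0 := h3 0
    rw [h0] at e1 e0
    simp only [Nat.cast_one, Nat.cast_zero, mul_one, mul_zero, add_zero] at e1 e0
    have := σ.injective (e1.trans e0.symm)
    revert this
    decide
  obtain ⟨s, hs⟩ := hgen23 (k : ZMod 23) hk0
  have h4 : ∀ x : ZMod 23, (gM ^ s * σ) (some x) = some (2 ^ s * b + (k * 2 ^ s) * x) := by
    intro x
    show (gM ^ s) (σ (some x)) = _
    have hx : x = ((x.val : ℕ) : ZMod 23) := (ZMod.natCast_zmod_val x).symm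
    rw [hx, h3, gM_pow_some, ← hx]
    congr 1
    ring
  have h5 : (gM ^ s * σ) none = none := by
    show (gM ^ s) (σ none) = _
    rw [hnone, gM_pow_none]
  rcases hs with hs | hs
  · -- a translation
    have h6 : gM ^ s * σ = gA ^ (2 ^ s * b : ZMod 23).val := by
      ext1 p
      cases p with
      | none => rw [h5, gA_pow_none]
      | some x =>
        rw [h4, gA_pow_some, hs, one_mul, ZMod.natCast_zmod_val, add_comm]
    have h7 : σ = (gM ^ s)⁻¹ * gA ^ (2 ^ s * b : ZMod 23).val := by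
      rw [← h6]; group
    rw [h7]
    exact Fb.mul_mem (Fb.inv_mem (Fb.pow_mem gM_mem_Fb _)) (Fb.pow_mem gA_mem_Fb _)
  · -- a reflection: impossible
    exfalso
    set ν := gA ^ (-(2 ^ s * b) : ZMod 23).val * (gM ^ s * σ) with hν
    have hνM : ν ∈ M24 :=
      M24.mul_mem (M24.pow_mem gA_mem_M24 _) (M24.mul_mem (M24.pow_mem gM_mem _) hM24)
    refine neg_not_mem ν ?_ ?_ hνM
    · show (gA ^ (-(2 ^ s * b) : ZMod 23).val) ((gM ^ s * σ) none) = none
      rw [h5, gA_pow_none]
    · intro x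
      show (gA ^ (-(2 ^ s * b) : ZMod 23).val) ((gM ^ s * σ) (some x)) = some (-x)
      rw [h4, gA_pow_some, hs, ZMod.natCast_zmod_val]
      congr 1
      ring

theorem Fb_le_normalizer : Fb ≤ Subgroup.normalizer (Subgroup.zpowers gA : Set (Equiv.Perm GolayPt)) := by
  rw [Subgroup.le_normalizer_iff]
  intro h hh k hk
  obtain ⟨i, j, rfl⟩ := (mem_Fb_iff h).mp hh
  obtain ⟨n, _, rfl⟩ := exists_pow_lt_of_mem_zpowers (n := 23) (by norm_num) gA_pow_23 hk
  have : gA ^ i * gM ^ j * gA ^ n * (gA ^ i * gM ^ j)⁻¹ = gA ^ (2 ^ j * n) := by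
    have h1 := comm_MA_pow j n
    calc gA ^ i * gM ^ j * gA ^ n * (gA ^ i * gM ^ j)⁻¹
        = gA ^ i * (gM ^ j * gA ^ n) * (gM ^ j)⁻¹ * (gA ^ i)⁻¹ := by group
      _ = gA ^ i * (gA ^ (2 ^ j * n) * gM ^ j) * (gM ^ j)⁻¹ * (gA ^ i)⁻¹ := by rw [h1]
      _ = gA ^ i * gA ^ (2 ^ j * n) * (gA ^ i)⁻¹ := by group
      _ = gA ^ (2 ^ j * n) := by
          rw [← pow_add, add_comm, pow_add, mul_inv_cancel_right]
  rw [this]
  exact Subgroup.pow_mem _ (Subgroup.mem_zpowers gA) _

theorem normalizer23_inf (Y : Subgroup (Equiv.Perm GolayPt)) (h1 : Fb ≤ Y) (h2 : Y ≤ Spor.M23) :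
    Subgroup.normalizer (Subgroup.zpowers gA : Set (Equiv.Perm GolayPt)) ⊓ Y = Fb := by
  apply le_antisymm
  · rintro σ ⟨hn, hY⟩
    apply norm23 σ (h2 hY)
    have := (Subgroup.mem_normalizer_iff.mp hn gA).mp (Subgroup.mem_zpowers gA)
    exact this
  · exact le_inf Fb_le_normalizer h1

/-! ### No element of the Mathieu group of degree 23 inverts `gM` -/

/-- Table of `gM ^ 10 = gM⁻¹`. -/
def T10 (i : ℕ) : ℕ := tblM^[10] i

theorem isTab_gM10 : IsTab (gM ^ 10) T10 := isTab_gM.pow 10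

/-- The table of a permutation inverting `gM`, from its values on `23, 0, 1, 5`. -/
def candI (s : ℕ → ℕ) (i : ℕ) : ℕ := T10^[expoL.getD i 0] (s (repL.getD i 0))

theorem anti_pow_apply {σ : Equiv.Perm GolayPt} (h : σ * gM = gM ^ 10 * σ) (n : ℕ) (p : GolayPt) :
    σ ((gM ^ n) p) = ((gM ^ 10) ^ n) (σ p) := by
  have h1 : σ * gM ^ n = (gM ^ 10) ^ n * σ := by
    induction n with
    | zero => simp
    | succ n ih => rw [pow_succ, ← mul_assoc, ih, mul_assoc, h, ← mul_assoc, ← pow_succ]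
  exact congrArg (fun ρ : Equiv.Perm GolayPt => ρ p) h1

theorem candI_isTab {σ : Equiv.Perm GolayPt} (h : σ * gM = gM ^ 10 * σ) (s : ℕ → ℕ)
    (hs : ∀ r ∈ [23, 0, 1, 5], idx (σ (pt r)) = s r) : IsTab σ (candI s) := by
  intro p
  obtain ⟨h1, h2⟩ := rep_check ⟨idx p, idx_lt p⟩
  simp only at h1 h2
  set e := expoL.getD (idx p) 0 with he
  set r := repL.getD (idx p) 0 with hr
  have hr24 : r < 24 := by
    simp only [List.mem_cons, List.not_mem_nil, or_false] at h2
    omega
  have hp : p = (gM ^ e) (pt r) := by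
    rw [(isTab_gM.pow e).apply_pt hr24, h1, pt_idx]
  conv_lhs => rw [hp]
  rw [anti_pow_apply h, (isTab_gM10.pow e) _, hs r h2]
  rfl

/-- No candidate is a code automorphism. -/
def invOK (s1 s5 : ℕ) : Bool :=
  !(basis.all fun b => enc (pull (candI (sfun 23 0 s1 s5)) b) == pull (candI (sfun 23 0 s1 s5)) b)

theorem inv_check : ∀ s1 ∈ [1, 5], ∀ s5 : Fin 24, invOK s1 s5 = true := by decide +kernel

theorem T10_fixed : ∀ i : Fin 24, T10 i = i → i.val = 0 ∨ i.val = 23 := by decide +kernel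

theorem no_invert_aux {τ : Equiv.Perm GolayPt} (hM : τ ∈ M24) (h : τ * gM = gM ^ 10 * τ)
    (h23 : τ none = none) (h1 : idx (τ (pt 1)) = 1 ∨ idx (τ (pt 1)) = 5) : False := by
  have e23 : idx (τ (pt 23)) = 23 := by
    have : pt 23 = none := rfl
    rw [this, h23]; rfl
  have e0 : idx (τ (pt 0)) = 0 := by
    have hfix : (gM ^ 10) (τ (pt 0)) = τ (pt 0) := by
      have := anti_pow_apply h 1 (pt 0)
      rw [pow_one, pow_one] at this
      rw [← this, isTab_gM.apply_pt (by decide)]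
      rfl
    have h2 := isTab_gM10 (τ (pt 0))
    rw [hfix] at h2
    rcases T10_fixed ⟨idx (τ (pt 0)), idx_lt _⟩ h2.symm with h3 | h3
    · exact h3
    · exfalso
      have h4 : τ (pt 0) = τ (pt 23) := idx_injective (h3.trans e23.symm)
      have := τ.injective h4
      revert this
      decide
  have h5 : idx (τ (pt 5)) < 24 := idx_lt _
  set s1 := idx (τ (pt 1)) with hs1
  set s5 := idx (τ (pt 5)) with hs5
  have hT : IsTab τ (candI (sfun 23 0 s1 s5)) := by
    apply candI_isTab h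
    intro r hr
    simp only [List.mem_cons, List.not_mem_nil, or_false] at hr
    rcases hr with rfl | rfl | rfl | rfl <;> simp [sfun, e23, e0, hs1, hs5]
  have hck := inv_check s1 (by simp; omega) ⟨s5, h5⟩
  unfold invOK at hck
  have hall : (basis.all fun b => enc (pull (candI (sfun 23 0 s1 s5)) b) ==
      pull (candI (sfun 23 0 s1 s5)) b) = true := by
    rw [List.all_eq_true]
    intro b hb
    rw [beq_iff_eq]
    exact pull_mem hT hM (vec_basis_mem b hb)
  rw [hall] at hck
  exact Bool.noConfusion hck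

theorem gM_inv_eq : gM⁻¹ = gM ^ 10 := by
  have : gM ^ 10 * gM = 1 := by rw [← pow_succ]; exact gM_pow_11
  exact (eq_inv_of_mul_eq_one_left this).symm

theorem no_invert {σ : Equiv.Perm GolayPt} (hσ : σ ∈ Spor.M23) (h : σ * gM * σ⁻¹ = gM⁻¹) :
    False := by
  have h' : σ * gM = gM ^ 10 * σ := by
    rw [← gM_inv_eq, ← h]; group
  have hk : tblM (idx (σ (pt 1))) ≠ idx (σ (pt 1)) := by
    intro hfix
    have h1 : gM (σ (pt 1)) = σ (pt 1) := by
      apply idx_injective
      rw [isTab_gM, hfix]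
    have h2 : (gM ^ 10) (σ (pt 1)) = σ (pt 1) := by
      have : ∀ n : ℕ, (gM ^ n) (σ (pt 1)) = σ (pt 1) := by
        intro n
        induction n with
        | zero => simp
        | succ n ih => rw [pow_succ, Equiv.Perm.mul_apply, h1, ih]
      exact this 10
    have h3 := anti_pow_apply h' 1 (pt 1)
    rw [pow_one, pow_one, h2] at h3
    have h4 := σ.injective h3
    rw [isTab_gM.apply_pt (by decide)] at h4
    revert h4
    decide
  obtain ⟨e, he⟩ := tblM_norm ⟨idx (σ (pt 1)), idx_lt _⟩ hk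
  refine no_invert_aux (τ := gM ^ e.val * σ)
    (M24.mul_mem (M24.pow_mem gM_mem _) hσ.1) ?_ ?_ ?_
  · rw [mul_assoc, h', ← mul_assoc, ← mul_assoc, ← pow_add, ← pow_add, add_comm]
  · show (gM ^ e.val) (σ none) = none
    have : σ none = none := hσ.2
    rw [this, gM_pow_none]
  · have : idx ((gM ^ e.val * σ) (pt 1)) = tblM^[e.val] (idx (σ (pt 1))) :=
      (isTab_gM.pow e.val) (σ (pt 1))
    rw [this]
    exact he

end Cfsg.Agent.Lib.Helper36.L23
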