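import Mathlib

set_option autoImplicit false

namespace Cfsg.Agent.Lib.Helper36

/-- Counting the members of the image of a duplicate-free list that satisfy a predicate. -/
theorem ncard_image_list {α β : Type*} (l : List α) (hl : l.Nodup) (f : α → β)
    (hf : ∀ a ∈ l, ∀ b ∈ l, f a = f b → a = b) (P : β → Prop) [DecidablePred P] :
    {b | (∃ a ∈ l, b = f a) ∧ P b}.ncard = (l.filter (fun a => decide (P (f a)))).length := by
  classical
  have h1 : {b | (∃ a ∈ l, b = f a) ∧ P b} = f '' {a | a ∈ l.filter (fun a => decide (P (f a)))} := by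
    ext b
    simp only [Set.mem_ofPred_eq, Set.mem_image, List.mem_filter, decide_eq_true_eq]
    constructor
    · rintro ⟨⟨a, ha, rfl⟩, hP⟩
      exact ⟨a, ⟨ha, hP⟩, rfl⟩
    · rintro ⟨a, ⟨ha, hP⟩, rfl⟩
      exact ⟨⟨a, ha, rfl⟩, hP⟩
  rw [h1, Set.InjOn.ncard_image]
  · have h2 : {a | a ∈ l.filter (fun a => decide (P (f a)))} =
        ((l.filter (fun a => decide (P (f a)))).toFinset : Set α) := by
      ext a; simp
    rw [h2, Set.ncard_coe_finset, List.toFinset_card_of_nodup (hl.filter _)]
  · intro a ha b hb hab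
    simp only [Set.mem_ofPred_eq, List.mem_filter] at ha hb
    exact hf a ha.1 b hb.1 hab

/-- Counting the image of a duplicate-free list. -/
theorem ncard_image_list' {α β : Type*} (l : List α) (hl : l.Nodup) (f : α → β)
    (hf : ∀ a ∈ l, ∀ b ∈ l, f a = f b → a = b) :
    {b | ∃ a ∈ l, b = f a}.ncard = l.length := by
  have h := ncard_image_list l hl f hf (fun _ => True)
  simpa using h

end Cfsg.Agent.Lib.Helper36
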