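import Cfsg.Agent.Lib.Helper36.L23c

/-!
# The Mathieu group of degree 22 has no subgroups of order 7920 or 2112
-/

set_option autoImplicit false

namespace Cfsg.Agent.Lib.Helper36.M22Sub

open Cfsg Cfsg.Agent.Lib.Helper10 Cfsg.Agent.Lib.Helper36.L23 MulAction Subgroup
open scoped Pointwise

theorem M22_le_M23 : Spor.M22 ≤ Spor.M23 := inf_le_left

theorem cubeTwist_ne_one : cubeTwist ≠ 1 := by
  intro h
  have h1 : cubeTwist (pt 1) = pt (tbl 2 1) := isTab_cubeTwist.apply_pt (by decide)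
  rw [h] at h1
  revert h1
  decide

theorem orderOf_cT : orderOf cubeTwist = 5 := by
  have : Fact (Nat.Prime 5) := ⟨by norm_num⟩
  exact orderOf_eq_prime cubeTwist_pow_5 cubeTwist_ne_one

theorem conj_pow_rel {G : Type*} [Group G] (a b : G) (r : ℕ) (h : a * b * a⁻¹ = b ^ r) (j : ℕ) :
    a ^ j * b * (a ^ j)⁻¹ = b ^ (r ^ j) := by
  induction j with
  | zero => simp
  | succ j ih =>
    have : a ^ (j + 1) * b * (a ^ (j + 1))⁻¹ = a * (a ^ j * b * (a ^ j)⁻¹) * a⁻¹ := by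
      rw [pow_succ']; group
    rw [this, ih, ← conj_pow, h, ← pow_mul, pow_succ, mul_comm]

theorem ar2112' : ∀ a : Fin 34, ∀ b : Fin 64, (64 * a.val + b.val) % 2 = 1 →
    11 ∣ (64 * a.val + b.val) → (64 * a.val + b.val) ∣ 2112 →
    (2112 / (64 * a.val + b.val)) % 11 ≠ 1 := by decide +kernel

theorem ar2112 (k c : ℕ) (h : k * c = 2112) (hk : k % 11 = 1) (hc : c % 2 = 1) (h11 : 11 ∣ c) :
    False := by
  have hcd : c ∣ 2112 := ⟨k, by rw [← h, mul_comm]⟩
  have hcl : c ≤ 2112 := Nat.le_of_dvd (by norm_num) hcd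
  have h1 := ar2112' ⟨c / 64, by omega⟩ ⟨c % 64, Nat.mod_lt _ (by norm_num)⟩
  simp only at h1
  rw [Nat.div_add_mod c 64] at h1
  have hc0 : 0 < c := by omega
  have hq : 2112 / c = k := by rw [← h]; exact Nat.mul_div_cancel k hc0
  rw [hq] at h1
  exact h1 hc h11 hcd hk

theorem ar7920' : ∀ a : Fin 124, ∀ b : Fin 64, (64 * a.val + b.val) % 2 = 1 →
    11 ∣ (64 * a.val + b.val) → (64 * a.val + b.val) ∣ 7920 →
    (7920 / (64 * a.val + b.val)) % 11 = 1 → 64 * a.val + b.val = 55 := by decide +kernel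

theorem ar7920 (k c : ℕ) (h : k * c = 7920) (hk : k % 11 = 1) (hc : c % 2 = 1) (h11 : 11 ∣ c) :
    c = 55 := by
  have hcd : c ∣ 7920 := ⟨k, by rw [← h, mul_comm]⟩
  have hcl : c ≤ 7920 := Nat.le_of_dvd (by norm_num) hcd
  have h1 := ar7920' ⟨c / 64, by omega⟩ ⟨c % 64, Nat.mod_lt _ (by norm_num)⟩
  simp only at h1
  rw [Nat.div_add_mod c 64] at h1
  have hc0 : 0 < c := by omega
  have hq : 7920 / c = k := by rw [← h]; exact Nat.mul_div_cancel k hc0
  rw [hq] at h1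
  exact h1 hc h11 hcd hk

theorem ar5' : ∀ c : Fin 21, 5 ∣ c.val → c.val ∣ 7920 → (7920 / c.val) % 5 = 1 → c.val = 20 := by
  decide +kernel

theorem ar5 (k c : ℕ) (h : k * c = 7920) (hk : k % 5 = 1) (h5 : 5 ∣ c) (hle : c ≤ 20) :
    c = 20 := by
  have hcd : c ∣ 7920 := ⟨k, by rw [← h, mul_comm]⟩
  have hc0 : 0 < c := Nat.pos_of_dvd_of_pos hcd (by norm_num)
  have hq : 7920 / c = k := by rw [← h]; exact Nat.mul_div_cancel k hc0
  have h1 := ar5' ⟨c, by omega⟩ h5 hcd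
  simp only at h1
  rw [hq] at h1
  exact h1 hk

theorem pow5_cases : ∀ k : Fin 11, k.val ^ 5 % 11 = 1 → ∃ j : Fin 5, k.val % 11 = 3 ^ j.val % 11 := by
  decide

theorem inv5_cases : ∀ j : Fin 5, j.val ≠ 0 → ∃ i : Fin 5, j.val * i.val % 5 = 1 := by decide

theorem pow2_cases : ∀ k : Fin 5, k.val ≠ 0 → ∃ j : Fin 4, k.val % 5 = 2 ^ j.val % 5 := by decide

/-- A subgroup of order 7920 containing `gM` contains `cubeTwist`. -/
theorem cT_mem_of (Y : Subgroup (Equiv.Perm GolayPt)) (hY : Y ≤ Spor.M22) (hgM : gM ∈ Y)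
    (hcard : Nat.card Y = 7920) : cubeTwist ∈ Y := by
  have hY23 : Y ≤ Spor.M23 := hY.trans M22_le_M23
  have : Fact (Nat.Prime 11) := ⟨by norm_num⟩
  have hZ : zpowers gM ≤ Y := (zpowers_le).mpr hgM
  obtain ⟨k11, hk11, hm11⟩ := sylow_count Y (zpowers gM) hZ 11
    (by rw [Nat.card_zpowers, orderOf_gM]) (by rw [hcard]; decide)
  have hc11 : 11 ∣ Nat.card
      ↥(normalizer (zpowers gM : Set (Equiv.Perm GolayPt)) ⊓ Y) := by
    have := card_dvd_of_le (show zpowers gM ≤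
      normalizer (zpowers gM : Set (Equiv.Perm GolayPt)) ⊓ Y from le_inf le_normalizer hZ)
    rwa [Nat.card_zpowers, orderOf_gM] at this
  have hodd := odd_card_N11 Y hY23
  have hc : Nat.card ↥(normalizer (zpowers gM : Set (Equiv.Perm GolayPt)) ⊓ Y) = 55 :=
    ar7920 k11 _ (by rw [← hk11, hcard]) hm11 hodd hc11
  have : Fact (Nat.Prime 5) := ⟨by norm_num⟩
  obtain ⟨f, hf⟩ := exists_prime_orderOf_dvd_card'
    (G := ↥(normalizer (zpowers gM : Set (Equiv.Perm GolayPt)) ⊓ Y)) 5 (by rw [hc]; norm_num)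
  have hφ5 : orderOf (f : Equiv.Perm GolayPt) = 5 := by rw [Subgroup.orderOf_coe]; exact hf
  have hφn : (f : Equiv.Perm GolayPt) ∈ normalizer (zpowers gM : Set (Equiv.Perm GolayPt)) := f.2.1
  have hφY : (f : Equiv.Perm GolayPt) ∈ Y := f.2.2
  set φ := (f : Equiv.Perm GolayPt) with hφdef
  have hconj : φ * gM * φ⁻¹ ∈ zpowers gM :=
    (mem_normalizer_iff.mp hφn gM).mp (mem_zpowers gM)
  obtain ⟨k, hk11', hk⟩ := exists_pow_lt_of_mem_zpowers (n := 11) (by norm_num) gM_pow_11 hconj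
  have h5 := conj_pow_rel φ gM k hk 5
  have hφ5' : φ ^ 5 = 1 := by rw [← hφ5]; exact pow_orderOf_eq_one φ
  rw [hφ5', one_mul, inv_one, mul_one] at h5
  have hmod : k ^ 5 % 11 = 1 := by
    have := (pow_eq_pow_iff_modEq (x := gM) (n := k ^ 5) (m := 1)).mp (by rw [pow_one]; exact h5.symm)
    rw [orderOf_gM] at this
    exact this
  obtain ⟨j, hj⟩ := pow5_cases ⟨k, hk11'⟩ hmod
  simp only at hj
  have hkj : gM ^ k = gM ^ (3 ^ j.val) :=
    (pow_eq_pow_iff_modEq).mpr (by rw [orderOf_gM]; exact hj)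
  have hc3 := conj_pow_rel cubeTwist gM 3 rel_cm3 j.val
  set u := (cubeTwist ^ j.val)⁻¹ * φ with hu
  have hucomm : u * gM = gM * u := by
    have h1 : u * gM * u⁻¹ = gM := by
      calc u * gM * u⁻¹ = (cubeTwist ^ j.val)⁻¹ * (φ * gM * φ⁻¹) * (cubeTwist ^ j.val) := by
            rw [hu]; group
        _ = (cubeTwist ^ j.val)⁻¹ * (cubeTwist ^ j.val * gM * (cubeTwist ^ j.val)⁻¹) *
              cubeTwist ^ j.val := by rw [hk, hkj, hc3]
        _ = gM := by group
    calc u * gM = (u * gM * u⁻¹) * u := by group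
      _ = gM * u := by rw [h1]
  have huM : u ∈ M24 :=
    M24.mul_mem (M24.inv_mem (M24.pow_mem cubeTwist_mem_M24 _)) (M22_le_M24 (hY hφY))
  obtain ⟨a, _, ha⟩ := exists_pow_lt_of_mem_zpowers (n := 11) (by norm_num) gM_pow_11
    (cent_gM huM hucomm)
  have hφ : φ = cubeTwist ^ j.val * gM ^ a := by rw [← ha, hu]; group
  have hcTj : cubeTwist ^ j.val ∈ Y := by
    have : cubeTwist ^ j.val = φ * (gM ^ a)⁻¹ := by rw [hφ]; group
    rw [this]
    exact Y.mul_mem hφY (Y.inv_mem (Y.pow_mem hgM _))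
  have hj0 : j.val ≠ 0 := by
    intro h0
    rw [h0, pow_zero, one_mul] at hφ
    have h11 : φ ^ 11 = 1 := by rw [hφ, ← pow_mul, mul_comm, pow_mul, gM_pow_11, one_pow]
    have hd := orderOf_dvd_of_pow_eq_one h11
    rw [hφ5] at hd
    revert hd
    decide
  obtain ⟨i, hi⟩ := inv5_cases j hj0
  have hcT : cubeTwist = (cubeTwist ^ j.val) ^ i.val := by
    rw [← pow_mul]
    have := (pow_eq_pow_iff_modEq (x := cubeTwist) (n := j.val * i.val) (m := 1)).mpr
      (by rw [orderOf_cT]; exact hi)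
    rw [this, pow_one]
  rw [hcT]
  exact Y.pow_mem hcTj _

/-- A subgroup of order 7920 of the Mathieu group of degree 22 containing `cubeTwist` contains
`s22`. -/
theorem s22_mem_of (Y : Subgroup (Equiv.Perm GolayPt)) (hY : Y ≤ Spor.M22) (hcT : cubeTwist ∈ Y)
    (hcard : Nat.card Y = 7920) : s22 ∈ Y := by
  have : Fact (Nat.Prime 5) := ⟨by norm_num⟩
  have hZ : zpowers cubeTwist ≤ Y := (zpowers_le).mpr hcT
  obtain ⟨k5, hk5, hm5⟩ := sylow_count Y (zpowers cubeTwist) hZ 5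
    (by rw [Nat.card_zpowers, orderOf_cT]) (by rw [hcard]; decide)
  set N := normalizer (zpowers cubeTwist : Set (Equiv.Perm GolayPt)) ⊓ Y with hN
  have hc5 : 5 ∣ Nat.card N := by
    have := card_dvd_of_le (show zpowers cubeTwist ≤ N from le_inf le_normalizer hZ)
    rwa [Nat.card_zpowers, orderOf_cT] at this
  have hrel : s22 * cubeTwist * s22⁻¹ = cubeTwist ^ 2 := by
    have h : s22 * cubeTwist = cubeTwist ^ 2 * s22 :=
      (isTab_s22.mul isTab_cubeTwist).eq_of ((isTab_cubeTwist.pow 2).mul isTab_s22)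
        (by decide +kernel)
    rw [h, mul_inv_cancel_right]
  let g : Fin 4 × Fin 5 → Equiv.Perm GolayPt := fun p => s22 ^ p.1.val * cubeTwist ^ p.2.val
  have hsub : (N : Set (Equiv.Perm GolayPt)) ⊆ Set.range g := by
    rintro τ ⟨hτn, hτY⟩
    have hconj : τ * cubeTwist * τ⁻¹ ∈ zpowers cubeTwist :=
      (mem_normalizer_iff.mp hτn cubeTwist).mp (mem_zpowers cubeTwist)
    obtain ⟨k, hk5', hk⟩ := exists_pow_lt_of_mem_zpowers (n := 5) (by norm_num) cubeTwist_pow_5 hconj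
    have hk0 : k ≠ 0 := by
      intro h0
      rw [h0, pow_zero] at hk
      have : cubeTwist = 1 := by
        calc cubeTwist = τ⁻¹ * (τ * cubeTwist * τ⁻¹) * τ := by group
          _ = 1 := by rw [hk]; group
      exact cubeTwist_ne_one this
    obtain ⟨j, hj⟩ := pow2_cases ⟨k, hk5'⟩ hk0
    simp only at hj
    have hkj : cubeTwist ^ k = cubeTwist ^ (2 ^ j.val) :=
      (pow_eq_pow_iff_modEq).mpr (by rw [orderOf_cT]; exact hj)
    have hc2 := conj_pow_rel s22 cubeTwist 2 hrel j.val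
    set u := (s22 ^ j.val)⁻¹ * τ with hu
    have hucomm : u * cubeTwist = cubeTwist * u := by
      have h1 : u * cubeTwist * u⁻¹ = cubeTwist := by
        calc u * cubeTwist * u⁻¹ = (s22 ^ j.val)⁻¹ * (τ * cubeTwist * τ⁻¹) * (s22 ^ j.val) := by
              rw [hu]; group
          _ = (s22 ^ j.val)⁻¹ * (s22 ^ j.val * cubeTwist * (s22 ^ j.val)⁻¹) * s22 ^ j.val := by
              rw [hk, hkj, hc2]
          _ = cubeTwist := by group
      calc u * cubeTwist = (u * cubeTwist * u⁻¹) * u := by group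
        _ = cubeTwist * u := by rw [h1]
    have huM : u ∈ Spor.M22 :=
      Spor.M22.mul_mem (Spor.M22.inv_mem (Spor.M22.pow_mem s22_mem_M22 _)) (hY hτY)
    obtain ⟨hu24, hu23, hu0⟩ := (mem_M22_iff u).mp huM
    obtain ⟨a, ha5, ha⟩ := exists_pow_lt_of_mem_zpowers (n := 5) (by norm_num) cubeTwist_pow_5
      (cent_c_M22 hu24 hu23 hu0 hucomm)
    refine ⟨(j, ⟨a, ha5⟩), ?_⟩
    show s22 ^ j.val * cubeTwist ^ a = τ
    rw [← ha, hu]; group
  have hle : Nat.card N ≤ 20 := by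
    have h1 : Nat.card N = (N : Set (Equiv.Perm GolayPt)).ncard := rfl
    rw [h1]
    calc (N : Set (Equiv.Perm GolayPt)).ncard ≤ (Set.range g).ncard :=
          Set.ncard_le_ncard hsub (Set.toFinite _)
      _ ≤ Nat.card (Fin 4 × Fin 5) := by
          rw [← Set.image_univ]
          exact (Set.ncard_image_le (Set.toFinite _)).trans (by rw [Set.ncard_univ])
      _ = 20 := by simp
  have hc : Nat.card N = 20 := ar5 k5 _ (by rw [← hk5, hcard]) hm5 hc5 hle
  have heq : (N : Set (Equiv.Perm GolayPt)) = Set.range g := by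
    apply Set.eq_of_subset_of_ncard_le hsub _ (Set.toFinite _)
    have h1 : (N : Set (Equiv.Perm GolayPt)).ncard = Nat.card N := rfl
    rw [h1, hc, ← Set.image_univ]
    refine (Set.ncard_image_le (Set.toFinite _)).trans ?_
    rw [Set.ncard_univ]
    simp
  have hs : s22 ∈ (N : Set (Equiv.Perm GolayPt)) := by
    rw [heq]
    exact ⟨(1, 0), by simp [g]⟩
  exact hs.2

theorem no_7920_with_gM (Y : Subgroup (Equiv.Perm GolayPt)) (hY : Y ≤ Spor.M22) (hgM : gM ∈ Y)
    (hcard : Nat.card Y = 7920) : False := by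
  have hcT := cT_mem_of Y hY hgM hcard
  have hs := s22_mem_of Y hY hcT hcard
  have hK : K22 ≤ Y := by
    unfold K22
    rw [closure_le]
    intro x hx
    simp only [Set.mem_insert_iff, Set.mem_singleton_iff] at hx
    rcases hx with rfl | rfl | rfl
    · exact hgM
    · exact hcT
    · exact hs
  have := card_of_between22 Y hK hY
  rw [hcard] at this
  revert this
  decide

theorem no_2112_with_gM (Y : Subgroup (Equiv.Perm GolayPt)) (hY : Y ≤ Spor.M22) (hgM : gM ∈ Y)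
    (hcard : Nat.card Y = 2112) : False := by
  have hY23 : Y ≤ Spor.M23 := hY.trans M22_le_M23
  have : Fact (Nat.Prime 11) := ⟨by norm_num⟩
  have hZ : zpowers gM ≤ Y := (zpowers_le).mpr hgM
  obtain ⟨k11, hk11, hm11⟩ := sylow_count Y (zpowers gM) hZ 11
    (by rw [Nat.card_zpowers, orderOf_gM]) (by rw [hcard]; decide)
  have hc11 : 11 ∣ Nat.card
      ↥(normalizer (zpowers gM : Set (Equiv.Perm GolayPt)) ⊓ Y) := by
    have := card_dvd_of_le (show zpowers gM ≤
      normalizer (zpowers gM : Set (Equiv.Perm GolayPt)) ⊓ Y from le_inf le_normalizer hZ)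
    rwa [Nat.card_zpowers, orderOf_gM] at this
  exact ar2112 k11 _ (by rw [← hk11, hcard]) hm11 (odd_card_N11 Y hY23) hc11

/-- Conjugating a subgroup whose order is divisible by 11 so that it contains `gM`. -/
theorem exists_conj_gM (Y : Subgroup (Equiv.Perm GolayPt)) (hY : Y ≤ Spor.M22)
    (h11 : 11 ∣ Nat.card Y) :
    ∃ Y' : Subgroup (Equiv.Perm GolayPt), Y' ≤ Spor.M22 ∧ Nat.card Y' = Nat.card Y ∧ gM ∈ Y' := by
  have : Fact (Nat.Prime 11) := ⟨by norm_num⟩
  obtain ⟨y, hy⟩ := exists_prime_orderOf_dvd_card' (G := ↥Y) 11 h11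
  have hη : orderOf (y : Equiv.Perm GolayPt) = 11 := by rw [Subgroup.orderOf_coe]; exact hy
  have hηY : (y : Equiv.Perm GolayPt) ∈ Y := y.2
  set η := (y : Equiv.Perm GolayPt) with hηdef
  have hηM : η ∈ Spor.M22 := hY hηY
  have hidx : ∀ Z : Subgroup ↥Spor.M22, Nat.card Z = 11 → ¬ 11 ∣ Z.index := by
    intro Z hZ hd
    have h1 := Z.card_mul_index
    rw [hZ, card_M22] at h1
    obtain ⟨t, ht⟩ := hd
    rw [ht] at h1
    omega
  have card1 : Nat.card ((zpowers η).subgroupOf Spor.M22) = 11 := by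
    rw [Nat.card_congr (subgroupOfEquivOfLe ((zpowers_le).mpr hηM)).toEquiv, Nat.card_zpowers, hη]
  have card2 : Nat.card ((zpowers gM).subgroupOf Spor.M22) = 11 := by
    rw [Nat.card_congr (subgroupOfEquivOfLe ((zpowers_le).mpr gM_mem_M22)).toEquiv,
      Nat.card_zpowers, orderOf_gM]
  let S1 : Sylow 11 ↥Spor.M22 :=
    (IsPGroup.of_card (n := 1) (by rw [card1, pow_one])).toSylow (hidx _ card1)
  let S2 : Sylow 11 ↥Spor.M22 :=
    (IsPGroup.of_card (n := 1) (by rw [card2, pow_one])).toSylow (hidx _ card2)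
  obtain ⟨g, hg⟩ := MulAction.exists_smul_eq ↥Spor.M22 S1 S2
  have hmem : (⟨η, hηM⟩ : ↥Spor.M22) ∈ (S1 : Subgroup ↥Spor.M22) :=
    (mem_subgroupOf).mpr (mem_zpowers η)
  have h2 : MulAut.conj g • (⟨η, hηM⟩ : ↥Spor.M22) ∈ (S2 : Subgroup ↥Spor.M22) := by
    rw [← hg, Sylow.coe_subgroup_smul]
    exact Subgroup.smul_mem_pointwise_smul _ _ _ hmem
  have h3 : (g : Equiv.Perm GolayPt) * η * (g : Equiv.Perm GolayPt)⁻¹ ∈ zpowers gM := h2
  set γ := (g : Equiv.Perm GolayPt) with hγ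
  have hγM : γ ∈ Spor.M22 := g.2
  refine ⟨Y.map (MulAut.conj γ).toMonoidHom, ?_, ?_, ?_⟩
  · rintro x ⟨y', hy', rfl⟩
    show γ * y' * γ⁻¹ ∈ Spor.M22
    exact Spor.M22.mul_mem (Spor.M22.mul_mem hγM (hY hy')) (Spor.M22.inv_mem hγM)
  · exact Subgroup.card_map_of_injective (MulAut.conj γ).injective
  · have hζ : γ * η * γ⁻¹ ∈ Y.map (MulAut.conj γ).toMonoidHom := ⟨η, hηY, rfl⟩
    have hord : orderOf (γ * η * γ⁻¹) = 11 := by
      have := MulEquiv.orderOf_eq (MulAut.conj γ) η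
      rw [hη] at this
      exact this
    have hle : zpowers (γ * η * γ⁻¹) ≤ zpowers gM := (zpowers_le).mpr h3
    have heq : zpowers (γ * η * γ⁻¹) = zpowers gM :=
      Subgroup.eq_of_le_of_card_ge hle (by rw [Nat.card_zpowers, Nat.card_zpowers, hord, orderOf_gM])
    have hgM : gM ∈ zpowers (γ * η * γ⁻¹) := by rw [heq]; exact mem_zpowers gM
    exact ((zpowers_le).mpr hζ) hgM

theorem no_sub (Y : Subgroup (Equiv.Perm GolayPt)) (hY : Y ≤ Spor.M22)
    (h : Nat.card Y = 7920 ∨ Nat.card Y = 2112) : False := by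
  have h11 : 11 ∣ Nat.card Y := by
    rcases h with h | h <;> rw [h] <;> decide
  obtain ⟨Y', hY', hc, hgM⟩ := exists_conj_gM Y hY h11
  rcases h with h | h
  · exact no_7920_with_gM Y' hY' hgM (hc.trans h)
  · exact no_2112_with_gM Y' hY' hgM (hc.trans h)

end Cfsg.Agent.Lib.Helper36.M22Sub
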