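import Cfsg.Agent.Lib.Helper35.M24Base
import Cfsg.Agent.Lib.Helper36.ListCount
import Cfsg.Agent.S0366

/-!
Counting supports of code words by kernel enumeration, and transport of statements about sets of
points along elements of `M24`.  Built on `Lib.Helper10` / `Lib.Helper35`.
-/

set_option autoImplicit false

namespace Cfsg.Agent.Lib.Helper36

open Cfsg
open Cfsg.Agent.Lib.Helper10 (idx pt idx_pt idx_lt idx_injective enc enc_mod enc_lt)
open Cfsg.Agent.Lib.Helper35
open scoped Pointwise

theorem enc_mod_self : ∀ k < 4096, enc k % 4096 = k := by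
  have h : (List.range 4096).all (fun k => enc k % 4096 == k) = true := by decide +kernel
  intro k hk
  exact beq_iff_eq.mp (List.all_eq_true.mp h k (List.mem_range.mpr hk))

theorem enc_enc (k : ℕ) : enc (enc k) = enc k := by
  have h1 : enc k % 4096 = k % 4096 := by
    have := enc_mod_self (k % 4096) (Nat.mod_lt _ (by norm_num))
    rwa [enc_mod] at this
  rw [← enc_mod (enc k), h1, enc_mod]

theorem setOfMask_gmask (s : Finset GolayPt) : setOfMask (gmask s) = s :=
  gmask_injective (gmask_setOfMask (gmask_lt s))

theorem mem_supports_iff_exists (l : List ℕ) (hl : l = List.range 4096) (s : Finset GolayPt) :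
    s ∈ supports (golayCode : Set (GolayPt → ZMod 2)) ↔
      ∃ k ∈ l, s = setOfMask (enc k) := by
  rw [mem_supports_iff]
  constructor
  · intro h
    refine ⟨gmask s % 4096, ?_, ?_⟩
    · rw [hl]; exact List.mem_range.mpr (Nat.mod_lt _ (by norm_num))
    · rw [enc_mod, h, setOfMask_gmask]
  · rintro ⟨k, _, rfl⟩
    rw [gmask_setOfMask (enc_lt k), enc_enc]

theorem count_supports_aux (l : List ℕ) (hl : l = List.range 4096) (f : ℕ → Bool) :
    {s : Finset GolayPt | s ∈ supports (golayCode : Set (GolayPt → ZMod 2)) ∧
        f (gmask s) = true}.ncard =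
      (l.filter (fun k => f (enc k))).length := by
  have hmem : ∀ a ∈ l, a < 4096 := by
    intro a ha
    rw [hl] at ha
    exact List.mem_range.mp ha
  have hnd : l.Nodup := by rw [hl]; exact List.nodup_range
  have hinj : ∀ a ∈ l, ∀ b ∈ l,
      setOfMask (enc a) = setOfMask (enc b) → a = b := by
    intro a ha b hb h
    have h1 : enc a = enc b := by
      rw [← gmask_setOfMask (enc_lt a), ← gmask_setOfMask (enc_lt b), h]
    rw [← enc_mod_self a (hmem a ha), ← enc_mod_self b (hmem b hb), h1]
  have h := ncard_image_list l hnd (fun k => setOfMask (enc k)) hinj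
    (fun s => f (gmask s) = true)
  have hfilt : l.filter (fun a => decide (f (gmask (setOfMask (enc a))) = true)) =
      l.filter (fun k => f (enc k)) := by
    apply List.filter_congr
    intro k _
    rw [gmask_setOfMask (enc_lt k)]
    simp
  have hset : {s : Finset GolayPt | s ∈ supports (golayCode : Set (GolayPt → ZMod 2)) ∧
        f (gmask s) = true} =
      {b | (∃ a ∈ l, b = setOfMask (enc a)) ∧ f (gmask b) = true} := by
    ext s
    simp only [Set.mem_ofPred_eq]
    rw [mem_supports_iff_exists l hl]
  rw [hset, h, hfilt]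

/-- Counting the supports of code words satisfying a Boolean test on masks. -/
theorem count_supports (f : ℕ → Bool) :
    {s : Finset GolayPt | s ∈ supports (golayCode : Set (GolayPt → ZMod 2)) ∧
        f (gmask s) = true}.ncard =
      ((List.range 4096).filter (fun k => f (enc k))).length :=
  count_supports_aux _ rfl f

/-! ### Transport along permutations -/

theorem card_inter_smul (a : Equiv.Perm GolayPt) (s t : Finset GolayPt) :
    ((a • s) ∩ (a • t)).card = (s ∩ t).card := by
  rw [← Finset.smul_finset_inter, Finset.card_smul_finset]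

theorem perm_mem_smul_iff (a : Equiv.Perm GolayPt) (x : GolayPt) (s : Finset GolayPt) :
    a x ∈ a • s ↔ x ∈ s := by
  rw [← Equiv.Perm.smul_def, Finset.smul_mem_smul_finset_iff]

theorem smul_mem_octads_iff {a : Equiv.Perm GolayPt} (ha : a ∈ M24) {s : Finset GolayPt} :
    a • s ∈ octads ↔ s ∈ octads :=
  ⟨fun h => by simpa using smul_mem_octads (M24.inv_mem ha) h, smul_mem_octads ha⟩

theorem smul_mem_dodecads_iff {a : Equiv.Perm GolayPt} (ha : a ∈ M24) {s : Finset GolayPt} :
    a • s ∈ dodecads ↔ s ∈ dodecads :=
  ⟨fun h => by simpa using smul_mem_dodecads (M24.inv_mem ha) h, smul_mem_dodecads ha⟩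

/-- The number of sets with a property does not change under translation by a permutation. -/
theorem ncard_smul_set (a : Equiv.Perm GolayPt) (P : Finset GolayPt → Prop) :
    {s | P (a • s)}.ncard = {s | P s}.ncard := by
  have h : {s | P s} = (fun s : Finset GolayPt => a • s) '' {s | P (a • s)} := by
    ext s
    simp only [Set.mem_ofPred_eq, Set.mem_image]
    constructor
    · intro h
      exact ⟨a⁻¹ • s, by simpa using h, by simp⟩
    · rintro ⟨t, ht, rfl⟩
      exact ht
  rw [h, Set.ncard_image_of_injective _ (MulAction.injective a)]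

/-! ### Masks and membership -/

theorem mem_iff_testBit_gmask (p : GolayPt) (s : Finset GolayPt) :
    p ∈ s ↔ (gmask s).testBit (idx p) = true := by
  rw [testBit_maskOf_idx idx_injective]
  simp

theorem card_inter_gmask (s t : Finset GolayPt) :
    (s ∩ t).card = popc 24 (gmask s &&& gmask t) := card_inter_eq_popc s t

/-! ### Multiple transitivity of `M24` -/

theorem card_golayPt : Nat.card GolayPt = 24 := by
  rw [Nat.card_eq_fintype_card]; rfl

/-- `M24` is doubly transitive on the 24 points. -/
theorem m24_two_trans {a b c d : GolayPt} (hab : a ≠ b) (hcd : c ≠ d) :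
    ∃ g ∈ M24, g a = c ∧ g b = d := by
  have := Cfsg.Agent.S0366.result
  have : MulAction.IsMultiplyPretransitive M24 GolayPt 2 :=
    MulAction.isMultiplyPretransitive_of_le (n := 5) (by norm_num) (by rw [card_golayPt]; norm_num)
  obtain ⟨g, h1, h2⟩ := (MulAction.is_two_pretransitive_iff (G := M24) (α := GolayPt)).mp
    inferInstance hab hcd
  exact ⟨g.1, g.2, h1, h2⟩

/-- Four distinct points as an embedding. -/
def emb4 (a b c d : GolayPt) (h : [a, b, c, d].Nodup) : Fin 4 ↪ GolayPt where
  toFun := ![a, b, c, d]
  inj' := by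
    simp only [List.nodup_cons, List.mem_cons, List.not_mem_nil, or_false, not_or,
      List.nodup_nil, and_true] at h
    obtain ⟨⟨h1, h2, h3⟩, ⟨h4, h5⟩, h6⟩ := h
    intro i j hij
    fin_cases i <;> fin_cases j <;> simp_all

/-- `M24` is 4-fold transitive on the 24 points. -/
theorem m24_four_trans {a b c d a' b' c' d' : GolayPt} (h : [a, b, c, d].Nodup)
    (h' : [a', b', c', d'].Nodup) :
    ∃ g ∈ M24, g a = a' ∧ g b = b' ∧ g c = c' ∧ g d = d' := by
  have := Cfsg.Agent.S0366.result
  have : MulAction.IsMultiplyPretransitive M24 GolayPt 4 :=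
    MulAction.isMultiplyPretransitive_of_le (n := 5) (by norm_num) (by rw [card_golayPt]; norm_num)
  obtain ⟨g, hg⟩ := MulAction.exists_smul_eq (M := M24) (emb4 a b c d h) (emb4 a' b' c' d' h')
  refine ⟨g.1, g.2, ?_, ?_, ?_, ?_⟩
  · exact congrFun (congrArg DFunLike.coe hg) 0
  · exact congrFun (congrArg DFunLike.coe hg) 1
  · exact congrFun (congrArg DFunLike.coe hg) 2
  · exact congrFun (congrArg DFunLike.coe hg) 3

end Cfsg.Agent.Lib.Helper36
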