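import Mathlib

/-!
# K-PG2 leaf F3240 (S3452): a finite group with a non-trivial solvable normal subgroup and the spectrum
`{1,2,3,4,5,8,10}` of `PGL₂(9)`: the Frobenius group `3⁴ : (5 : 8)`.
-/

set_option autoImplicit false

namespace Cfsg.Agent.Lib.Helper36.PG2

open Matrix

section Gen
variable {N C : Type*} [CommGroup N] [Group C] (φ : C →* MulAut N)

theorem f3240_sdp_fixed (h : N ⋊[φ] C) (m : ℕ) (hm : h.right ^ m = 1) :
    ∃ w : N, h ^ m = SemidirectProduct.inl w ∧ φ h.right w = w := by
  have hr : (h ^ m).right = 1 := by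
    rw [← SemidirectProduct.rightHom_eq_right, map_pow, SemidirectProduct.rightHom_eq_right, hm]
  refine ⟨(h ^ m).left, ?_, ?_⟩
  · ext
    · simp
    · simp [hr]
  · have hc : h * h ^ m = h ^ m * h := (Commute.refl h).pow_right m
    have h1 := congrArg SemidirectProduct.left hc
    simp only [SemidirectProduct.mul_left, hr, map_one, MulAut.one_apply] at h1
    have h2 : h.left * φ h.right (h ^ m).left = h.left * (h ^ m).left := by
      rw [h1, mul_comm]
    exact mul_left_cancel h2

theorem f3240_orderOf_eq (hfpf : ∀ c : C, c ≠ 1 → ∀ w : N, φ c w = w → w = 1)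
    (h : N ⋊[φ] C) (hr : h.right ≠ 1) : orderOf h = orderOf h.right := by
  apply Nat.dvd_antisymm
  · obtain ⟨w, hw, hfix⟩ := f3240_sdp_fixed φ h (orderOf h.right) (pow_orderOf_eq_one _)
    have h1 : w = 1 := hfpf _ hr w hfix
    apply orderOf_dvd_of_pow_eq_one
    rw [hw, h1, map_one]
  · exact orderOf_map_dvd (SemidirectProduct.rightHom : N ⋊[φ] C →* C) h

theorem f3240_spectrum (hfpf : ∀ c : C, c ≠ 1 → ∀ w : N, φ c w = w → w = 1)
    (h3 : ∀ w : N, w ^ 3 = 1) (w0 : N) (hw0 : w0 ≠ 1) :
    Set.range (orderOf : N ⋊[φ] C → ℕ) = {1, 3} ∪ Set.range (orderOf : C → ℕ) := by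
  ext n
  constructor
  · rintro ⟨h, rfl⟩
    by_cases hr : h.right = 1
    · left
      have hh : h = SemidirectProduct.inl h.left := by
        ext
        · simp
        · simp [hr]
      have h1 : orderOf h ∣ 3 := by
        apply orderOf_dvd_of_pow_eq_one
        rw [hh, ← map_pow, h3, map_one]
      rcases (Nat.dvd_prime Nat.prime_three).1 h1 with h2 | h2
      · exact Or.inl h2
      · exact Or.inr h2
    · right
      exact ⟨h.right, (f3240_orderOf_eq φ hfpf h hr).symm⟩
  · rintro (h1 | ⟨c, rfl⟩)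
    · rcases h1 with rfl | rfl
      · exact ⟨1, orderOf_one⟩
      · refine ⟨SemidirectProduct.inl w0, ?_⟩
        have : Fact (Nat.Prime 3) := ⟨Nat.prime_three⟩
        apply orderOf_eq_prime
        · rw [← map_pow, h3, map_one]
        · intro h
          apply hw0
          have := congrArg SemidirectProduct.left h
          simpa using this
    · exact ⟨SemidirectProduct.inr c,
        orderOf_injective (SemidirectProduct.inr : C →* N ⋊[φ] C) SemidirectProduct.inr_injective c⟩

/-- the homomorphism from `Z_n` with `1 ↦ a`, for `a ^ n = 1` -/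
def f3240PowHom {M : Type*} [Monoid M] (n : ℕ) [NeZero n] (a : M) (ha : a ^ n = 1) :
    Multiplicative (ZMod n) →* M where
  toFun x := a ^ (Multiplicative.toAdd x).val
  map_one' := by simp
  map_mul' x y := by
    rw [toAdd_mul, ZMod.val_add, ← pow_add]
    exact (pow_eq_pow_mod _ ha).symm

theorem f3240_conj_pow {H : Type*} [Group H] (α β : H) (h : β * α * β⁻¹ = α ^ 3) (i k : ℕ) :
    β ^ k * α ^ i * (β ^ k)⁻¹ = (α ^ i) ^ (3 ^ k) := by
  induction k with
  | zero => simp
  | succ k ih =>
    have h1 : β ^ (k + 1) * α ^ i * (β ^ (k + 1))⁻¹ = β * (β ^ k * α ^ i * (β ^ k)⁻¹) * β⁻¹ := by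
      rw [pow_succ']; group
    rw [h1, ih, ← conj_pow, ← conj_pow, h, ← pow_mul, ← pow_mul, ← pow_mul]
    congr 1
    ring

end Gen

/-! ### the concrete data -/

abbrev F3240V : Type := Fin 4 → ZMod 3
abbrev F3240M : Type := Matrix (Fin 4) (Fin 4) (ZMod 3)
abbrev F3240N : Type := Multiplicative F3240V

def f3240A : F3240M := !![2, 2, 0, 1; 1, 0, 2, 2; 0, 1, 0, 2; 2, 0, 1, 0]
def f3240B : F3240M := !![0, 1, 2, 1; 1, 2, 1, 2; 0, 0, 0, 1; 0, 0, 1, 1]
def f3240Ai : F3240M := !![2, 0, 2, 0; 0, 2, 1, 2; 2, 0, 2, 1; 0, 2, 0, 2]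
def f3240Bi : F3240M := !![1, 1, 0, 0; 1, 0, 1, 1; 0, 0, 2, 1; 0, 0, 1, 0]

theorem f3240_A_Ai : f3240A * f3240Ai = 1 := by decide +kernel
theorem f3240_Ai_A : f3240Ai * f3240A = 1 := by decide +kernel
theorem f3240_B_Bi : f3240B * f3240Bi = 1 := by decide +kernel
theorem f3240_Bi_B : f3240Bi * f3240B = 1 := by decide +kernel
theorem f3240_A_pow : f3240A ^ 5 = 1 := by decide +kernel
theorem f3240_B_pow : f3240B ^ 8 = 1 := by decide +kernel
theorem f3240_B_pow4 : f3240B ^ 4 = -1 := by decide +kernel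
theorem f3240_BA : f3240B * f3240A = f3240A ^ 3 * f3240B := by decide +kernel
theorem f3240_A_sum : ∀ i : Fin 5, i ≠ 0 →
    1 + f3240A ^ (i : ℕ) + (f3240A ^ (i : ℕ)) ^ 2 + (f3240A ^ (i : ℕ)) ^ 3 + (f3240A ^ (i : ℕ)) ^ 4 = 0 := by
  decide +kernel

def f3240a : F3240Mˣ := ⟨f3240A, f3240Ai, f3240_A_Ai, f3240_Ai_A⟩
def f3240b : F3240Mˣ := ⟨f3240B, f3240Bi, f3240_B_Bi, f3240_Bi_B⟩

theorem f3240_a_pow : f3240a ^ 5 = 1 := by
  ext1
  rw [Units.val_pow_eq_pow_val, Units.val_one]
  exact f3240_A_pow

theorem f3240_b_pow : f3240b ^ 8 = 1 := by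
  ext1
  rw [Units.val_pow_eq_pow_val, Units.val_one]
  exact f3240_B_pow

theorem f3240_b_pow4 : f3240b ^ 4 = -1 := by
  ext1
  rw [Units.val_pow_eq_pow_val, Units.val_neg, Units.val_one]
  exact f3240_B_pow4

theorem f3240_ba : f3240b * f3240a * f3240b⁻¹ = f3240a ^ 3 := by
  rw [mul_inv_eq_iff_eq_mul]
  ext1
  rw [Units.val_mul, Units.val_mul, Units.val_pow_eq_pow_val]
  exact f3240_BA

/-- the natural action of `GL₄(3)` on the (multiplicative copy of the) column space -/
def f3240Rho : F3240Mˣ →* MulAut F3240N where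
  toFun g := AddEquiv.toMultiplicative
    { toFun := fun v => g.1 *ᵥ v
      invFun := fun v => g⁻¹.1 *ᵥ v
      left_inv := fun v => by simp [Matrix.mulVec_mulVec]
      right_inv := fun v => by simp [Matrix.mulVec_mulVec]
      map_add' := fun v w => Matrix.mulVec_add _ v w }
  map_one' := by
    ext w
    simp
  map_mul' g h := by
    ext w
    simp [Matrix.mulVec_mulVec]

theorem f3240Rho_apply (g : F3240Mˣ) (w : F3240N) :
    f3240Rho g w = Multiplicative.ofAdd (g.1 *ᵥ Multiplicative.toAdd w) := rfl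

/-! ### the complement `5 : 8` -/

/-- cubing on `Z₅` -/
def f3240Sigma : MulAut (Multiplicative (ZMod 5)) where
  toFun x := x ^ 3
  invFun x := x ^ 2
  left_inv := by
    intro x
    revert x
    decide
  right_inv := by
    intro x
    revert x
    decide
  map_mul' x y := mul_pow x y 3

theorem f3240Sigma_pow_apply (k : ℕ) (x : Multiplicative (ZMod 5)) :
    (f3240Sigma ^ k) x = x ^ (3 ^ k) := by
  induction k generalizing x with
  | zero => simp
  | succ k ih =>
    rw [pow_succ, MulAut.mul_apply, ih]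
    show (x ^ 3) ^ (3 ^ k) = _
    rw [← pow_mul, pow_succ, mul_comm]

theorem f3240_x5 : ∀ x : Multiplicative (ZMod 5), x ^ 5 = 1 := by decide

theorem f3240Sigma_pow : f3240Sigma ^ 8 = 1 := by
  ext x
  rw [f3240Sigma_pow_apply, pow_eq_pow_mod _ (f3240_x5 x)]
  norm_num

def f3240Psi : Multiplicative (ZMod 8) →* MulAut (Multiplicative (ZMod 5)) :=
  f3240PowHom 8 f3240Sigma f3240Sigma_pow

abbrev F3240C : Type := Multiplicative (ZMod 5) ⋊[f3240Psi] Multiplicative (ZMod 8)

def f3240z : F3240C := ⟨1, Multiplicative.ofAdd 4⟩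

theorem f3240_C_exp : ∀ (x : Multiplicative (ZMod 5)) (y : Multiplicative (ZMod 8)),
    (⟨x, y⟩ : F3240C) ^ 8 = 1 ∨ (⟨x, y⟩ : F3240C) ^ 10 = 1 := by
  decide +kernel

theorem f3240_C_pow_z : ∀ (x : Multiplicative (ZMod 5)) (y : Multiplicative (ZMod 8)), y ≠ 1 →
    ∃ k : Fin 6, (⟨x, y⟩ : F3240C) ^ (k : ℕ) = f3240z := by
  decide +kernel

/-! ### the action and the Frobenius group -/

def f3240Phi1 : Multiplicative (ZMod 5) →* MulAut F3240N :=
  f3240PowHom 5 (f3240Rho f3240a) (by rw [← map_pow, f3240_a_pow, map_one])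

def f3240Phi2 : Multiplicative (ZMod 8) →* MulAut F3240N :=
  f3240PowHom 8 (f3240Rho f3240b) (by rw [← map_pow, f3240_b_pow, map_one])

theorem f3240_compat (g : Multiplicative (ZMod 8)) :
    f3240Phi1.comp (f3240Psi g).toMonoidHom =
      (MulAut.conj (f3240Phi2 g)).toMonoidHom.comp f3240Phi1 := by
  refine MonoidHom.ext fun x => ?_
  show f3240Phi1 (f3240Psi g x) = f3240Phi2 g * f3240Phi1 x * (f3240Phi2 g)⁻¹
  have h1 : f3240Psi g x = x ^ (3 ^ (Multiplicative.toAdd g).val) := f3240Sigma_pow_apply _ x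
  rw [h1, map_pow]
  show (f3240Rho f3240a ^ _) ^ _ =
    f3240Rho f3240b ^ _ * f3240Rho f3240a ^ _ * (f3240Rho f3240b ^ _)⁻¹
  rw [f3240_conj_pow]
  rw [← map_inv, ← map_mul, ← map_mul, f3240_ba, map_pow]

def f3240Phi : F3240C →* MulAut F3240N :=
  SemidirectProduct.lift f3240Phi1 f3240Phi2 f3240_compat

abbrev F3240G : Type := F3240N ⋊[f3240Phi] F3240C

theorem f3240_fixed_pow (f : MulAut F3240N) (w : F3240N) (h : f w = w) (k : ℕ) : (f ^ k) w = w := by
  induction k with
  | zero => simp
  | succ k ih => rw [pow_succ, MulAut.mul_apply, h, ih]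

theorem f3240_mulVec_fixed_pow (M : F3240M) (v : F3240V) (h : M *ᵥ v = v) (k : ℕ) :
    (M ^ k) *ᵥ v = v := by
  induction k with
  | zero => simp
  | succ k ih => rw [pow_succ, ← Matrix.mulVec_mulVec, h, ih]

theorem f3240_fpf : ∀ c : F3240C, c ≠ 1 → ∀ w : F3240N, f3240Phi c w = w → w = 1 := by
  intro c hc w hw
  by_cases hy : c.right = 1
  · have hx : c.left ≠ 1 := by
      intro h
      apply hc
      ext
      · simp [h]
      · simp [hy]
    have hc' : c = SemidirectProduct.inl c.left := by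
      ext
      · simp
      · simp [hy]
    have hφ : f3240Phi c = f3240Rho (f3240a ^ (Multiplicative.toAdd c.left).val) := by
      rw [hc']
      show SemidirectProduct.lift f3240Phi1 f3240Phi2 f3240_compat (SemidirectProduct.inl c.left) = _
      rw [SemidirectProduct.lift_inl, map_pow]
      rfl
    set i := (Multiplicative.toAdd c.left).val with hi
    have hi0 : i ≠ 0 := by
      intro h0
      apply hx
      have : Multiplicative.toAdd c.left = 0 := (ZMod.val_eq_zero _).1 (hi ▸ h0)
      exact this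
    have hi5 : i < 5 := ZMod.val_lt _
    have hsum := f3240_A_sum ⟨i, hi5⟩ (by
      intro h
      apply hi0
      exact congrArg Fin.val h)
    simp only at hsum
    rw [hφ, f3240Rho_apply] at hw
    have hv : (f3240A ^ i) *ᵥ (Multiplicative.toAdd w) = Multiplicative.toAdd w := by
      have := congrArg Multiplicative.toAdd hw
      rw [toAdd_ofAdd, Units.val_pow_eq_pow_val] at this
      exact this
    have h5 : (1 + f3240A ^ i + (f3240A ^ i) ^ 2 + (f3240A ^ i) ^ 3 + (f3240A ^ i) ^ 4) *ᵥ
        (Multiplicative.toAdd w) = 0 := by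
      rw [hsum, Matrix.zero_mulVec]
    rw [Matrix.add_mulVec, Matrix.add_mulVec, Matrix.add_mulVec, Matrix.add_mulVec, Matrix.one_mulVec,
      f3240_mulVec_fixed_pow _ _ hv, f3240_mulVec_fixed_pow _ _ hv, f3240_mulVec_fixed_pow _ _ hv, hv] at h5
    have h0 : Multiplicative.toAdd w = 0 := by
      funext j
      have hj := congrFun h5 j
      simp only [Pi.add_apply, Pi.zero_apply] at hj
      show (Multiplicative.toAdd w) j = 0
      generalize (Multiplicative.toAdd w) j = t at hj
      revert t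
      decide
    exact h0
  · obtain ⟨k, hk⟩ := f3240_C_pow_z c.left c.right hy
    have hk' : c ^ (k : ℕ) = f3240z := hk
    have h1 : f3240Phi f3240z w = w := by
      rw [← hk', map_pow]
      exact f3240_fixed_pow _ _ hw _
    have hz : f3240z = SemidirectProduct.inr (Multiplicative.ofAdd 4) := rfl
    have h2 : f3240Phi f3240z = f3240Rho (-1) := by
      rw [hz]
      show SemidirectProduct.lift f3240Phi1 f3240Phi2 f3240_compat (SemidirectProduct.inr _) = _
      rw [SemidirectProduct.lift_inr, ← f3240_b_pow4, map_pow]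
      rfl
    rw [h2, f3240Rho_apply] at h1
    have h3 : -(Multiplicative.toAdd w) = Multiplicative.toAdd w := by
      have := congrArg Multiplicative.toAdd h1
      rw [toAdd_ofAdd, Units.val_neg, Units.val_one, Matrix.neg_mulVec, Matrix.one_mulVec] at this
      exact this
    have h0 : Multiplicative.toAdd w = 0 := by
      funext j
      have hj := congrFun h3 j
      simp only [Pi.neg_apply] at hj
      show (Multiplicative.toAdd w) j = 0
      generalize (Multiplicative.toAdd w) j = t at hj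
      revert t
      decide
    exact h0

instance f3240_finite_C : Finite F3240C := Finite.of_equiv _ SemidirectProduct.equivProd.symm

instance f3240_finite_G : Finite F3240G := Finite.of_equiv _ SemidirectProduct.equivProd.symm

theorem f3240_N_exp (w : F3240N) : w ^ 3 = 1 := by
  show Multiplicative.ofAdd ((3 : ℕ) • Multiplicative.toAdd w) = Multiplicative.ofAdd 0
  congr 1
  funext j
  show (3 : ℕ) • (Multiplicative.toAdd w) j = 0
  generalize (Multiplicative.toAdd w) j = t
  revert t
  decide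

theorem f3240_order (c : F3240C) (n : ℕ) (hn : 0 < n) (h1 : c ^ n = 1)
    (h2 : ∀ m, m < n → 0 < m → c ^ m ≠ 1) : orderOf c = n :=
  (orderOf_eq_iff hn).2 ⟨h1, h2⟩

theorem f3240_spectrum_C : Set.range (orderOf : F3240C → ℕ) = {1, 2, 4, 5, 8, 10} := by
  ext n
  constructor
  · rintro ⟨c, rfl⟩
    rcases f3240_C_exp c.left c.right with h | h
    · have h' : c ^ 8 = 1 := h
      have hd : orderOf c ∣ 8 := orderOf_dvd_of_pow_eq_one h'
      have hle : orderOf c ≤ 8 := Nat.le_of_dvd (by norm_num) hd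
      have hpos : 0 < orderOf c := Nat.pos_of_dvd_of_pos hd (by norm_num)
      simp only [Set.mem_insert_iff, Set.mem_singleton_iff]
      interval_cases (orderOf c) <;> omega
    · have h' : c ^ 10 = 1 := h
      have hd : orderOf c ∣ 10 := orderOf_dvd_of_pow_eq_one h'
      have hle : orderOf c ≤ 10 := Nat.le_of_dvd (by norm_num) hd
      have hpos : 0 < orderOf c := Nat.pos_of_dvd_of_pos hd (by norm_num)
      simp only [Set.mem_insert_iff, Set.mem_singleton_iff]
      interval_cases (orderOf c) <;> omega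
  · simp only [Set.mem_insert_iff, Set.mem_singleton_iff]
    rintro (rfl | rfl | rfl | rfl | rfl | rfl)
    · exact ⟨1, orderOf_one⟩
    · exact ⟨f3240z, f3240_order _ 2 (by norm_num) (by decide +kernel) (by decide +kernel)⟩
    · exact ⟨⟨1, Multiplicative.ofAdd 2⟩,
        f3240_order _ 4 (by norm_num) (by decide +kernel) (by decide +kernel)⟩
    · exact ⟨⟨Multiplicative.ofAdd 1, 1⟩,
        f3240_order _ 5 (by norm_num) (by decide +kernel) (by decide +kernel)⟩
    · exact ⟨⟨1, Multiplicative.ofAdd 1⟩,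
        f3240_order _ 8 (by norm_num) (by decide +kernel) (by decide +kernel)⟩
    · exact ⟨⟨Multiplicative.ofAdd 1, Multiplicative.ofAdd 4⟩,
        f3240_order _ 10 (by norm_num) (by decide +kernel) (by decide +kernel)⟩

theorem exists_spec_pgl29 : ∃ (G : Type) (_ : Group G) (_ : Finite G) (K : Subgroup G),
    K.Normal ∧ K ≠ ⊥ ∧ Group.IsSolvable ↥K ∧ Set.range (orderOf : G → ℕ) = {1, 2, 3, 4, 5, 8, 10} := by
  let w0 : F3240N := Multiplicative.ofAdd (fun _ => 1)
  have hw0 : w0 ≠ 1 := by
    intro h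
    have h1 : (fun _ => 1 : F3240V) 0 = (0 : F3240V) 0 := congrFun (congrArg Multiplicative.toAdd h) 0
    revert h1
    decide
  refine ⟨F3240G, inferInstance, inferInstance,
    (SemidirectProduct.inl : F3240N →* F3240G).range, ?_, ?_, ?_, ?_⟩
  · rw [SemidirectProduct.range_inl_eq_ker_rightHom]
    infer_instance
  · intro h
    have h1 : (SemidirectProduct.inl w0 : F3240G) ∈ (SemidirectProduct.inl : F3240N →* F3240G).range :=
      ⟨w0, rfl⟩
    rw [h, Subgroup.mem_bot] at h1
    apply hw0
    have := congrArg SemidirectProduct.left h1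
    simpa using this
  · exact Group.isSolvable_of_surjective
      (SemidirectProduct.inl : F3240N →* F3240G).rangeRestrict_surjective
  · rw [f3240_spectrum f3240Phi f3240_fpf f3240_N_exp w0 hw0, f3240_spectrum_C]
    ext n
    simp only [Set.mem_union, Set.mem_insert_iff, Set.mem_singleton_iff]
    tauto

end Cfsg.Agent.Lib.Helper36.PG2
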