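import Cfsg.Agent.Lib.Helper36.M24Tools

/-!
Two-element subsets of the 24 points as bit masks: enumeration and counting.
-/

set_option autoImplicit false

namespace Cfsg.Agent.Lib.Helper36

open Cfsg
open Cfsg.Agent.Lib.Helper10 (idx pt idx_pt idx_lt idx_injective)
open Cfsg.Agent.Lib.Helper35
open scoped Pointwise

theorem gmask_singleton (x : GolayPt) : gmask {x} = 2 ^ idx x := by
  simp [gmask, maskOf]

theorem gmask_pair (x y : GolayPt) : gmask {x, y} = 2 ^ idx x ||| 2 ^ idx y := by
  have h : ({x, y} : Finset GolayPt) = {x} ∪ {y} := by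
    ext z; simp
  rw [h, gmask, maskOf_union]
  exact congrArg₂ (· ||| ·) (gmask_singleton x) (gmask_singleton y)

theorem gmask_union (s t : Finset GolayPt) : gmask (s ∪ t) = gmask s ||| gmask t :=
  maskOf_union idx s t

theorem subset_iff_gmask (s t : Finset GolayPt) : s ⊆ t ↔ gmask s &&& gmask t = gmask s :=
  maskOf_subset_iff idx_injective s t

theorem disjoint_iff_gmask (s t : Finset GolayPt) : Disjoint s t ↔ gmask s &&& gmask t = 0 :=
  maskOf_disjoint_iff idx_injective s t

/-- The masks of all two-element subsets. -/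
def pairList : List ℕ :=
  (List.range 24).flatMap fun i => (List.range i).map fun j => 2 ^ j ||| 2 ^ i

theorem mem_pairList {i j : ℕ} (hji : j < i) (hi : i < 24) : 2 ^ j ||| 2 ^ i ∈ pairList := by
  unfold pairList
  rw [List.mem_flatMap]
  exact ⟨i, List.mem_range.mpr hi, List.mem_map.mpr ⟨j, List.mem_range.mpr hji, rfl⟩⟩

theorem pairList_nodup : pairList.Nodup := by decide +kernel

theorem pairList_all : pairList.all (fun m => popc 24 m == 2 && decide (m < 2 ^ 24)) = true := by
  decide +kernel

theorem pairList_spec {m : ℕ} (hm : m ∈ pairList) : popc 24 m = 2 ∧ m < 2 ^ 24 := by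
  have h := List.all_eq_true.mp pairList_all m hm
  simp only [Bool.and_eq_true, beq_iff_eq, decide_eq_true_eq] at h
  exact h

theorem gmask_mem_pairList {t : Finset GolayPt} (ht : t.card = 2) : gmask t ∈ pairList := by
  obtain ⟨x, y, hxy, rfl⟩ := Finset.card_eq_two.mp ht
  rw [gmask_pair]
  rcases lt_or_gt_of_ne (idx_injective.ne hxy) with h | h
  · exact mem_pairList h (idx_lt y)
  · rw [Nat.lor_comm]
    exact mem_pairList h (idx_lt x)

theorem card_two_iff (t : Finset GolayPt) : t.card = 2 ↔ ∃ m ∈ pairList, t = setOfMask m := by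
  constructor
  · intro h
    exact ⟨gmask t, gmask_mem_pairList h, (setOfMask_gmask t).symm⟩
  · rintro ⟨m, hm, rfl⟩
    obtain ⟨h1, h2⟩ := pairList_spec hm
    rw [card_eq_popc_gmask, gmask_setOfMask h2, h1]

/-- Counting two-element subsets satisfying a Boolean test on masks. -/
theorem count_pairs (f : ℕ → Bool) :
    {t : Finset GolayPt | t.card = 2 ∧ f (gmask t) = true}.ncard = (pairList.filter f).length := by
  have hinj : ∀ a ∈ pairList, ∀ b ∈ pairList, setOfMask a = setOfMask b → a = b := by
    intro a ha b hb h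
    rw [← gmask_setOfMask (pairList_spec ha).2, ← gmask_setOfMask (pairList_spec hb).2, h]
  have h := ncard_image_list pairList pairList_nodup setOfMask hinj (fun s => f (gmask s) = true)
  have hfilt : pairList.filter (fun a => decide (f (gmask (setOfMask a)) = true)) =
      pairList.filter f := by
    apply List.filter_congr
    intro k hk
    rw [gmask_setOfMask (pairList_spec hk).2]
    simp
  have hset : {t : Finset GolayPt | t.card = 2 ∧ f (gmask t) = true} =
      {b | (∃ a ∈ pairList, b = setOfMask a) ∧ f (gmask b) = true} := by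
    ext s
    simp only [Set.mem_ofPred_eq]
    rw [card_two_iff]
  rw [hset, h, hfilt]

/-- A Boolean test valid on all pair masks holds for every two-element subset. -/
theorem forall_pairs (f : ℕ → Bool) (h : pairList.all f = true) {t : Finset GolayPt}
    (ht : t.card = 2) : f (gmask t) = true :=
  List.all_eq_true.mp h _ (gmask_mem_pairList ht)

/-! ### Transport of further notions along permutations -/

theorem disjoint_smul_iff (a : Equiv.Perm GolayPt) (s t : Finset GolayPt) :
    Disjoint (a • s) (a • t) ↔ Disjoint s t := by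
  rw [Finset.disjoint_iff_inter_eq_empty, Finset.disjoint_iff_inter_eq_empty,
    ← Finset.smul_finset_inter, Finset.smul_finset_eq_empty]

theorem subset_smul_iff (a : Equiv.Perm GolayPt) (s t : Finset GolayPt) :
    a • s ⊆ a • t ↔ s ⊆ t := Finset.smul_finset_subset_smul_finset_iff

theorem exists_octad_smul {a : Equiv.Perm GolayPt} (ha : a ∈ M24) (P : Finset GolayPt → Prop) :
    (∃ o ∈ octads, P o) ↔ ∃ o ∈ octads, P (a • o) := by
  constructor
  · rintro ⟨o, ho, hP⟩
    refine ⟨a⁻¹ • o, smul_mem_octads (M24.inv_mem ha) ho, ?_⟩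
    rwa [smul_inv_smul]
  · rintro ⟨o, ho, hP⟩
    exact ⟨a • o, smul_mem_octads ha ho, hP⟩

end Cfsg.Agent.Lib.Helper36
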