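import Cfsg.Agent.Lib.Helper36.SetSetTrans
import Cfsg.Agent.Lib.Helper95.M12Hexad
import Cfsg.Agent.S1596

set_option autoImplicit false
open scoped Pointwise

namespace Cfsg.Agent.Lib.Helper36

open Cfsg
open Cfsg.Agent.Lib.Helper10 (idx pt idx_pt idx_lt idx_injective enc enc_mod enc_lt pt_idx)
open Cfsg.Agent.Lib.Helper35
open Cfsg.Agent.Lib.Helper95 (five_trans_dodecad hexad_eq_of_inter)

theorem smul_mem_hexadsOn' {d C : Finset GolayPt} {σ : Equiv.Perm GolayPt} (hσ : σ ∈ M24)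
    (hC : C ∈ hexadsOn d) : σ • C ∈ hexadsOn (σ • d) := by
  obtain ⟨h6, o, ho, rfl⟩ := hC
  refine ⟨by rw [Finset.card_smul_finset]; exact h6, σ • o, smul_mem_octads hσ ho, ?_⟩
  rw [Finset.smul_finset_inter]

theorem smul_mem_quartets {d : Finset GolayPt} {Q : Finset (Finset GolayPt)}
    {σ : Equiv.Perm GolayPt} (hσ : σ ∈ M24) (hQ : Q ∈ quartets d) : σ • Q ∈ quartets (σ • d) := by
  obtain ⟨h4, htri, hun⟩ := hQ
  refine ⟨by rw [Finset.card_smul_finset, h4], ?_, ?_⟩
  · intro t ht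
    obtain ⟨t', ht', rfl⟩ := Finset.mem_smul_finset.mp ht
    refine ⟨by rw [Finset.card_smul_finset]; exact (htri t' ht').1, ?_⟩
    exact Finset.smul_finset_subset_smul_finset (htri t' ht').2
  · intro t ht u hu hne
    obtain ⟨t', ht', rfl⟩ := Finset.mem_smul_finset.mp ht
    obtain ⟨u', hu', rfl⟩ := Finset.mem_smul_finset.mp hu
    rw [← Finset.smul_finset_union]
    exact smul_mem_hexadsOn' hσ (hun t' ht' u' hu' (fun e => hne (by rw [e])))

theorem smul_triple (g : Equiv.Perm GolayPt) (a b c : GolayPt) :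
    g • ({a, b, c} : Finset GolayPt) = {g a, g b, g c} := by
  rw [Finset.smul_finset_insert, Finset.smul_finset_insert, Finset.smul_finset_singleton]
  rfl

/-- The stabiliser of a dodecad is transitive on its quartets. -/
theorem quartet_trans {d : Finset GolayPt} (hd : d ∈ dodecads) {Q Q' : Finset (Finset GolayPt)}
    (hQ : Q ∈ quartets d) (hQ' : Q' ∈ quartets d) : ∃ g ∈ M24, g • d = d ∧ g • Q = Q' := by
  obtain ⟨hc, htri, hun⟩ := hQ
  obtain ⟨hc', htri', hun'⟩ := hQ'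
  obtain ⟨t, ht, u, hu, htu⟩ := Finset.one_lt_card.mp (by omega : 1 < Q.card)
  obtain ⟨t', ht', u', hu', htu'⟩ := Finset.one_lt_card.mp (by omega : 1 < Q'.card)
  have hdis : Disjoint t u :=
    Cfsg.Agent.S1596.card_union_six (htri t ht).1 (htri u hu).1 (hun t ht u hu htu).1
  have hdis' : Disjoint t' u' :=
    Cfsg.Agent.S1596.card_union_six (htri' t' ht').1 (htri' u' hu').1 (hun' t' ht' u' hu' htu').1
  have hT := htri t ht
  have hU := htri u hu
  have hT' := htri' t' ht'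
  have hU' := htri' u' hu'
  have hH := hun t ht u hu htu
  have hH' := hun' t' ht' u' hu' htu'
  obtain ⟨a, b, c, hab, hac, hbc, rfl⟩ := Finset.card_eq_three.mp hT.1
  obtain ⟨x, y, z, hxy, hxz, hyz, rfl⟩ := Finset.card_eq_three.mp hU.1
  obtain ⟨a', b', c', hab', hac', hbc', rfl⟩ := Finset.card_eq_three.mp hT'.1
  obtain ⟨x', y', z', hxy', hxz', hyz', rfl⟩ := Finset.card_eq_three.mp hU'.1
  -- distinctness across the two triples
  have hd1 : ∀ p ∈ ({a, b, c} : Finset GolayPt), ∀ q ∈ ({x, y, z} : Finset GolayPt), p ≠ q :=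
    fun p hp q hq e => Finset.disjoint_left.mp hdis hp (e ▸ hq)
  have hd1' : ∀ p ∈ ({a', b', c'} : Finset GolayPt), ∀ q ∈ ({x', y', z'} : Finset GolayPt), p ≠ q :=
    fun p hp q hq e => Finset.disjoint_left.mp hdis' hp (e ▸ hq)
  have nd : [a, b, c, x, y].Nodup := by
    have := hd1 a (by simp) x (by simp)
    have := hd1 a (by simp) y (by simp)
    have := hd1 b (by simp) x (by simp)
    have := hd1 b (by simp) y (by simp)
    have := hd1 c (by simp) x (by simp)
    have := hd1 c (by simp) y (by simp)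
    simp only [List.nodup_cons, List.mem_cons, List.not_mem_nil, or_false, not_or,
      List.nodup_nil, and_true]
    tauto
  have nd' : [a', b', c', x', y'].Nodup := by
    have := hd1' a' (by simp) x' (by simp)
    have := hd1' a' (by simp) y' (by simp)
    have := hd1' b' (by simp) x' (by simp)
    have := hd1' b' (by simp) y' (by simp)
    have := hd1' c' (by simp) x' (by simp)
    have := hd1' c' (by simp) y' (by simp)
    simp only [List.nodup_cons, List.mem_cons, List.not_mem_nil, or_false, not_or,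
      List.nodup_nil, and_true]
    tauto
  let e : Fin 5 ↪ GolayPt := ⟨[a, b, c, x, y].get, List.nodup_iff_injective_get.mp nd⟩
  let e' : Fin 5 ↪ GolayPt := ⟨[a', b', c', x', y'].get, List.nodup_iff_injective_get.mp nd'⟩
  have he : ∀ i, e i ∈ d := by
    intro i
    fin_cases i
    · show a ∈ d
      exact hT.2 (by simp)
    · show b ∈ d
      exact hT.2 (by simp)
    · show c ∈ d
      exact hT.2 (by simp)
    · show x ∈ d
      exact hU.2 (by simp)
    · show y ∈ d
      exact hU.2 (by simp)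
  have he' : ∀ i, e' i ∈ d := by
    intro i
    fin_cases i
    · show a' ∈ d
      exact hT'.2 (by simp)
    · show b' ∈ d
      exact hT'.2 (by simp)
    · show c' ∈ d
      exact hT'.2 (by simp)
    · show x' ∈ d
      exact hU'.2 (by simp)
    · show y' ∈ d
      exact hU'.2 (by simp)
  obtain ⟨g, hg, hgd, hge⟩ := five_trans_dodecad hd e e' he he'
  have ga : g a = a' := hge 0
  have gb : g b = b' := hge 1
  have gc : g c = c' := hge 2
  have gx : g x = x' := hge 3
  have gy : g y = y' := hge 4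
  -- the image hexad
  have hHg : g • (({a, b, c} : Finset GolayPt) ∪ {x, y, z}) ∈ hexadsOn d := by
    have := smul_mem_hexadsOn' hg hH
    rwa [hgd] at this
  have heq : g • (({a, b, c} : Finset GolayPt) ∪ {x, y, z}) =
      ({a', b', c'} : Finset GolayPt) ∪ {x', y', z'} := by
    apply hexad_eq_of_inter hHg hH'
    have hsub : ({a', b', c', x', y'} : Finset GolayPt) ⊆
        g • (({a, b, c} : Finset GolayPt) ∪ {x, y, z}) ∩ (({a', b', c'} : Finset GolayPt) ∪ {x', y', z'}) := by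
      intro p hp
      simp only [Finset.mem_insert, Finset.mem_singleton] at hp
      rw [Finset.mem_inter]
      constructor
      · rcases hp with rfl | rfl | rfl | rfl | rfl
        · rw [← ga]; exact Finset.smul_mem_smul_finset (by simp)
        · rw [← gb]; exact Finset.smul_mem_smul_finset (by simp)
        · rw [← gc]; exact Finset.smul_mem_smul_finset (by simp)
        · rw [← gx]; exact Finset.smul_mem_smul_finset (by simp)
        · rw [← gy]; exact Finset.smul_mem_smul_finset (by simp)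
      · rcases hp with rfl | rfl | rfl | rfl | rfl <;> simp
    have h5 : ({a', b', c', x', y'} : Finset GolayPt).card = 5 := by
      have : ({a', b', c', x', y'} : Finset GolayPt) = [a', b', c', x', y'].toFinset := by
        ext p; simp
      rw [this, List.toFinset_card_of_nodup nd']
      rfl
    calc 5 = ({a', b', c', x', y'} : Finset GolayPt).card := h5.symm
      _ ≤ _ := Finset.card_le_card hsub
  have gz : g z = z' := by
    have hz : g z ∈ ({a', b', c'} : Finset GolayPt) ∪ {x', y', z'} := by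
      rw [← heq]
      exact Finset.smul_mem_smul_finset (by simp)
    have n1 : g z ≠ a' := by rw [← ga]; exact fun h => hd1 a (by simp) z (by simp) (g.injective h).symm
    have n2 : g z ≠ b' := by rw [← gb]; exact fun h => hd1 b (by simp) z (by simp) (g.injective h).symm
    have n3 : g z ≠ c' := by rw [← gc]; exact fun h => hd1 c (by simp) z (by simp) (g.injective h).symm
    have n4 : g z ≠ x' := by rw [← gx]; exact fun h => hxz (g.injective h).symm
    have n5 : g z ≠ y' := by rw [← gy]; exact fun h => hyz (g.injective h).symm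
    simp only [Finset.mem_union, Finset.mem_insert, Finset.mem_singleton] at hz
    tauto
  have gt : g • ({a, b, c} : Finset GolayPt) = {a', b', c'} := by
    rw [smul_triple, ga, gb, gc]
  have gu : g • ({x, y, z} : Finset GolayPt) = {x', y', z'} := by
    rw [smul_triple, gx, gy, gz]
  refine ⟨g, hg, hgd, ?_⟩
  have hgQ : g • Q ∈ quartets d := by
    have := smul_mem_quartets hg (show Q ∈ quartets d from ⟨hc, htri, hun⟩)
    rwa [hgd] at this
  have huniq := Cfsg.Agent.S1596.result d hd _ _ hT'.1 hU'.1 hdis' hH'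
  exact huniq.unique ⟨hgQ, gt ▸ Finset.smul_mem_smul_finset ht, gu ▸ Finset.smul_mem_smul_finset hu⟩
    ⟨⟨hc', htri', hun'⟩, ht', hu'⟩


open Cfsg.Agent.Lib.Helper10 (card_eq_orbit_mul' card_stabilizer_dodecad)

/-! ### Explicit quartets -/

/-- Boolean test: the masks form a quartet of the dodecad with mask `dm`; `wit` lists octads
cutting out the needed hexads. -/
def quartetB (dm : ℕ) (wit l : List ℕ) : Bool :=
  l.length == 4 && l.all (fun m => decide (m < 2 ^ 24) && popc 24 m == 3 && (m &&& dm == m)) &&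
    l.all (fun m => l.all (fun m' => m == m' || (popc 24 (m ||| m') == 6 &&
      wit.any (fun o => decide (o < 2 ^ 24) && octB o && (o &&& dm == m ||| m')))))

theorem gmask_inter (s t : Finset GolayPt) : gmask (s ∩ t) = gmask s &&& gmask t :=
  maskOf_inter idx_injective s t

theorem ofMasks_mem_quartets (dm : ℕ) (hdm : dm < 2 ^ 24) (wit l : List ℕ)
    (h2 : l.Pairwise (· < ·)) (h : quartetB dm wit l = true) :
    ofMasks l ∈ quartets (setOfMask dm) := by
  unfold quartetB at h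
  simp only [Bool.and_eq_true, beq_iff_eq, List.all_eq_true, decide_eq_true_eq,
    Bool.or_eq_true, List.any_eq_true] at h
  obtain ⟨⟨hlen, htri⟩, hun⟩ := h
  have h1 : ∀ m ∈ l, m < 2 ^ 24 := fun m hm => (htri m hm).1.1
  refine ⟨by rw [card_ofMasks l h1 h2, hlen], ?_, ?_⟩
  · intro t ht
    obtain ⟨m, hm, rfl⟩ := (mem_ofMasks _ _).mp ht
    refine ⟨?_, ?_⟩
    · rw [card_eq_popc_gmask, gmask_setOfMask (h1 m hm)]
      exact (htri m hm).1.2
    · rw [subset_iff_gmask, gmask_setOfMask (h1 m hm), gmask_setOfMask hdm]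
      exact (htri m hm).2
  · intro t ht u hu hne
    obtain ⟨m, hm, rfl⟩ := (mem_ofMasks _ _).mp ht
    obtain ⟨m', hm', rfl⟩ := (mem_ofMasks _ _).mp hu
    rcases hun m hm m' hm' with e | ⟨e6, o, _, ⟨ho1, ho2⟩, ho3⟩
    · exact absurd (by rw [e]) hne
    · refine ⟨?_, setOfMask o, setOfMask_mem_octads ho1 ho2, ?_⟩
      · rw [card_eq_popc_gmask, gmask_union, gmask_setOfMask (h1 m hm),
          gmask_setOfMask (h1 m' hm')]
        exact e6
      · apply gmask_injective
        rw [gmask_inter, gmask_union, gmask_setOfMask ho1, gmask_setOfMask hdm,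
          gmask_setOfMask (h1 m hm), gmask_setOfMask (h1 m' hm')]
        exact ho3

theorem JJ_orbK' (w : ℕ → ℕ) (S X : Finset (Finset GolayPt))
    {K : Subgroup (Equiv.Perm GolayPt)} (hK : ∀ g ∈ K, g • S = S) :
    ∀ Y ∈ orbK K X, JJ w S Y = JJ w S X := by
  rintro Y ⟨g, hg, rfl⟩
  calc JJ w S (g • X) = JJ w (g • S) (g • X) := by rw [hK g hg]
    _ = JJ w S X := JJ_smul w g S X

theorem card_ge_step {X : Type*} [MulAction (Equiv.Perm GolayPt) X]
    (K : Subgroup (Equiv.Perm GolayPt)) (b : X) {n m : ℕ}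
    (h1 : n ≤ (orbK K b).ncard)
    (h2 : m ≤ Nat.card ↥(K ⊓ MulAction.stabilizer (Equiv.Perm GolayPt) b)) :
    n * m ≤ Nat.card K := by
  rw [card_eq_orbit_mul' K b (orbK K b) (fun σ hσ => ⟨σ, hσ, rfl⟩) (fun c hc => hc)]
  exact Nat.mul_le_mul h1 h2

/-! ### The base dodecad, its stabiliser and the base quartet -/

/-- The stabiliser of the base dodecad. -/
def K12' : Subgroup (Equiv.Perm GolayPt) := M24 ⊓ MulAction.stabilizer (Equiv.Perm GolayPt) d0
theorem K12'_le : K12' ≤ M24 := inf_le_left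
theorem card_K12' : Nat.card K12' = 95040 := card_stabilizer_dodecad d0_mem_dodecads

/-- Masks of the base quartet. -/
def Q0L : List ℕ := [13, 448, 9728, 18448]
/-- Octads cutting out the hexads of the base quartet. -/
def Q0W : List ℕ := [75309, 84464, 262637, 290352, 337856, 346141]
/-- The base quartet. -/
def Q0 : Finset (Finset GolayPt) := ofMasks Q0L
theorem Q0_enc : encSS Q0 = Q0L := encSS_ofMasks _ (by decide) (by decide)
theorem Q0_mem : Q0 ∈ quartets d0 := ofMasks_mem_quartets d0m (by decide) Q0W _ (by decide) (by decide +kernel)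

/-- Table of a generator. -/
def a1T : List ℕ := [0, 12, 11, 9, 4, 22, 3, 2, 6, 14, 13, 10, 20, 7, 8, 18, 16, 17, 1, 5, 15, 19, 23, 21]
/-- Inverse table. -/
def a1T' : List ℕ := [0, 18, 7, 6, 4, 19, 8, 13, 14, 3, 11, 2, 1, 10, 9, 20, 16, 17, 15, 21, 12, 23, 5, 22]
theorem a1_ok : TblOK a1T a1T' := by decide +kernel
/-- A generator. -/
def a1 : Equiv.Perm GolayPt := tblPerm a1T a1T' a1_ok
theorem a1_mem : a1 ∈ M24 := tblPerm_mem_M24 _ _ _ (by decide +kernel)
theorem a1_fixd : a1 • d0 = d0 := by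
  unfold a1
  apply gmask_injective
  rw [tblPerm_models a1T a1T' a1_ok d0, gmask_d0]
  decide +kernel
theorem a1_memK : a1 ∈ K12' := ⟨a1_mem, a1_fixd⟩

/-- Table of a generator. -/
def a2T : List ℕ := [14, 18, 2, 3, 8, 5, 11, 10, 7, 4, 9, 0, 1, 6, 13, 21, 12, 19, 22, 23, 20, 17, 16, 15]
/-- Inverse table. -/
def a2T' : List ℕ := [11, 12, 2, 3, 9, 5, 13, 8, 4, 10, 7, 6, 16, 14, 0, 23, 22, 21, 1, 17, 20, 15, 18, 19]
theorem a2_ok : TblOK a2T a2T' := by decide +kernel
/-- A generator. -/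
def a2 : Equiv.Perm GolayPt := tblPerm a2T a2T' a2_ok
theorem a2_mem : a2 ∈ M24 := tblPerm_mem_M24 _ _ _ (by decide +kernel)
theorem a2_fixd : a2 • d0 = d0 := by
  unfold a2
  apply gmask_injective
  rw [tblPerm_models a2T a2T' a2_ok d0, gmask_d0]
  decide +kernel
theorem a2_memK : a2 ∈ K12' := ⟨a2_mem, a2_fixd⟩

theorem K12'_models : List.Forall₂ (fun g act => g ∈ K12' ∧ ∀ S : Finset (Finset GolayPt), encSS (g • S) = act (encSS S))
    [a1, a2] [actSS (applyTbl a1T), actSS (applyTbl a2T)] :=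
  List.Forall₂.cons ⟨a1_memK, tblPerm_modelsSS _ _ _⟩ (List.Forall₂.cons ⟨a2_memK, tblPerm_modelsSS _ _ _⟩ (List.Forall₂.nil))
/-- Orbit certificate of the base quartet. (part) -/
def Q0Cert_0 : List (ℕ × List ℕ) := [(0, [76, 1296, 2561, 24704]), (0, [388, 2568, 8272, 17409]), (0, [152, 2116, 8449, 17920]), (0, [193, 532, 3080, 24832]), (1, [276, 521, 8384, 19456]), (0, [140, 2128, 9472, 16897]), (0, [1048, 2564, 8384, 16641]), (0, [140, 321, 8720, 19456]), (0, [73, 2564, 9472, 16528]), (1, [21, 704, 9472, 18440]), (0, [1792, 2065, 8384, 16396]), (0, [140, 1041, 2816, 24640]), (0, [392, 2564, 8209, 17472]), (0, [145, 580, 8456, 19456]), (1, [200, 2068, 8705, 17664]), (0, [524, 3088, 8512, 16513]), (0, [200, 261, 9232, 18944]), (0, [524, 2113, 8336, 17664]), (0, [148, 1033, 8512, 18944]), (1, [1284, 2240, 8209, 16904]), (0, [145, 1036, 10304, 17152]), (0, [21, 1160, 10752, 16704]), (0, [328, 2065, 8708, 17536]), (0, [584, 1041, 8452, 18560]),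 (1, [196, 2072, 9217, 17152]), (0, [1552, 2060, 8321, 16704]), (0, [133, 328, 3584, 24592]), (0, [400, 584, 2053, 25600]), (0, [84, 3073, 8576, 16904]), (1, [1216, 2308, 8216, 16897]), (0, [656, 3136, 8204, 16641]), (0, [321, 2688, 9224, 16404]), (0, [73, 2320, 8832, 17412]), (0, [521, 1104, 10496, 16516]), (1, [193, 2816, 9220, 16408]), (0, [13, 784, 10368, 17472]), (0, [1156, 2561, 8456, 16464]), (0, [280, 704, 10244, 17409]), (0, [592, 3200, 8449, 16396]), (1, [1537, 2320, 8204, 16576]), (0, [268, 1104, 2688, 24577]), (0, [385, 2624, 8216, 17412]), (0, [69, 656, 10496, 17416]), (0, [1216, 2057, 8960, 16404]), (1, [208, 3584, 8452, 16393]), (0, [28, 769, 2240, 25600]), (0, [1036, 2576, 8576, 16449]), (0, [196, 265, 10752, 17424]), (0, [577, 2060, 8464, 17536]), (2, []), (1, [81, 3076, 8960, 16520]), (0, [25, 772, 11264, 16576]), (0, [268, 529, 9344, 18496]), (0, [1288, 2624, 8324, 16401]), (0, [273, 2180, 8768, 17416]), (1, [1029, 2128, 8712,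 16768]), (0, [324, 1048, 10241, 17024]), (0, [1153, 2120, 8720, 16644]), (0, [1544, 2368, 8197, 16528]), (0, [276, 1096, 2177, 25088]), (2, []), (1, [536, 2177, 9472, 16452]), (0, [1029, 2312, 8384, 16912]), (0, [140, 1600, 10241, 16656]), (0, [336, 1153, 2564, 24584]), (0, [88, 896, 8197, 19456]), (1, [1168, 2312, 8705, 16452]), (0, [1600, 2312, 8212, 16513]), (0, [261, 1600, 2192, 24584]), (0, [896, 1044, 2113, 24584]), (0, [896, 1033, 10256, 16452]), (1, [321, 1168, 10244, 16904]), (0, [73, 3200, 8212, 17152]), (0, [521, 2192, 9220, 16704]), (0, [328, 1044, 10368, 16897]), (0, [584, 1156, 10256, 16641]), (1, [321, 1540, 2072, 24704]), (0, [73, 388, 1552, 26624]), (0, [521, 1408, 2116, 24592]), (0, [400, 3080, 8260, 16897]), (0, [84, 2184, 9728, 16641]), (1, [592, 1033, 2308, 24704]), (0, [388, 3136, 8705, 16408]), (0, [784, 2116, 9224, 16513]), (0, [261, 3080, 8832, 16464]), (0, [280, 2113, 9728, 16516]), (1, [392, 592, 9220, 18433]), (0,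 [580, 1281, 10368, 16408]), (0, [784, 1156, 8257, 18440]), (0, [137, 1792, 10244, 16464]), (0, [280, 517, 3200, 24640]), (1, [392, 1537, 10304, 16404]), (0, [580, 1160, 2320, 24577]), (0, [385, 1104, 8708, 18440]), (0, [69, 1792, 8216, 18560]), (0, [656, 1284, 2057, 24640]), (1, [644, 1296, 10304, 16393]), (0, [769, 1160, 8272, 18436]), (0, [152, 3328, 8708, 16449]), (0, [265, 532, 9280, 18560]), (0, [577, 1284, 8328, 18448]), (1, [644, 1096, 8449, 18448]), (0, [193, 1296, 8712, 18436]), (0, [13, 3328, 8272, 17024]), (0, [152, 2561, 9280, 16644]), (0, [532, 2368, 8328, 17409]), (2, []), (2, []), (1, [641, 2368, 9232, 16396]), (0, [1096, 2816, 8336, 16389]), (0, [148, 2305, 8712, 17472]), (0, [1089, 2068, 8456, 17024]), (0, [704, 3088, 8201, 16644]), (1, [769, 3088, 8324, 16456]), (0, [776, 2180, 9232, 16449]), (0, [265, 3076, 8336, 16960]), (0, [148, 577, 11264, 16648]), (0, [832, 2068, 9344, 16393]), (2, []), (2, []), (1, [517, 1344, 10256,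 16520]), (0, [772, 1168, 8264, 18433]), (0, [648, 1281, 8212, 18496]), (0, [1288, 2192, 8257, 16900]), (0, [137, 1044, 8768, 18688]), (1, [772, 2128, 8321, 17416]), (0, [133, 1048, 8960, 18496]), (0, [1288, 2053, 8720, 16576]), (0, [268, 3073, 8768, 16528]), (0, [276, 2624, 9217, 16520]), (1, [388, 2065, 9224, 16960]), (0, [1041, 2116, 8832, 16648]), (0, [832, 3080, 8209, 16516]), (0, [145, 2308, 9728, 16456]), (0, [21, 776, 3136, 24704]), (2, []), (1, [133, 592, 10248, 17664]), (0, [1664, 2053, 8512, 16408]), (0, [200, 784, 3073, 24580]), (0, [524, 2432, 9217, 16464]), (0, [280, 1092, 8321, 18944]), (2, []), (1, [28, 1153, 10496, 16960]), (0, [1216, 2576, 8197, 16648]), (0, [832, 2177, 8204, 17424]), (0, [1029, 2688, 8464, 16456]), (0, [208, 776, 10241, 17412]), (2, []), (1, [448, 1041, 10248, 16900]), (0, [76, 1664, 8209, 18688]), (0, [145, 1344, 2568, 24580]), (0, [21, 2432, 8264, 17920]), (0, [648, 1092, 2065, 24832]), (2, []), (2, []),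 (1, [25, 2688, 8260, 17664]), (0, [529, 2184, 8512, 17412]), (0, [200, 1540, 10496, 16401]), (0, [273, 524, 1216, 26624]), (0, [81, 1408, 8204, 18944]), (2, []), (1, [28, 3584, 8257, 16768]), (0, [137, 324, 2576, 25600]), (0, [517, 2120, 8576, 17424]), (0, [196, 1544, 8464, 18433]), (0, [208, 1281, 2060, 25088]), (2, []), (1, [448, 536, 3076, 24577]), (0, [76, 385, 11264, 16912]), (0, [69, 2568, 9344, 16656]), (0, [336, 2057, 8324, 17920]), (0, [88, 1537, 2180, 24832]), (2, []), (1, [1092, 2432, 8720, 16393]), (0, [769, 1092, 10248, 16528]), (0, [276, 1664, 10248, 16449]), (0, [265, 1664, 2128, 24580]), (0, [577, 1048, 2432, 24580]), (1, [776, 1153, 8260, 18448]), (0, [1296, 2184, 8197, 16960]), (0, [1540, 2177, 8272, 16648]), (0, [152, 832, 1029, 26624]), (0, [532, 1408, 10241, 16456]), (2, []), (2, []), (2, []), (2, []), (2, []), (2, []), (1, [1552, 2305, 8260, 16520]), (0, [772, 1089, 2184, 24592]), (0, [400, 1540, 8201, 18496]), (0, [84,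 641, 1288, 26624]), (0, [1408, 2072, 8768, 16389]), (2, []), (1, [648, 2308, 8257, 17424]), (0, [137, 3136, 8464, 16900]), (0, [208, 517, 9224, 18688]), (0, [28, 1344, 8832, 18433]), (0, [1281, 2576, 8264, 16516])]
/-- Orbit certificate of the base quartet. (part) -/
def Q0Cert_1 : List (ℕ × List ℕ) := [(1, [273, 2120, 9220, 17024]), (0, [81, 1544, 10368, 16644]), (0, [25, 1156, 2368, 25088]), (0, [529, 1096, 10244, 16768]), (0, [324, 3200, 8712, 16401]), (2, []), (2, []), (2, []), (1, [536, 1089, 8324, 18688]), (0, [1344, 2180, 8201, 16912]), (0, [641, 3076, 8264, 16656]), (0, [336, 648, 11264, 16389]), (0, [88, 2305, 9344, 16900]), (2, []), (2, []), (2, []), (2, []), (2, []), (2, []), (1, [580, 2057, 9232, 16768]), (0, [324, 1537, 8336, 18440]), (0, [148, 1792, 2120, 24577]), (0, [385, 1544, 2068, 24640]), (0, [69, 392, 3088, 25088]), (2, []), (1, [261, 536, 10304, 17536]), (0, [1160, 2113, 8452, 16912]), (0, [1033, 2240, 8708, 16656]), (0,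 [336, 1036, 8705, 18560]), (0, [88, 1284, 10752, 16513]), (1, [81, 644, 2312, 25600]), (0, [25, 1600, 8576, 18436]), (0, [196, 529, 3328, 24584]), (0, [896, 2060, 9280, 16401]), (0, [273, 3584, 8328, 16452]), (2, []), (1, [13, 1168, 2624, 24832]), (0, [448, 2561, 8212, 17416]), (0, [76, 2192, 8960, 17409]), (0, [1044, 2568, 8449, 16576]), (0, [193, 268, 10256, 17920]), (2, []), (2, []), (2, []), (2, []), (2, []), (2, []), (2, []), (2, []), (2, []), (2, []), (2, []), (2, []), (2, []), (2, []), (2, []), (2, []), (2, []), (2, []), (2, []), (2, []), (2, []), (1, [584, 3328, 8321, 16404]), (0, [133, 2320, 9280, 16904]), (0, [1104, 2053, 8328, 17152]), (0, [644, 3073, 8216, 16704]), (0, [328, 656, 9217, 18436]), (2, []), (2, []), (2, []), (2, []), (1, [641, 2072, 8452, 17472]), (0, [1552, 2240, 8456, 16389]), (0, [704, 1036, 2305, 24592]), (0, [400, 1089, 10752, 16396]), (0, [84, 2816, 8201, 17536])]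
/-- Orbit certificate of the base quartet. -/
def Q0Cert : List (ℕ × List ℕ) := Q0Cert_0 ++ Q0Cert_1
theorem Q0_lb : 220 ≤ (orbK K12' Q0).ncard := by
  have h := le_ncard_orbK encSS K12'_models Q0 Q0Cert (by rw [Q0_enc]; decide +kernel)
    (hashL 24203) (by rw [Q0_enc]; decide +kernel)
  refine le_trans ?_ h
  rw [Q0_enc]; decide +kernel

/-- The stabiliser of the base dodecad and the base quartet. -/
def KQ : Subgroup (Equiv.Perm GolayPt) := K12' ⊓ MulAction.stabilizer (Equiv.Perm GolayPt) Q0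
theorem KQ_le : KQ ≤ M24 := inf_le_left.trans inf_le_left

/-- Level 0 of the stabiliser chain. -/
def KQ0 : Subgroup (Equiv.Perm GolayPt) := KQ
/-- Table of a generator. -/
def c0g1T : List ℕ := [7, 17, 8, 6, 10, 5, 11, 4, 14, 3, 0, 13, 21, 2, 9, 23, 18, 15, 16, 1, 19, 20, 22, 12]
/-- Inverse table. -/
def c0g1T' : List ℕ := [10, 19, 13, 9, 7, 5, 3, 0, 2, 14, 4, 6, 23, 11, 8, 17, 18, 1, 16, 20, 21, 12, 22, 15]
theorem c0g1_ok : TblOK c0g1T c0g1T' := by decide +kernel
/-- A generator. -/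
def c0g1 : Equiv.Perm GolayPt := tblPerm c0g1T c0g1T' c0g1_ok
theorem c0g1_mem : c0g1 ∈ M24 := tblPerm_mem_M24 _ _ _ (by decide +kernel)
theorem c0g1_fixd : c0g1 • d0 = d0 := by
  unfold c0g1
  apply gmask_injective
  rw [tblPerm_models c0g1T c0g1T' c0g1_ok d0, gmask_d0]
  decide +kernel
theorem c0g1_fixQ : c0g1 • Q0 = Q0 := by
  apply tblPerm_smul_eq_of_code
  rw [Q0_enc]
  decide +kernel
theorem c0g1_memK : c0g1 ∈ KQ0 := ⟨⟨c0g1_mem, c0g1_fixd⟩, c0g1_fixQ⟩

/-- Table of a generator. -/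
def c0g2T : List ℕ := [11, 12, 14, 4, 10, 16, 3, 2, 0, 7, 8, 13, 21, 6, 9, 22, 5, 17, 18, 1, 23, 20, 19, 15]
/-- Inverse table. -/
def c0g2T' : List ℕ := [8, 19, 7, 6, 3, 16, 13, 9, 10, 14, 4, 0, 1, 11, 2, 23, 5, 17, 18, 22, 21, 12, 15, 20]
theorem c0g2_ok : TblOK c0g2T c0g2T' := by decide +kernel
/-- A generator. -/
def c0g2 : Equiv.Perm GolayPt := tblPerm c0g2T c0g2T' c0g2_ok
theorem c0g2_mem : c0g2 ∈ M24 := tblPerm_mem_M24 _ _ _ (by decide +kernel)
theorem c0g2_fixd : c0g2 • d0 = d0 := by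
  unfold c0g2
  apply gmask_injective
  rw [tblPerm_models c0g2T c0g2T' c0g2_ok d0, gmask_d0]
  decide +kernel
theorem c0g2_fixQ : c0g2 • Q0 = Q0 := by
  apply tblPerm_smul_eq_of_code
  rw [Q0_enc]
  decide +kernel
theorem c0g2_memK : c0g2 ∈ KQ0 := ⟨⟨c0g2_mem, c0g2_fixd⟩, c0g2_fixQ⟩

theorem c0_models : List.Forall₂ (fun g act => g ∈ KQ0 ∧ ∀ x : GolayPt, idx (g • x) = act (idx x))
    [c0g1, c0g2] [fun i => c0g1T.getD i 0, fun i => c0g2T.getD i 0] :=
  List.Forall₂.cons ⟨c0g1_memK, fun x => idx_tblPerm c0g1T c0g1T' c0g1_ok x⟩ (List.Forall₂.cons ⟨c0g2_memK, fun x => idx_tblPerm c0g2T c0g2T' c0g2_ok x⟩ (List.Forall₂.nil))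
/-- Orbit certificate at level 0. -/
def c0Cert : List (ℕ × ℕ) := [(0, 7), (0, 4), (0, 10), (1, 8), (0, 14), (0, 9), (0, 3), (0, 6), (0, 11), (0, 13), (0, 2)]
theorem c0_lb : 12 ≤ (orbK KQ0 (pt 0)).ncard := by
  have h := le_ncard_orbK idx c0_models (pt 0) c0Cert (by rw [idx_pt (by norm_num)]; decide +kernel)
    (fun m => m) (by rw [idx_pt (by norm_num)]; decide +kernel)
  refine le_trans ?_ h
  rw [idx_pt (by norm_num)]; decide +kernel

/-- Level 1 of the stabiliser chain. -/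
def KQ1 : Subgroup (Equiv.Perm GolayPt) := KQ0 ⊓ MulAction.stabilizer (Equiv.Perm GolayPt) (pt 0)
/-- Table of a generator. -/
def c1g1T : List ℕ := [0, 22, 3, 2, 6, 16, 14, 11, 4, 13, 9, 8, 1, 10, 7, 20, 5, 21, 18, 15, 23, 19, 12, 17]
/-- Inverse table. -/
def c1g1T' : List ℕ := [0, 12, 3, 2, 8, 16, 4, 14, 11, 10, 13, 7, 22, 9, 6, 19, 5, 23, 18, 21, 15, 17, 1, 20]
theorem c1g1_ok : TblOK c1g1T c1g1T' := by decide +kernel
/-- A generator. -/
def c1g1 : Equiv.Perm GolayPt := tblPerm c1g1T c1g1T' c1g1_ok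
theorem c1g1_mem : c1g1 ∈ M24 := tblPerm_mem_M24 _ _ _ (by decide +kernel)
theorem c1g1_fixd : c1g1 • d0 = d0 := by
  unfold c1g1
  apply gmask_injective
  rw [tblPerm_models c1g1T c1g1T' c1g1_ok d0, gmask_d0]
  decide +kernel
theorem c1g1_fixQ : c1g1 • Q0 = Q0 := by
  apply tblPerm_smul_eq_of_code
  rw [Q0_enc]
  decide +kernel
theorem c1g1_fixp0 : c1g1 • (pt 0) = pt 0 := by
  apply idx_injective
  show idx (tblPerm c1g1T c1g1T' c1g1_ok (pt 0)) = idx (pt 0)
  rw [idx_tblPerm, idx_pt (by norm_num)]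
  decide +kernel
theorem c1g1_memK : c1g1 ∈ KQ1 := ⟨⟨⟨c1g1_mem, c1g1_fixd⟩, c1g1_fixQ⟩, c1g1_fixp0⟩

/-- Table of a generator. -/
def c1g2T : List ℕ := [0, 22, 2, 3, 13, 18, 6, 8, 7, 11, 14, 9, 12, 4, 10, 21, 16, 19, 5, 17, 20, 15, 1, 23]
/-- Inverse table. -/
def c1g2T' : List ℕ := [0, 22, 2, 3, 13, 18, 6, 8, 7, 11, 14, 9, 12, 4, 10, 21, 16, 19, 5, 17, 20, 15, 1, 23]
theorem c1g2_ok : TblOK c1g2T c1g2T' := by decide +kernel
/-- A generator. -/
def c1g2 : Equiv.Perm GolayPt := tblPerm c1g2T c1g2T' c1g2_ok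
theorem c1g2_mem : c1g2 ∈ M24 := tblPerm_mem_M24 _ _ _ (by decide +kernel)
theorem c1g2_fixd : c1g2 • d0 = d0 := by
  unfold c1g2
  apply gmask_injective
  rw [tblPerm_models c1g2T c1g2T' c1g2_ok d0, gmask_d0]
  decide +kernel
theorem c1g2_fixQ : c1g2 • Q0 = Q0 := by
  apply tblPerm_smul_eq_of_code
  rw [Q0_enc]
  decide +kernel
theorem c1g2_fixp0 : c1g2 • (pt 0) = pt 0 := by
  apply idx_injective
  show idx (tblPerm c1g2T c1g2T' c1g2_ok (pt 0)) = idx (pt 0)
  rw [idx_tblPerm, idx_pt (by norm_num)]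
  decide +kernel
theorem c1g2_memK : c1g2 ∈ KQ1 := ⟨⟨⟨c1g2_mem, c1g2_fixd⟩, c1g2_fixQ⟩, c1g2_fixp0⟩

theorem c1_models : List.Forall₂ (fun g act => g ∈ KQ1 ∧ ∀ x : GolayPt, idx (g • x) = act (idx x))
    [c1g1, c1g2] [fun i => c1g1T.getD i 0, fun i => c1g2T.getD i 0] :=
  List.Forall₂.cons ⟨c1g1_memK, fun x => idx_tblPerm c1g1T c1g1T' c1g1_ok x⟩ (List.Forall₂.cons ⟨c1g2_memK, fun x => idx_tblPerm c1g2T c1g2T' c1g2_ok x⟩ (List.Forall₂.nil))
/-- Orbit certificate at level 1. -/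
def c1Cert : List (ℕ × ℕ) := [(0, 6), (0, 14), (0, 7), (0, 11), (0, 8), (2, 0), (1, 9), (0, 13), (0, 10)]
theorem c1_lb : 9 ≤ (orbK KQ1 (pt 4)).ncard := by
  have h := le_ncard_orbK idx c1_models (pt 4) c1Cert (by rw [idx_pt (by norm_num)]; decide +kernel)
    (fun m => m) (by rw [idx_pt (by norm_num)]; decide +kernel)
  refine le_trans ?_ h
  rw [idx_pt (by norm_num)]; decide +kernel

/-- Level 2 of the stabiliser chain. -/
def KQ2 : Subgroup (Equiv.Perm GolayPt) := KQ1 ⊓ MulAction.stabilizer (Equiv.Perm GolayPt) (pt 4)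
/-- Table of a generator. -/
def c2g1T : List ℕ := [0, 12, 2, 3, 4, 5, 13, 10, 9, 8, 7, 14, 1, 6, 11, 15, 18, 19, 16, 17, 20, 23, 22, 21]
/-- Inverse table. -/
def c2g1T' : List ℕ := [0, 12, 2, 3, 4, 5, 13, 10, 9, 8, 7, 14, 1, 6, 11, 15, 18, 19, 16, 17, 20, 23, 22, 21]
theorem c2g1_ok : TblOK c2g1T c2g1T' := by decide +kernel
/-- A generator. -/
def c2g1 : Equiv.Perm GolayPt := tblPerm c2g1T c2g1T' c2g1_ok
theorem c2g1_mem : c2g1 ∈ M24 := tblPerm_mem_M24 _ _ _ (by decide +kernel)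
theorem c2g1_fixd : c2g1 • d0 = d0 := by
  unfold c2g1
  apply gmask_injective
  rw [tblPerm_models c2g1T c2g1T' c2g1_ok d0, gmask_d0]
  decide +kernel
theorem c2g1_fixQ : c2g1 • Q0 = Q0 := by
  apply tblPerm_smul_eq_of_code
  rw [Q0_enc]
  decide +kernel
theorem c2g1_fixp0 : c2g1 • (pt 0) = pt 0 := by
  apply idx_injective
  show idx (tblPerm c2g1T c2g1T' c2g1_ok (pt 0)) = idx (pt 0)
  rw [idx_tblPerm, idx_pt (by norm_num)]
  decide +kernel
theorem c2g1_fixp4 : c2g1 • (pt 4) = pt 4 := by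
  apply idx_injective
  show idx (tblPerm c2g1T c2g1T' c2g1_ok (pt 4)) = idx (pt 4)
  rw [idx_tblPerm, idx_pt (by norm_num)]
  decide +kernel
theorem c2g1_memK : c2g1 ∈ KQ2 := ⟨⟨⟨⟨c2g1_mem, c2g1_fixd⟩, c2g1_fixQ⟩, c2g1_fixp0⟩, c2g1_fixp4⟩

/-- Table of a generator. -/
def c2g2T : List ℕ := [0, 1, 3, 2, 4, 5, 9, 10, 13, 6, 7, 11, 12, 8, 14, 20, 18, 23, 16, 21, 15, 19, 22, 17]
/-- Inverse table. -/
def c2g2T' : List ℕ := [0, 1, 3, 2, 4, 5, 9, 10, 13, 6, 7, 11, 12, 8, 14, 20, 18, 23, 16, 21, 15, 19, 22, 17]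
theorem c2g2_ok : TblOK c2g2T c2g2T' := by decide +kernel
/-- A generator. -/
def c2g2 : Equiv.Perm GolayPt := tblPerm c2g2T c2g2T' c2g2_ok
theorem c2g2_mem : c2g2 ∈ M24 := tblPerm_mem_M24 _ _ _ (by decide +kernel)
theorem c2g2_fixd : c2g2 • d0 = d0 := by
  unfold c2g2
  apply gmask_injective
  rw [tblPerm_models c2g2T c2g2T' c2g2_ok d0, gmask_d0]
  decide +kernel
theorem c2g2_fixQ : c2g2 • Q0 = Q0 := by
  apply tblPerm_smul_eq_of_code
  rw [Q0_enc]
  decide +kernel
theorem c2g2_fixp0 : c2g2 • (pt 0) = pt 0 := by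
  apply idx_injective
  show idx (tblPerm c2g2T c2g2T' c2g2_ok (pt 0)) = idx (pt 0)
  rw [idx_tblPerm, idx_pt (by norm_num)]
  decide +kernel
theorem c2g2_fixp4 : c2g2 • (pt 4) = pt 4 := by
  apply idx_injective
  show idx (tblPerm c2g2T c2g2T' c2g2_ok (pt 4)) = idx (pt 4)
  rw [idx_tblPerm, idx_pt (by norm_num)]
  decide +kernel
theorem c2g2_memK : c2g2 ∈ KQ2 := ⟨⟨⟨⟨c2g2_mem, c2g2_fixd⟩, c2g2_fixQ⟩, c2g2_fixp0⟩, c2g2_fixp4⟩

theorem c2_models : List.Forall₂ (fun g act => g ∈ KQ2 ∧ ∀ x : GolayPt, idx (g • x) = act (idx x))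
    [c2g1, c2g2] [fun i => c2g1T.getD i 0, fun i => c2g2T.getD i 0] :=
  List.Forall₂.cons ⟨c2g1_memK, fun x => idx_tblPerm c2g1T c2g1T' c2g1_ok x⟩ (List.Forall₂.cons ⟨c2g2_memK, fun x => idx_tblPerm c2g2T c2g2T' c2g2_ok x⟩ (List.Forall₂.nil))
/-- Orbit certificate at level 2. -/
def c2Cert : List (ℕ × ℕ) := [(0, 13), (1, 8), (0, 9)]
theorem c2_lb : 4 ≤ (orbK KQ2 (pt 6)).ncard := by
  have h := le_ncard_orbK idx c2_models (pt 6) c2Cert (by rw [idx_pt (by norm_num)]; decide +kernel)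
    (fun m => m) (by rw [idx_pt (by norm_num)]; decide +kernel)
  refine le_trans ?_ h
  rw [idx_pt (by norm_num)]; decide +kernel

/-- Level 3 of the stabiliser chain. -/
def KQ3 : Subgroup (Equiv.Perm GolayPt) := KQ2 ⊓ MulAction.stabilizer (Equiv.Perm GolayPt) (pt 6)

theorem card_KQ_ge : 432 ≤ Nat.card KQ := by
  have h3 : 1 ≤ Nat.card KQ3 := Nat.card_pos
  have h2 := card_ge_step KQ2 (pt 6) c2_lb h3
  have h1 := card_ge_step KQ1 (pt 4) c1_lb h2
  have h0 := card_ge_step KQ0 (pt 0) c0_lb h1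
  exact le_trans (by norm_num) h0

theorem card_orbit_Q0 : (orbK K12' Q0).ncard = 220 ∧ Nat.card KQ = 432 := by
  have h := card_eq_orbit_mul' K12' Q0 (orbK K12' Q0) (fun σ hσ => ⟨σ, hσ, rfl⟩) (fun c hc => hc)
  rw [card_K12'] at h
  have ha := Q0_lb
  have hb := card_KQ_ge
  have hb' : Nat.card ↥(K12' ⊓ MulAction.stabilizer (Equiv.Perm GolayPt) Q0) = Nat.card KQ := rfl
  rw [hb'] at h
  have ha' : (orbK K12' Q0).ncard ≤ 220 := by
    by_contra hc
    have h1 : 221 ≤ (orbK K12' Q0).ncard := by omega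
    have := Nat.mul_le_mul h1 hb
    omega
  have ha'' : (orbK K12' Q0).ncard = 220 := le_antisymm ha' ha
  rw [ha''] at h
  exact ⟨ha'', by omega⟩

theorem quartets_d0_eq : quartets d0 = orbK K12' Q0 := by
  ext Q
  constructor
  · intro hQ
    obtain ⟨g, hg, hgd, hgQ⟩ := quartet_trans d0_mem_dodecads Q0_mem hQ
    exact ⟨g, ⟨hg, hgd⟩, hgQ⟩
  · rintro ⟨g, ⟨hg, hgd⟩, rfl⟩
    have hgd' : g • d0 = d0 := hgd
    have := smul_mem_quartets hg Q0_mem
    rwa [hgd'] at this

theorem image_quartets {h : Equiv.Perm GolayPt} (hh : h ∈ M24) (d : Finset GolayPt) :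
    quartets (h • d) = (fun Q => h • Q) '' quartets d := by
  ext Q
  constructor
  · intro hQ
    refine ⟨h⁻¹ • Q, ?_, smul_inv_smul h Q⟩
    have := smul_mem_quartets (M24.inv_mem hh) hQ
    rwa [inv_smul_smul] at this
  · rintro ⟨Q', hQ', rfl⟩
    exact smul_mem_quartets hh hQ'

/-- A dodecad has exactly 220 quartets. -/
theorem ncard_quartets {d : Finset GolayPt} (hd : d ∈ dodecads) : (quartets d).ncard = 220 := by
  obtain ⟨h, hh, rfl⟩ := exists_smul_d0_eq hd
  rw [image_quartets hh, Set.ncard_image_of_injective _ (MulAction.injective h), quartets_d0_eq]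
  exact card_orbit_Q0.1

/-- Every pair (dodecad, quartet of it) is an image of the base pair. -/
theorem exists_smul_d0_Q0 {d : Finset GolayPt} (hd : d ∈ dodecads) {Q : Finset (Finset GolayPt)}
    (hQ : Q ∈ quartets d) : ∃ h ∈ M24, h • d0 = d ∧ h • Q0 = Q := by
  obtain ⟨h, hh, rfl⟩ := exists_smul_d0_eq hd
  have hQ' : h⁻¹ • Q ∈ quartets d0 := by
    have := smul_mem_quartets (M24.inv_mem hh) hQ
    rwa [inv_smul_smul] at this
  obtain ⟨g, hg, hgd, hgQ⟩ := quartet_trans d0_mem_dodecads Q0_mem hQ'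
  refine ⟨h * g, M24.mul_mem hh hg, ?_, ?_⟩
  · rw [mul_smul, hgd]
  · rw [mul_smul, hgQ, smul_inv_smul]

end Cfsg.Agent.Lib.Helper36
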