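import Mathlib
import Cfsg.Agent.Lib.Helper73.RUDefs
import Cfsg.Agent.Lib.Helper73.RUHub

/-!
# K-RU4 leaf B (S2279): the transvection `[d₋₁,[d₋₁,d₀]] = 1 + l³ c₁ φ₋₁ᵀ` in `⟨a, v⟩`
-/

set_option autoImplicit false

namespace Cfsg.Agent.Lib.Helper36.RU4

open Matrix Cfsg.Agent.Lib.Helper73.RU Cfsg.Agent.Lib.Helper73.RUSpec

section defs
variable (m : ℕ) (F : Type*) [Field F]

/-- the index `last - 1` -/
def pen : Fin (m + 3) := ⟨m + 1, by omega⟩

/-- the conjugator `g = 1 + l E_{last,0}` (a transvection) -/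
def g4 (l : F) : Matrix (Fin (m + 3)) (Fin (m + 3)) F :=
  1 + Matrix.single (Fin.last (m + 2)) 0 l

/-- `v = g a g⁻¹ = a + l E_{last,1} - l E_{last-1,0}` -/
def v4 (l : F) : Matrix (Fin (m + 3)) (Fin (m + 3)) F :=
  aMat m F + Matrix.single (Fin.last (m + 2)) 1 l - Matrix.single (pen m) 0 l

/-- `c₁ = a e_last = e_last + e_{last-1}` -/
def c1 : Fin (m + 3) → F := Pi.single (Fin.last (m + 2)) 1 + Pi.single (pen m) 1

/-- `φ₋₁ = e_0ᵀ a = e_0 + e_1` -/
def f1 : Fin (m + 3) → F := Pi.single 0 1 + Pi.single 1 1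

/-- the alternating column `c₋₁`, `a c₋₁ = e_last` -/
def cm1 : Fin (m + 3) → F := fun i => (-1) ^ (m + 2 - i.val)

/-- the alternating row `φ₁`, `φ₁ a = e_0` -/
def fp1 : Fin (m + 3) → F := fun i => (-1) ^ i.val

end defs

theorem ru4b_aMat_mulVec_apply (m : ℕ) (F : Type*) [Field F] (v : Fin (m + 3) → F)
    (i : Fin (m + 3)) :
    (aMat m F *ᵥ v) i = v i + (if h : i.val + 1 < m + 3 then v ⟨i.val + 1, h⟩ else 0) := by
  have h0 : (aMat m F *ᵥ v) i =
      ∑ j : Fin (m + 3), (if i = j ∨ i.val + 1 = j.val then (1 : F) else 0) * v j := rfl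
  have h1 : ∀ j : Fin (m + 3), (if i = j ∨ i.val + 1 = j.val then (1 : F) else 0) * v j
       = (if i = j then v j else 0) + (if i.val + 1 = j.val then v j else 0) := by
    intro j
    by_cases h1 : i = j
    · subst h1
      simp
    · by_cases h2 : i.val + 1 = j.val
      · simp [h1, h2]
      · simp [h1, h2]
  rw [h0, Finset.sum_congr rfl (fun j _ => h1 j), Finset.sum_add_distrib, Finset.sum_ite_eq]
  simp only [Finset.mem_univ, if_true]
  congr 1
  split_ifs with h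
  · rw [Finset.sum_eq_single (⟨i.val + 1, h⟩ : Fin (m + 3))]
    · simp
    · intro b _ hb
      rw [if_neg]
      intro hh
      apply hb
      ext
      simp [hh]
    · intro hh
      exact absurd (Finset.mem_univ _) hh
  · apply Finset.sum_eq_zero
    intro j _
    rw [if_neg]
    intro hh
    apply h
    rw [hh]
    exact j.isLt

theorem ru4b_vecMul_aMat_apply (m : ℕ) (F : Type*) [Field F] (w : Fin (m + 3) → F)
    (j : Fin (m + 3)) :
    (w ᵥ* aMat m F) j = w j + (if h : 0 < j.val then w ⟨j.val - 1, by omega⟩ else 0) := by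
  have h0 : (w ᵥ* aMat m F) j =
      ∑ i : Fin (m + 3), w i * (if i = j ∨ i.val + 1 = j.val then (1 : F) else 0) := rfl
  have h1 : ∀ i : Fin (m + 3), w i * (if i = j ∨ i.val + 1 = j.val then (1 : F) else 0)
       = (if i = j then w i else 0) + (if i.val + 1 = j.val then w i else 0) := by
    intro i
    by_cases h1 : i = j
    · subst h1
      simp
    · by_cases h2 : i.val + 1 = j.val
      · simp [h1, h2]
      · simp [h1, h2]
  rw [h0, Finset.sum_congr rfl (fun i _ => h1 i), Finset.sum_add_distrib, Finset.sum_ite_eq']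
  simp only [Finset.mem_univ, if_true]
  congr 1
  split_ifs with h
  · rw [Finset.sum_eq_single (⟨j.val - 1, by omega⟩ : Fin (m + 3))]
    · rw [if_pos]
      simp only
      omega
    · intro b _ hb
      rw [if_neg]
      intro hh
      apply hb
      ext
      simp only
      omega
    · intro hh
      exact absurd (Finset.mem_univ _) hh
  · apply Finset.sum_eq_zero
    intro i _
    rw [if_neg]
    intro hh
    apply h
    omega

theorem ru4b_last_ne_zero (m : ℕ) : (Fin.last (m + 2) : Fin (m + 3)) ≠ 0 := by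
  intro h
  have := congrArg Fin.val h
  simp at this

theorem ru4b_last_ne_one (m : ℕ) : (Fin.last (m + 2) : Fin (m + 3)) ≠ 1 := by
  intro h
  have := congrArg Fin.val h
  simp at this

theorem ru4b_pen_ne_zero (m : ℕ) : pen m ≠ 0 := by
  intro h
  have := congrArg Fin.val h
  simp [pen] at this

theorem ru4b_pen_ne_one (m : ℕ) (hm : 1 ≤ m) : pen m ≠ 1 := by
  intro h
  have := congrArg Fin.val h
  simp [pen] at this
  omega

theorem ru4b_aMat_mulVec_cm1 (m : ℕ) (F : Type*) [Field F] :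
    aMat m F *ᵥ cm1 m F = Pi.single (Fin.last (m + 2)) 1 := by
  ext i
  rw [ru4b_aMat_mulVec_apply]
  unfold cm1
  by_cases h : i.val + 1 < m + 3
  · rw [dif_pos h]
    have hi : i ≠ Fin.last (m + 2) := by
      intro hh
      rw [hh] at h
      simp at h
    rw [Pi.single_apply, if_neg hi]
    have h2 : m + 2 - i.val = (m + 2 - (i.val + 1)) + 1 := by omega
    simp only
    rw [h2, pow_succ]
    ring
  · rw [dif_neg h]
    have hi : i = Fin.last (m + 2) := by
      ext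
      simp only [Fin.val_last]
      omega
    rw [hi, Pi.single_apply, if_pos rfl]
    simp

theorem ru4b_aMat_mulVec_last (m : ℕ) (F : Type*) [Field F] :
    aMat m F *ᵥ (Pi.single (Fin.last (m + 2)) 1 : Fin (m + 3) → F) = c1 m F := by
  ext i
  rw [ru4b_aMat_mulVec_apply]
  unfold c1
  rw [Pi.add_apply]
  congr 1
  by_cases hp : i = pen m
  · subst hp
    have h : (pen m).val + 1 < m + 3 := by simp [pen]
    rw [dif_pos h]
    have h2 : (⟨(pen m).val + 1, h⟩ : Fin (m + 3)) = Fin.last (m + 2) := by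
      ext
      simp [pen]
    rw [h2]
    simp
  · rw [Pi.single_apply, if_neg hp]
    split_ifs with h
    · rw [Pi.single_apply, if_neg]
      intro hh
      apply hp
      have := congrArg Fin.val hh
      ext
      simp [pen] at this ⊢
      omega
    · rfl

theorem ru4b_zero_vecMul_aMat (m : ℕ) (F : Type*) [Field F] :
    (Pi.single 0 1 : Fin (m + 3) → F) ᵥ* aMat m F = f1 m F := by
  ext j
  rw [ru4b_vecMul_aMat_apply]
  unfold f1
  rw [Pi.add_apply]
  congr 1
  by_cases h1 : j = 1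
  · subst h1
    have h : 0 < (1 : Fin (m + 3)).val := by simp
    rw [dif_pos h]
    have h2 : (⟨(1 : Fin (m + 3)).val - 1, by omega⟩ : Fin (m + 3)) = 0 := by
      ext
      simp
    rw [h2]
    simp
  · rw [Pi.single_apply, if_neg h1]
    split_ifs with h
    · rw [Pi.single_apply, if_neg]
      intro hh
      apply h1
      have := congrArg Fin.val hh
      ext
      simp at this ⊢
      omega
    · rfl

theorem ru4b_fp1_vecMul_aMat (m : ℕ) (F : Type*) [Field F] :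
    fp1 m F ᵥ* aMat m F = Pi.single 0 1 := by
  ext j
  rw [ru4b_vecMul_aMat_apply]
  unfold fp1
  by_cases h : 0 < j.val
  · rw [dif_pos h]
    have hj : j ≠ 0 := by
      intro hh
      rw [hh] at h
      simp at h
    rw [Pi.single_apply, if_neg hj]
    have h2 : j.val = (j.val - 1) + 1 := by omega
    simp only
    rw [h2, pow_succ]
    simp
  · rw [dif_neg h]
    have hj : j = 0 := by
      ext
      simp only [Fin.val_zero]
      omega
    rw [hj]
    simp

/-! ### the pairing table -/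

section pairing
variable (m : ℕ) (F : Type*) [Field F]

theorem ru4b_f1_cm1 : f1 m F ⬝ᵥ cm1 m F = 0 := by
  unfold f1 cm1
  rw [add_dotProduct, single_dotProduct, single_dotProduct, one_mul, one_mul]
  have h1 : m + 2 - (0 : Fin (m + 3)).val = (m + 1) + 1 := by simp
  have h2 : m + 2 - (1 : Fin (m + 3)).val = m + 1 := by simp
  rw [h1, h2, pow_succ]
  ring

theorem ru4b_f1_last : f1 m F ⬝ᵥ (Pi.single (Fin.last (m + 2)) 1 : Fin (m + 3) → F) = 0 := by
  unfold f1
  rw [dotProduct_single, mul_one, Pi.add_apply, Pi.single_apply, Pi.single_apply,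
    if_neg (ru4b_last_ne_zero m), if_neg (ru4b_last_ne_one m), add_zero]

theorem ru4b_f1_c1 (hm : 1 ≤ m) : f1 m F ⬝ᵥ c1 m F = 0 := by
  unfold c1
  rw [dotProduct_add, ru4b_f1_last, zero_add]
  unfold f1
  rw [dotProduct_single, mul_one, Pi.add_apply, Pi.single_apply, Pi.single_apply,
    if_neg (ru4b_pen_ne_zero m), if_neg (ru4b_pen_ne_one m hm), add_zero]

theorem ru4b_e0_cm1 : (Pi.single 0 1 : Fin (m + 3) → F) ⬝ᵥ cm1 m F = (-1) ^ (m + 2) := by
  rw [single_dotProduct, one_mul]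
  unfold cm1
  simp

theorem ru4b_e0_last :
    (Pi.single 0 1 : Fin (m + 3) → F) ⬝ᵥ (Pi.single (Fin.last (m + 2)) 1 : Fin (m + 3) → F) = 0 := by
  rw [single_dotProduct, one_mul, Pi.single_apply, if_neg (ru4b_last_ne_zero m).symm]

theorem ru4b_e0_c1 : (Pi.single 0 1 : Fin (m + 3) → F) ⬝ᵥ c1 m F = 0 := by
  unfold c1
  rw [dotProduct_add, ru4b_e0_last, zero_add, single_dotProduct, one_mul, Pi.single_apply,
    if_neg (ru4b_pen_ne_zero m).symm]

theorem ru4b_fp1_cm1 : fp1 m F ⬝ᵥ cm1 m F = ((m + 3 : ℕ) : F) * (-1) ^ (m + 2) := by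
  unfold fp1 cm1 dotProduct
  have h : ∀ i : Fin (m + 3), (-1 : F) ^ i.val * (-1) ^ (m + 2 - i.val) = (-1) ^ (m + 2) := by
    intro i
    rw [← pow_add]
    congr 1
    have := i.isLt
    omega
  rw [Finset.sum_congr rfl (fun i _ => h i), Finset.sum_const, Finset.card_univ, Fintype.card_fin,
    nsmul_eq_mul]

theorem ru4b_fp1_last :
    fp1 m F ⬝ᵥ (Pi.single (Fin.last (m + 2)) 1 : Fin (m + 3) → F) = (-1) ^ (m + 2) := by
  rw [dotProduct_single, mul_one]
  unfold fp1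
  simp

theorem ru4b_fp1_c1 : fp1 m F ⬝ᵥ c1 m F = 0 := by
  unfold c1
  rw [dotProduct_add, ru4b_fp1_last, dotProduct_single, mul_one]
  unfold fp1 pen
  simp only
  rw [pow_succ]
  ring

end pairing

/-! ### the `3 × 3` calculus -/

section calculus
variable (m : ℕ) (F : Type*) [Field F]

def cvec : Fin 3 → Fin (m + 3) → F := ![cm1 m F, Pi.single (Fin.last (m + 2)) 1, c1 m F]

def fvec : Fin 3 → Fin (m + 3) → F := ![f1 m F, Pi.single 0 1, fp1 m F]

def Cm : Matrix (Fin (m + 3)) (Fin 3) F := Matrix.of fun a i => cvec m F i a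

def Pm : Matrix (Fin 3) (Fin (m + 3)) F := Matrix.of fun j b => fvec m F j b

def Kgen {F : Type*} [Field F] (ε ν : F) : Matrix (Fin 3) (Fin 3) F := !![0, 0, 0; ε, 0, 0; ν, ε, 0]

def Kmat : Matrix (Fin 3) (Fin 3) F := Kgen ((-1) ^ (m + 2)) (((m + 3 : ℕ) : F) * (-1) ^ (m + 2))

def Bx (X : Matrix (Fin 3) (Fin 3) F) : Matrix (Fin (m + 3)) (Fin (m + 3)) F :=
  1 + Cm m F * X * Pm m F

theorem ru4b_Pm_mul_Cm (hm : 1 ≤ m) : Pm m F * Cm m F = Kmat m F := by
  ext i j
  have h : (Pm m F * Cm m F) i j = fvec m F i ⬝ᵥ cvec m F j := rfl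
  rw [h]
  fin_cases i <;> fin_cases j
  · exact ru4b_f1_cm1 m F
  · exact ru4b_f1_last m F
  · exact ru4b_f1_c1 m F hm
  · exact ru4b_e0_cm1 m F
  · exact ru4b_e0_last m F
  · exact ru4b_e0_c1 m F
  · exact ru4b_fp1_cm1 m F
  · exact ru4b_fp1_last m F
  · exact ru4b_fp1_c1 m F

theorem ru4b_Bx_mul (hm : 1 ≤ m) (X Y : Matrix (Fin 3) (Fin 3) F) :
    Bx m F X * Bx m F Y = Bx m F (X + Y + X * Kmat m F * Y) := by
  unfold Bx
  have h : Cm m F * X * Pm m F * (Cm m F * Y * Pm m F) = Cm m F * (X * Kmat m F * Y) * Pm m F := by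
    rw [← ru4b_Pm_mul_Cm m F hm]
    simp only [Matrix.mul_assoc]
  simp only [Matrix.add_mul, Matrix.mul_add, Matrix.one_mul, Matrix.mul_one]
  rw [h]
  abel

end calculus

def X1 {F : Type*} [Field F] (l : F) : Matrix (Fin 3) (Fin 3) F := !![l, 0, 0; 0, -l, 0; 0, 0, 0]

def X0 {F : Type*} [Field F] (l : F) : Matrix (Fin 3) (Fin 3) F := !![0, 0, 0; 0, l, 0; 0, 0, -l]

def Yx {F : Type*} [Field F] (l ε ν : F) : Matrix (Fin 3) (Fin 3) F :=
  !![0, 0, 0; -(l ^ 2 * ε), 0, 0; l ^ 2 * ν + l ^ 3, -(l ^ 2 * ε), 0]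

def Tx {F : Type*} [Field F] (l : F) : Matrix (Fin 3) (Fin 3) F := !![0, 0, 0; 0, 0, 0; l ^ 3, 0, 0]

theorem ru4b_id1 {F : Type*} [Field F] (l ε ν : F) (h : ε = 1 ∨ ε = -1) :
    X1 l + X0 l + X1 l * Kgen ε ν * X0 l =
      Yx l ε ν + (X0 l + X1 l + X0 l * Kgen ε ν * X1 l) +
        Yx l ε ν * Kgen ε ν * (X0 l + X1 l + X0 l * Kgen ε ν * X1 l) := by
  rcases h with rfl | rfl <;>
    (ext i j; fin_cases i <;> fin_cases j <;>
      simp [X1, X0, Yx, Kgen] <;> ring)

theorem ru4b_id2 {F : Type*} [Field F] (l ε ν : F) (h : ε = 1 ∨ ε = -1) :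
    X1 l + Yx l ε ν + X1 l * Kgen ε ν * Yx l ε ν =
      Tx l + (Yx l ε ν + X1 l + Yx l ε ν * Kgen ε ν * X1 l) +
        Tx l * Kgen ε ν * (Yx l ε ν + X1 l + Yx l ε ν * Kgen ε ν * X1 l) := by
  rcases h with rfl | rfl <;>
    (ext i j; fin_cases i <;> fin_cases j <;>
      simp [X1, Tx, Yx, Kgen] <;> ring)

section explicit
variable (m : ℕ) (F : Type*) [Field F]

theorem ru4b_CX1P (l : F) :
    Cm m F * X1 l * Pm m F = l • vecMulVec (cm1 m F) (f1 m F) -
      l • vecMulVec (Pi.single (Fin.last (m + 2)) 1 : Fin (m + 3) → F) (Pi.single 0 1) := by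
  ext a b
  simp [Matrix.mul_apply, Fin.sum_univ_three, Cm, Pm, cvec, fvec, X1, vecMulVec_apply]
  ring

theorem ru4b_CX0P (l : F) :
    Cm m F * X0 l * Pm m F =
      l • vecMulVec (Pi.single (Fin.last (m + 2)) 1 : Fin (m + 3) → F) (Pi.single 0 1) -
        l • vecMulVec (c1 m F) (fp1 m F) := by
  ext a b
  simp [Matrix.mul_apply, Fin.sum_univ_three, Cm, Pm, cvec, fvec, X0, vecMulVec_apply]
  ring

theorem ru4b_CTP (l : F) :
    Cm m F * Tx l * Pm m F = vecMulVec (l ^ 3 • c1 m F) (f1 m F) := by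
  ext a b
  simp [Matrix.mul_apply, Fin.sum_univ_three, Cm, Pm, cvec, fvec, Tx, vecMulVec_apply]
  left
  ring

theorem ru4b_single (l : F) (i j : Fin (m + 3)) :
    Matrix.single i j l = l • vecMulVec (Pi.single i 1 : Fin (m + 3) → F) (Pi.single j 1) := by
  rw [← Matrix.single_eq_single_vecMulVec_single, Matrix.smul_single, smul_eq_mul, mul_one]

theorem ru4b_v4_eq (l : F) :
    v4 m F l = aMat m F +
      l • vecMulVec (Pi.single (Fin.last (m + 2)) 1 : Fin (m + 3) → F) (Pi.single 1 1) -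
      l • vecMulVec (Pi.single (pen m) 1 : Fin (m + 3) → F) (Pi.single 0 1) := by
  unfold v4
  rw [ru4b_single, ru4b_single]

theorem ru4b_aMat_mul_D1 (l : F) : aMat m F * Bx m F (X1 l) = v4 m F l := by
  unfold Bx
  rw [Matrix.mul_add, Matrix.mul_one, ru4b_CX1P, Matrix.mul_sub, Matrix.mul_smul, Matrix.mul_smul,
    mul_vecMulVec, mul_vecMulVec, ru4b_aMat_mulVec_cm1, ru4b_aMat_mulVec_last, ru4b_v4_eq]
  unfold f1 c1
  rw [vecMulVec_add, add_vecMulVec, smul_add, smul_add]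
  abel

theorem ru4b_D0_mul_aMat (l : F) : Bx m F (X0 l) * aMat m F = v4 m F l := by
  unfold Bx
  rw [Matrix.add_mul, Matrix.one_mul, ru4b_CX0P, Matrix.sub_mul, Matrix.smul_mul, Matrix.smul_mul,
    vecMulVec_mul, vecMulVec_mul, ru4b_zero_vecMul_aMat, ru4b_fp1_vecMul_aMat, ru4b_v4_eq]
  unfold f1 c1
  rw [vecMulVec_add, add_vecMulVec, smul_add, smul_add]
  abel

end explicit

/-! ## LEAF B: the transvection `[d₋₁,[d₋₁,d₀]] = 1 + l³ c₁ φ₋₁ᵀ`, `d₋₁ = u⁻¹ v`, `d₀ = v u⁻¹` -/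

theorem tv_mem {m : ℕ} {F : Type*} [Field F] (hm : 1 ≤ m)
    {G : Subgroup (SpecialLinearGroup (Fin (m + 3)) F)} (l : F)
    (ha : InG G (aMat m F)) (hv : InG G (v4 m F l)) :
    InG G (tvm (l ^ 3 • c1 m F) (f1 m F)) := by
  have hD1 : InG G (Bx m F (X1 l)) :=
    inG_of_mul_left ha (by rw [ru4b_aMat_mul_D1]; exact hv)
  have hD0 : InG G (Bx m F (X0 l)) :=
    inG_of_mul_right ha (by rw [ru4b_D0_mul_aMat]; exact hv)
  have hε := neg_one_pow_eq_or F (m + 2)
  set ε : F := (-1) ^ (m + 2) with hεdef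
  set ν : F := ((m + 3 : ℕ) : F) * (-1) ^ (m + 2) with hνdef
  have hK : Kmat m F = Kgen ε ν := rfl
  have e1 : Bx m F (X1 l) * Bx m F (X0 l) =
      Bx m F (Yx l ε ν) * (Bx m F (X0 l) * Bx m F (X1 l)) := by
    rw [ru4b_Bx_mul m F hm, ru4b_Bx_mul m F hm, ru4b_Bx_mul m F hm, hK, ru4b_id1 l ε ν hε]
  have hY : InG G (Bx m F (Yx l ε ν)) :=
    inG_of_mul_right (inG_mul hD0 hD1) (e1 ▸ inG_mul hD1 hD0)
  have e2 : Bx m F (X1 l) * Bx m F (Yx l ε ν) =
      Bx m F (Tx l) * (Bx m F (Yx l ε ν) * Bx m F (X1 l)) := by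
    rw [ru4b_Bx_mul m F hm, ru4b_Bx_mul m F hm, ru4b_Bx_mul m F hm, hK, ru4b_id2 l ε ν hε]
  have hT : InG G (Bx m F (Tx l)) :=
    inG_of_mul_right (inG_mul hY hD1) (e2 ▸ inG_mul hD1 hY)
  have hfin : Bx m F (Tx l) = tvm (l ^ 3 • c1 m F) (f1 m F) := by
    unfold Bx tvm
    rw [ru4b_CTP]
  rw [← hfin]
  exact hT

end Cfsg.Agent.Lib.Helper36.RU4
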