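import Mathlib
import Cfsg.Agent.S5357

set_option autoImplicit false

/-!
# Geometry of reflections of norm `c` in an orthogonal space over `ZMod 3` (for S5360)
-/

open scoped MatrixGroups
open Cfsg

namespace Cfsg.Agent.Lib.Helper36.Refl3

open Matrix Cfsg.Agent.Lib.Helper50 Cfsg.Agent.Lib.Helper19 Cfsg.Agent.S5357

variable {n : ℕ} (Q : QuadraticForm (ZMod 3) (Fin n → ZMod 3))

theorem quad_add (x y : Fin n → ZMod 3) :
    Q (x + y) = Q x + Q y + QuadraticMap.polar (⇑Q) x y := by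
  simp only [QuadraticMap.polar]; ring

theorem zmod3_cases (a : ZMod 3) : a = 0 ∨ a = 1 ∨ a = 2 := by
  revert a; decide

theorem zmod3_eq_or_neg (a c : ZMod 3) (ha : a ≠ 0) (hc : c ≠ 0) : a = c ∨ a = -c := by
  revert a c; decide

theorem zmod3_two : (2 : ZMod 3) = -1 := by decide

theorem exists_polar_ne (hQ : (QuadraticMap.polarBilin Q).Nondegenerate)
    {t : Fin n → ZMod 3} (ht : t ≠ 0) : ∃ x, QuadraticMap.polar (⇑Q) x t ≠ 0 := by
  by_contra hcon
  push Not at hcon
  apply ht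
  apply hQ.2 t
  intro x
  simpa using hcon x

/-- two arbitrary vectors have a common nonzero isotropic orthogonal vector when `n ≥ 5` -/
theorem exists_orth_isotropic (hn : 5 ≤ n) (u v : Fin n → ZMod 3) :
    ∃ t, t ≠ 0 ∧ QuadraticMap.polar (⇑Q) u t = 0 ∧ QuadraticMap.polar (⇑Q) v t = 0 ∧
      Q t = 0 := by
  let f : (Fin n → ZMod 3) →ₗ[ZMod 3] (ZMod 3 × ZMod 3) :=
    LinearMap.prod (QuadraticMap.polarBilin Q u) (QuadraticMap.polarBilin Q v)
  have hf : ∀ x, x ∈ LinearMap.ker f ↔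
      QuadraticMap.polar (⇑Q) u x = 0 ∧ QuadraticMap.polar (⇑Q) v x = 0 := by
    intro x
    simp [f, LinearMap.mem_ker]
  have hrank : 3 ≤ Module.finrank (ZMod 3) (LinearMap.ker f) := by
    have h1 := LinearMap.finrank_range_add_finrank_ker f
    have h2 : Module.finrank (ZMod 3) (LinearMap.range f) ≤ 2 := by
      have := Submodule.finrank_le (LinearMap.range f)
      simpa [Module.finrank_prod] using this
    have h3 : Module.finrank (ZMod 3) (Fin n → ZMod 3) = n := by simp
    omega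
  obtain ⟨t0, ht0, hQ0⟩ := exists_isotropic (Q.comp (LinearMap.ker f).subtype) hrank
  have hQ0' : Q (t0 : Fin n → ZMod 3) = 0 := by simpa using hQ0
  have ht0' : (t0 : Fin n → ZMod 3) ≠ 0 := by
    intro h; apply ht0; exact Subtype.ext h
  have h := (hf _).1 t0.2
  exact ⟨t0, ht0', h.1, h.2, hQ0'⟩

theorem reflO_neg {u : Fin n → ZMod 3} (hu : Q u ≠ 0) : reflO Q (-u) = reflO Q u := by
  have h := reflO_smul Q u hu (-1) (by decide)
  simpa using h

/-- equal reflections have proportional centres -/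
theorem eq_or_eq_neg_of_reflO_eq (c : ZMod 3) (hc : c ≠ 0) {u w : Fin n → ZMod 3}
    (hu : Q u = c) (hw : Q w = c) (h : reflO Q u = reflO Q w) : w = u ∨ w = -u := by
  have hu0 : Q u ≠ 0 := hu ▸ hc
  have hw0 : Q w ≠ 0 := hw ▸ hc
  have h1 : Cfsg.reflectionMatrix (⇑Q) u = Cfsg.reflectionMatrix (⇑Q) w := by
    rw [← reflO_val Q u hu0, ← reflO_val Q w hw0, h]
  have h2 : Cfsg.reflectionMatrix (⇑Q) u *ᵥ u = Cfsg.reflectionMatrix (⇑Q) w *ᵥ u := by rw [h1]
  rw [reflectionMatrix_mulVec, reflectionMatrix_mulVec, polar_self', hu, hw] at h2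
  have h3 : c⁻¹ * (2 * c) = 2 := by field_simp
  rw [h3] at h2
  have h4 : (c⁻¹ * QuadraticMap.polar (⇑Q) w u) • w = (2 : ZMod 3) • u :=
    (sub_right_injective h2).symm
  have hu_ne : u ≠ 0 := by
    intro h0; apply hu0; rw [h0, map_zero]
  rcases zmod3_cases (c⁻¹ * QuadraticMap.polar (⇑Q) w u) with ha | ha | ha
  · rw [ha, zero_smul] at h4
    exfalso
    rcases smul_eq_zero.mp h4.symm with h5 | h5
    · exact two_ne h5
    · exact hu_ne h5
  · right
    rw [ha, one_smul, zmod3_two, neg_smul, one_smul] at h4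
    exact h4
  · left
    rw [ha] at h4
    exact smul_right_injective _ two_ne h4

theorem reflO_ne_of_polar_zero (c : ZMod 3) (hc : c ≠ 0) {u t : Fin n → ZMod 3}
    (hu : Q u = c) (ht : Q t = c) (h : QuadraticMap.polar (⇑Q) u t = 0) :
    reflO Q u ≠ reflO Q t := by
  intro he
  have h2c : (2 : ZMod 3) * c ≠ 0 := mul_ne_zero two_ne hc
  rcases eq_or_eq_neg_of_reflO_eq Q c hc hu ht he with h1 | h1
  · rw [h1, polar_self', hu] at h
    exact h2c h
  · rw [h1, QuadraticMap.polar_neg_right, polar_self', hu, neg_eq_zero] at h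
    exact h2c h

theorem commute_of_polar_zero (c : ZMod 3) (hc : c ≠ 0) {u w : Fin n → ZMod 3}
    (hu : Q u = c) (hw : Q w = c) (h : QuadraticMap.polar (⇑Q) u w = 0) :
    Commute (reflO Q u) (reflO Q w) := by
  have h1 := polar_refl_zero Q u w (hu ▸ hc) (hw ▸ hc) h
  unfold Commute SemiconjBy
  calc reflO Q u * reflO Q w
      = reflO Q u * reflO Q w * (reflO Q u * reflO Q u) := by rw [reflO_mul_self, mul_one]
    _ = (reflO Q u * reflO Q w * reflO Q u) * reflO Q u := by simp only [mul_assoc]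
    _ = reflO Q w * reflO Q u := by rw [h1]

theorem polar_zero_of_commute (c : ZMod 3) (hc : c ≠ 0) {u w : Fin n → ZMod 3}
    (hu : Q u = c) (hw : Q w = c) (hne : reflO Q u ≠ reflO Q w)
    (h : Commute (reflO Q u) (reflO Q w)) : QuadraticMap.polar (⇑Q) u w = 0 := by
  by_contra hB
  have h1 := polar_refl_ne Q c hc u w hu hw hB
  apply hne
  have e1 : reflO Q u * reflO Q w * reflO Q u = reflO Q w := by
    rw [h.eq, mul_assoc, reflO_mul_self, mul_one]
  have e2 : reflO Q w * reflO Q u * reflO Q w = reflO Q u := by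
    rw [← h.eq, mul_assoc, reflO_mul_self, mul_one]
  calc reflO Q u = reflO Q w * reflO Q u * reflO Q w := e2.symm
    _ = reflO Q u * reflO Q w * reflO Q u := h1.symm
    _ = reflO Q w := e1

end Cfsg.Agent.Lib.Helper36.Refl3
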