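import Mathlib
import Cfsg.Agent.Lib.Helper36.Refl3a

set_option autoImplicit false

/-!
# Separating and common orthogonal vectors of norm `c` over `ZMod 3` (for S5360)
-/

open scoped MatrixGroups
open Cfsg

namespace Cfsg.Agent.Lib.Helper36.Refl3

open Matrix Cfsg.Agent.Lib.Helper50 Cfsg.Agent.Lib.Helper19 Cfsg.Agent.S5357

variable {n : ℕ} (Q : QuadraticForm (ZMod 3) (Fin n → ZMod 3))

theorem zmod3_id1 : ∀ b c : ZMod 3, b ≠ 0 → c ≠ 0 →
    c + (-(2 * b * c)) * (-(2 * b * c)) * c + (-(2 * b * c)) * b = 0 := by decide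

theorem zmod3_id2 : ∀ b c : ZMod 3, c ≠ 0 → b - (2 * b * c) * (2 * c) = 0 := by decide

/-- separating vector: a vector of norm `c` orthogonal to `u` but not to `w` -/
theorem exists_sep (hn : 5 ≤ n) (hQ : (QuadraticMap.polarBilin Q).Nondegenerate)
    (c : ZMod 3) (hc : c ≠ 0) {u w : Fin n → ZMod 3} (hu : Q u = c) (hw : Q w = c)
    (hne : reflO Q u ≠ reflO Q w) :
    ∃ t, Q t = c ∧ QuadraticMap.polar (⇑Q) u t = 0 ∧ QuadraticMap.polar (⇑Q) w t ≠ 0 ∧
      reflO Q t ≠ reflO Q w := by
  have h2c : (2 : ZMod 3) * c ≠ 0 := mul_ne_zero two_ne hc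
  have hu0 : Q u ≠ 0 := hu ▸ hc
  have hw0 : Q w ≠ 0 := hw ▸ hc
  by_cases hB : QuadraticMap.polar (⇑Q) u w = 0
  · obtain ⟨s, hs0, hus, hws, hQs⟩ := exists_orth_isotropic Q hn u w
    have hQt : Q (w + s) = c := by rw [quad_add, hw, hQs, hws]; ring
    refine ⟨w + s, hQt, ?_, ?_, ?_⟩
    · rw [QuadraticMap.polar_add_right, hB, hus, add_zero]
    · rw [QuadraticMap.polar_add_right, hws, polar_self', hw, add_zero]
      exact h2c
    · intro he
      rcases eq_or_eq_neg_of_reflO_eq Q c hc hQt hw he with h1 | h1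
      · apply hs0
        have : w + s = w + 0 := by rw [add_zero]; exact h1.symm
        exact add_left_cancel this
      · -- w = -(w+s) so s = -w - w = w
        have h3 : s = w := by
          have h4 : s = -w - w := by
            have : w + s = -w := by
              rw [eq_neg_iff_add_eq_zero] at h1 ⊢
              rw [add_comm]; exact h1
            rw [← this]; abel
          rw [h4]
          funext i
          simp only [Pi.sub_apply, Pi.neg_apply]
          generalize w i = x
          revert x; decide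
        rw [h3, hw] at hQs
        exact hc hQs
  · -- non-orthogonal case
    set b := QuadraticMap.polar (⇑Q) u w with hb
    set w' := w + (-(2 * b * c)) • u with hw'
    have hQw' : Q w' = 0 := by
      rw [hw', quad_add_smul, hw, hu, QuadraticMap.polar_comm (⇑Q) w u, ← hb]
      exact zmod3_id1 b c hB hc
    have huw' : QuadraticMap.polar (⇑Q) u w' = 0 := by
      rw [hw', QuadraticMap.polar_add_right, QuadraticMap.polar_smul_right, polar_self', hu,
        ← hb, smul_eq_mul]
      have := zmod3_id2 b c hc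
      rw [← this]; ring
    have hw'0 : w' ≠ 0 := by
      intro h0
      apply hne
      have h1 : w = (2 * b * c) • u := by
        have : w + (-(2 * b * c)) • u = 0 := h0
        rw [neg_smul, ← sub_eq_add_neg, sub_eq_zero] at this
        exact this
      have h2 : (2 * b * c) ≠ 0 := mul_ne_zero (mul_ne_zero two_ne hB) hc
      rw [h1, reflO_smul Q u hu0 _ h2]
    obtain ⟨x, hx⟩ := exists_polar_ne Q hQ hw'0
    set t' := x + (-(2 * QuadraticMap.polar (⇑Q) u x * c)) • u with ht'
    have hut' : QuadraticMap.polar (⇑Q) u t' = 0 := by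
      rw [ht', QuadraticMap.polar_add_right, QuadraticMap.polar_smul_right, polar_self', hu,
        smul_eq_mul]
      have := zmod3_id2 (QuadraticMap.polar (⇑Q) u x) c hc
      rw [← this]; ring
    have ht'w' : QuadraticMap.polar (⇑Q) t' w' = QuadraticMap.polar (⇑Q) x w' := by
      rw [ht', QuadraticMap.polar_add_left, QuadraticMap.polar_smul_left, huw', smul_zero,
        add_zero]
    set e := QuadraticMap.polar (⇑Q) t' w' with he
    have he0 : e ≠ 0 := by rw [ht'w']; exact hx
    set t := t' + ((c - Q t') * e⁻¹) • w' with ht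
    have hQt : Q t = c := by
      rw [ht, quad_add_smul, hQw', ← he]
      field_simp
      ring
    have hut : QuadraticMap.polar (⇑Q) u t = 0 := by
      rw [ht, QuadraticMap.polar_add_right, QuadraticMap.polar_smul_right, hut', huw',
        smul_zero, add_zero]
    have hw't : QuadraticMap.polar (⇑Q) w' t = e := by
      rw [ht, QuadraticMap.polar_add_right, QuadraticMap.polar_smul_right, polar_self', hQw',
        QuadraticMap.polar_comm (⇑Q) w' t', ← he]
      simp
    have hwt : QuadraticMap.polar (⇑Q) w t ≠ 0 := by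
      have h1 : w = w' + (2 * b * c) • u := by
        rw [hw']; simp
      rw [h1, QuadraticMap.polar_add_left, QuadraticMap.polar_smul_left, hut, hw't, smul_zero,
        add_zero]
      exact he0
    refine ⟨t, hQt, hut, hwt, ?_⟩
    intro heq
    rcases eq_or_eq_neg_of_reflO_eq Q c hc hQt hw heq with h1 | h1
    · apply hB
      rw [hb, h1]; exact hut
    · apply hB
      rw [hb, h1, QuadraticMap.polar_neg_right, hut, neg_zero]

/-- a nondegenerate subspace of dimension at least two over `ZMod 3` represents every nonzero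
  value -/
theorem exists_norm_of_nondeg_sub_two (S : Submodule (ZMod 3) (Fin n → ZMod 3))
    (h2 : 2 ≤ Module.finrank (ZMod 3) S)
    (hS : ∀ t ∈ S, t ≠ 0 → ∃ t' ∈ S, QuadraticMap.polar (⇑Q) t' t ≠ 0)
    (c : ZMod 3) (hc : c ≠ 0) : ∃ t ∈ S, Q t = c := by
  -- a vector of nonzero norm from a non-orthogonal pair
  have key : ∀ y y' : Fin n → ZMod 3, QuadraticMap.polar (⇑Q) y' y ≠ 0 →
      Q y ≠ 0 ∨ Q y' ≠ 0 ∨ Q (y' + y) ≠ 0 := by
    intro y y' h
    by_contra hcon
    push Not at hcon
    apply h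
    simp only [QuadraticMap.polar]
    rw [hcon.1, hcon.2.1, hcon.2.2]; ring
  -- step A: some x in S with Q x ≠ 0
  have hSne : S ≠ ⊥ := by
    intro h; rw [h, finrank_bot] at h2; omega
  obtain ⟨t0, ht0S, ht0⟩ := Submodule.exists_mem_ne_zero_of_ne_bot hSne
  obtain ⟨t0', ht0'S, hp0⟩ := hS t0 ht0S ht0
  have hA : ∃ x ∈ S, Q x ≠ 0 := by
    rcases key t0 t0' hp0 with h | h | h
    · exact ⟨t0, ht0S, h⟩
    · exact ⟨t0', ht0'S, h⟩
    · exact ⟨t0' + t0, S.add_mem ht0'S ht0S, h⟩
  obtain ⟨x, hxS, hQx⟩ := hA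
  rcases zmod3_eq_or_neg (Q x) c hQx hc with hxc | hxc
  · exact ⟨x, hxS, hxc⟩
  -- step B: a vector y1 in S orthogonal to x with Q y1 ≠ 0
  let g : ↥S →ₗ[ZMod 3] ZMod 3 := (QuadraticMap.polarBilin Q x).comp S.subtype
  have hg : ∀ y : ↥S, g y = QuadraticMap.polar (⇑Q) x (y : Fin n → ZMod 3) := by
    intro y; simp [g]
  have hker : LinearMap.ker g ≠ ⊥ := by
    intro h
    have h1 := LinearMap.finrank_range_add_finrank_ker g
    have h3 : Module.finrank (ZMod 3) (LinearMap.range g) ≤ 1 := by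
      have := Submodule.finrank_le (LinearMap.range g)
      simpa using this
    rw [h, finrank_bot] at h1
    omega
  obtain ⟨y, hyker, hy0⟩ := Submodule.exists_mem_ne_zero_of_ne_bot hker
  have hxy : QuadraticMap.polar (⇑Q) x (y : Fin n → ZMod 3) = 0 := by
    rw [← hg]; exact hyker
  have hy0' : (y : Fin n → ZMod 3) ≠ 0 := fun h => hy0 (Subtype.ext h)
  obtain ⟨z, hzS, hzy⟩ := hS y y.2 hy0'
  have h2x : (2 : ZMod 3) * Q x ≠ 0 := mul_ne_zero two_ne hQx
  have h2ne : (2 : ZMod 3) ≠ 0 := two_ne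
  set z' := z + (-(QuadraticMap.polar (⇑Q) x z * (2 * Q x)⁻¹)) • x with hz'
  have hz'S : z' ∈ S := S.add_mem hzS (S.smul_mem _ hxS)
  have hxz' : QuadraticMap.polar (⇑Q) x z' = 0 := by
    rw [hz', QuadraticMap.polar_add_right, QuadraticMap.polar_smul_right, polar_self',
      smul_eq_mul]
    field_simp
    ring
  have hz'y : QuadraticMap.polar (⇑Q) z' (y : Fin n → ZMod 3) ≠ 0 := by
    rw [hz', QuadraticMap.polar_add_left, QuadraticMap.polar_smul_left, hxy, smul_zero,
      add_zero]
    exact hzy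
  have hB : ∃ y1 ∈ S, QuadraticMap.polar (⇑Q) x y1 = 0 ∧ Q y1 ≠ 0 := by
    rcases key y z' hz'y with h | h | h
    · exact ⟨y, y.2, hxy, h⟩
    · exact ⟨z', hz'S, hxz', h⟩
    · refine ⟨z' + y, S.add_mem hz'S y.2, ?_, h⟩
      rw [QuadraticMap.polar_add_right, hxz', hxy, add_zero]
  obtain ⟨y1, hy1S, hxy1, hQy1⟩ := hB
  rcases zmod3_eq_or_neg (Q y1) c hQy1 hc with hyc | hyc
  · exact ⟨y1, hy1S, hyc⟩
  · refine ⟨x + y1, S.add_mem hxS hy1S, ?_⟩
    rw [quad_add, hxc, hyc, hxy1]
    have h3 : ∀ c : ZMod 3, -c + -c + 0 = c := by decide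
    exact h3 c

/-- three pairwise orthogonal anisotropic vectors have a common orthogonal vector of norm `c` -/
theorem exists_orth3_norm (hn : 5 ≤ n) (hQ : (QuadraticMap.polarBilin Q).Nondegenerate)
    (c : ZMod 3) (hc : c ≠ 0) (u1 u2 u3 : Fin n → ZMod 3)
    (h1 : Q u1 ≠ 0) (h2 : Q u2 ≠ 0) (h3 : Q u3 ≠ 0)
    (h12 : QuadraticMap.polar (⇑Q) u1 u2 = 0) (h13 : QuadraticMap.polar (⇑Q) u1 u3 = 0)
    (h23 : QuadraticMap.polar (⇑Q) u2 u3 = 0) :
    ∃ t, QuadraticMap.polar (⇑Q) u1 t = 0 ∧ QuadraticMap.polar (⇑Q) u2 t = 0 ∧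
      QuadraticMap.polar (⇑Q) u3 t = 0 ∧ Q t = c := by
  let f : (Fin n → ZMod 3) →ₗ[ZMod 3] (ZMod 3 × ZMod 3 × ZMod 3) :=
    LinearMap.prod (QuadraticMap.polarBilin Q u1)
      (LinearMap.prod (QuadraticMap.polarBilin Q u2) (QuadraticMap.polarBilin Q u3))
  have hf : ∀ x, x ∈ LinearMap.ker f ↔
      QuadraticMap.polar (⇑Q) u1 x = 0 ∧ QuadraticMap.polar (⇑Q) u2 x = 0 ∧
        QuadraticMap.polar (⇑Q) u3 x = 0 := by
    intro x
    simp [f, LinearMap.mem_ker]
  have hrank : 2 ≤ Module.finrank (ZMod 3) (LinearMap.ker f) := by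
    have e1 := LinearMap.finrank_range_add_finrank_ker f
    have e2 : Module.finrank (ZMod 3) (LinearMap.range f) ≤ 3 := by
      have := Submodule.finrank_le (LinearMap.range f)
      simpa [Module.finrank_prod] using this
    have e3 : Module.finrank (ZMod 3) (Fin n → ZMod 3) = n := by simp
    omega
  have h21 : QuadraticMap.polar (⇑Q) u2 u1 = 0 := by rw [QuadraticMap.polar_comm]; exact h12
  have h31 : QuadraticMap.polar (⇑Q) u3 u1 = 0 := by rw [QuadraticMap.polar_comm]; exact h13
  have h32 : QuadraticMap.polar (⇑Q) u3 u2 = 0 := by rw [QuadraticMap.polar_comm]; exact h23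
  have h2ne : (2 : ZMod 3) ≠ 0 := two_ne
  have hq1 : (2 : ZMod 3) * Q u1 ≠ 0 := mul_ne_zero two_ne h1
  have hq2 : (2 : ZMod 3) * Q u2 ≠ 0 := mul_ne_zero two_ne h2
  have hq3 : (2 : ZMod 3) * Q u3 ≠ 0 := mul_ne_zero two_ne h3
  have hS : ∀ t ∈ LinearMap.ker f, t ≠ 0 →
      ∃ t' ∈ LinearMap.ker f, QuadraticMap.polar (⇑Q) t' t ≠ 0 := by
    intro t ht ht0
    rw [hf] at ht
    obtain ⟨x, hx⟩ := exists_polar_ne Q hQ ht0
    refine ⟨x - (QuadraticMap.polar (⇑Q) u1 x / (2 * Q u1)) • u1
      - (QuadraticMap.polar (⇑Q) u2 x / (2 * Q u2)) • u2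
      - (QuadraticMap.polar (⇑Q) u3 x / (2 * Q u3)) • u3, ?_, ?_⟩
    · rw [hf]
      refine ⟨?_, ?_, ?_⟩
      · rw [QuadraticMap.polar_sub_right, QuadraticMap.polar_sub_right,
          QuadraticMap.polar_sub_right, QuadraticMap.polar_smul_right,
          QuadraticMap.polar_smul_right, QuadraticMap.polar_smul_right, h12, h13, polar_self']
        simp only [smul_eq_mul]
        field_simp
        ring
      · rw [QuadraticMap.polar_sub_right, QuadraticMap.polar_sub_right,
          QuadraticMap.polar_sub_right, QuadraticMap.polar_smul_right,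
          QuadraticMap.polar_smul_right, QuadraticMap.polar_smul_right, h21, h23, polar_self']
        simp only [smul_eq_mul]
        field_simp
        ring
      · rw [QuadraticMap.polar_sub_right, QuadraticMap.polar_sub_right,
          QuadraticMap.polar_sub_right, QuadraticMap.polar_smul_right,
          QuadraticMap.polar_smul_right, QuadraticMap.polar_smul_right, h31, h32, polar_self']
        simp only [smul_eq_mul]
        field_simp
        ring
    · rw [QuadraticMap.polar_sub_left, QuadraticMap.polar_sub_left,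
        QuadraticMap.polar_sub_left, QuadraticMap.polar_smul_left,
        QuadraticMap.polar_smul_left, QuadraticMap.polar_smul_left, ht.1, ht.2.1, ht.2.2]
      simpa using hx
  obtain ⟨t, ht, hQt⟩ := exists_norm_of_nondeg_sub_two Q (LinearMap.ker f) hrank hS c hc
  rw [hf] at ht
  exact ⟨t, ht.1, ht.2.1, ht.2.2, hQt⟩

theorem zmod3_id3 : ∀ p q c : ZMod 3, p ≠ 0 → q ≠ 0 → c ≠ 0 →
    c + (-(2 * p * c)) * (-(2 * p * c)) * c + (-(2 * p * c)) * p
      + (-(2 * q * c)) * (-(2 * q * c)) * c + (-(2 * q * c)) * q ≠ 0 := by decide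

/-- two distinct reflections of norm `c` have a common orthogonal vector of norm `c` -/
theorem exists_common_orth (hn : 5 ≤ n) (hQ : (QuadraticMap.polarBilin Q).Nondegenerate)
    (c : ZMod 3) (hc : c ≠ 0) {u w : Fin n → ZMod 3} (hu : Q u = c) (hw : Q w = c)
    (hne : reflO Q u ≠ reflO Q w) :
    ∃ t, Q t = c ∧ QuadraticMap.polar (⇑Q) u t = 0 ∧ QuadraticMap.polar (⇑Q) w t = 0 := by
  by_cases hB : QuadraticMap.polar (⇑Q) u w = 0
  · obtain ⟨t, h1, h2, h3⟩ := exists_orth_norm Q hn hQ c hc u w hu hw hB c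
    exact ⟨t, h3, h1, h2⟩
  · obtain ⟨s, hQs, hus, hws, -⟩ := exists_sep Q hn hQ c hc hu hw hne
    have hu0 : Q u ≠ 0 := hu ▸ hc
    have hs0 : Q s ≠ 0 := hQs ▸ hc
    set p := QuadraticMap.polar (⇑Q) u w with hp
    set q := QuadraticMap.polar (⇑Q) s w with hq
    have hq0 : q ≠ 0 := by rw [hq, QuadraticMap.polar_comm]; exact hws
    set m := w + (-(2 * p * c)) • u + (-(2 * q * c)) • s with hm
    have hum : QuadraticMap.polar (⇑Q) u m = 0 := by
      rw [hm, QuadraticMap.polar_add_right, QuadraticMap.polar_add_right,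
        QuadraticMap.polar_smul_right, QuadraticMap.polar_smul_right, hus, polar_self', hu,
        ← hp, smul_eq_mul, smul_zero, add_zero]
      have := zmod3_id2 p c hc
      rw [← this]; ring
    have hsu : QuadraticMap.polar (⇑Q) s u = 0 := by rw [QuadraticMap.polar_comm]; exact hus
    have hsm : QuadraticMap.polar (⇑Q) s m = 0 := by
      rw [hm, QuadraticMap.polar_add_right, QuadraticMap.polar_add_right,
        QuadraticMap.polar_smul_right, QuadraticMap.polar_smul_right, hsu, polar_self', hQs,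
        ← hq]
      simp only [smul_eq_mul, mul_zero, add_zero]
      have := zmod3_id2 q c hc
      rw [← this]; ring
    have hQm : Q m ≠ 0 := by
      rw [hm, quad_add_smul, quad_add_smul, hw, hu, hQs, QuadraticMap.polar_add_left,
        QuadraticMap.polar_smul_left, hus, smul_zero, add_zero,
        QuadraticMap.polar_comm (⇑Q) w u, QuadraticMap.polar_comm (⇑Q) w s, ← hp, ← hq]
      exact zmod3_id3 p q c hB hq0 hc
    obtain ⟨t, h1, h2, h3, h4⟩ := exists_orth3_norm Q hn hQ c hc u s m hu0 hs0 hQm hus hum hsm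
    refine ⟨t, h4, h1, ?_⟩
    have hw' : w = m + (2 * p * c) • u + (2 * q * c) • s := by
      rw [hm]; simp only [neg_smul]; abel
    rw [hw', QuadraticMap.polar_add_left, QuadraticMap.polar_add_left,
      QuadraticMap.polar_smul_left, QuadraticMap.polar_smul_left, h1, h2, h3]
    simp

end Cfsg.Agent.Lib.Helper36.Refl3
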