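import Mathlib
import Cfsg.Prelude.Def_GeometricClasses
import Cfsg.Agent.Lib.Helper95.Transvection

/-!
# K-SLMax-N8c : `SL_n` (n ≥ 3) is not inside the similarity group of a nondegenerate quadratic form.
-/

set_option autoImplicit false

namespace Cfsg.Agent.Lib.Helper36.SLMax

open Cfsg Cfsg.Geo Cfsg.Agent.Lib.Helper95
open scoped Matrix MatrixGroups

variable {F : Type*} [Field F] {n : ℕ}

/-- In dimension at least three, two vectors do not span. -/
theorem exists_notMem_span_pair (hn : 3 ≤ n) (u x : Fin n → F) :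
    ∃ w : Fin n → F, w ∉ Submodule.span F ({u, x} : Set (Fin n → F)) := by
  classical
  by_contra hcon
  push Not at hcon
  have htop : Submodule.span F ({u, x} : Set (Fin n → F)) = ⊤ := by
    rw [eq_top_iff]; intro w _; exact hcon w
  have h1 : Module.finrank F (Submodule.span F ({u, x} : Set (Fin n → F))) ≤ 2 := by
    have h := finrank_span_finset_le_card (R := F) ({u, x} : Finset (Fin n → F))
    have h2 : ({u, x} : Finset (Fin n → F)).card ≤ 2 := Finset.card_le_two
    have h3 : ((({u, x} : Finset (Fin n → F)) : Set (Fin n → F))) = ({u, x} : Set (Fin n → F)) := by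
      simp
    rw [h3] at h
    exact h.trans h2
  rw [htop, finrank_top, Module.finrank_fin_fun] at h1
  omega

/-- The generic "one transvection" argument: a form `f`, additive in the second argument and
homogeneous there, with some `f u x ≠ 0`, is not preserved up to scalars by all of `SL_n`, `n ≥ 3`. -/
theorem exists_sl_not_similar (hn : 3 ≤ n) (f : (Fin n → F) → (Fin n → F) → F)
    (hadd : ∀ v x y, f v (x + y) = f v x + f v y)
    (hsmul : ∀ (c : F) (v x : Fin n → F), f v (c • x) = c * f v x)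
    (u x : Fin n → F) (hux : f u x ≠ 0) :
    ∃ g ∈ specialLinear (Fin n) F, ∃ a b : Fin n → F, f a b = 0 ∧
      f ((g : Matrix (Fin n) (Fin n) F) *ᵥ a) ((g : Matrix (Fin n) (Fin n) F) *ᵥ b) ≠ 0 := by
  obtain ⟨w, hw⟩ := exists_notMem_span_pair hn u x
  set S : Submodule F (Fin n → F) := Submodule.span F ({u, x} : Set (Fin n → F)) with hS
  have huS : u ∈ S := Submodule.subset_span (by simp)
  have hxS : x ∈ S := Submodule.subset_span (by simp)
  -- `v = w - (f u w / f u x) • x`
  set v : Fin n → F := w + (-(f u w / f u x)) • x with hv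
  have hvS : v ∉ S := by
    intro hvS
    apply hw
    have : w = v - (-(f u w / f u x)) • x := by rw [hv]; abel
    rw [this]
    exact S.sub_mem hvS (S.smul_mem _ hxS)
  have hfv : f u v = 0 := by
    rw [hv, hadd, hsmul]
    field_simp
    ring
  obtain ⟨φ, hφS, hφv⟩ := exists_dotProduct_separating S v hvS
  have hφx : φ ⬝ᵥ x = 0 := hφS x hxS
  have hφu : φ ⬝ᵥ u = 0 := hφS u huS
  refine ⟨tvGL φ x hφx, tvGL_mem_specialLinear φ x hφx, u, v, hfv, ?_⟩
  rw [tvGL_val, tvMat_mulVec, tvMat_mulVec, hφu, hφv, zero_smul, add_zero, one_smul, hadd, hfv, zero_add]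
  exact hux

end Cfsg.Agent.Lib.Helper36.SLMax

namespace Cfsg.Agent.Lib.Helper36.SLMax

open Cfsg Cfsg.Geo Cfsg.Agent.Lib.Helper95
open scoped Matrix MatrixGroups

variable {F : Type*} [Field F] [Fintype F] {n : ℕ}

/-- K-SLMax-N8c. -/
theorem sl_not_le_quadSimilarityGroup (hn : 3 ≤ n) (Q : (Fin n → F) → F)
    (hQ : IsNondegenerateQuadraticForm Q) :
    ¬ specialLinear (Fin n) F ≤ quadSimilarityGroup Q := by
  intro hle
  have hn0 : 0 < n := by omega
  -- a nonzero vector
  set u : Fin n → F := Pi.single ⟨0, hn0⟩ 1 with hu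
  have hu0 : u ≠ 0 := by
    intro h
    have := congrFun h ⟨0, hn0⟩
    simp [hu] at this
  obtain ⟨x, hx⟩ := (hQ.nondegenerate u hu0).2
  obtain ⟨g, hg, a, b, hab, hgab⟩ := exists_sl_not_similar hn (QuadraticMap.polar Q)
    hQ.polar_bilinear.add_right hQ.polar_bilinear.smul_right u x hx
  obtain ⟨c, hc⟩ := hle hg
  apply hgab
  have : QuadraticMap.polar Q ((g : Matrix (Fin n) (Fin n) F) *ᵥ a) ((g : Matrix (Fin n) (Fin n) F) *ᵥ b)
      = (c : F) * QuadraticMap.polar Q a b := by
    unfold QuadraticMap.polar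
    rw [← Matrix.mulVec_add, hc, hc, hc]
    ring
  rw [this, hab, mul_zero]

end Cfsg.Agent.Lib.Helper36.SLMax
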