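import Mathlib

set_option autoImplicit false

/-! Abstract helper for K-S2038-J: a group of order 16 is generated by four elements chosen along a
chain of subgroups of orders 2, 4, 8, 16. -/

namespace Cfsg.Agent.Lib.Helper36.SchurTwo

theorem sup_zpowers_eq_of_card {G : Type*} [Group G] [Finite G] {K K' : Subgroup G} (hle : K ≤ K')
    (hc : Nat.card K' = 2 * Nat.card K) {n : G} (hn : n ∈ K') (hnK : n ∉ K) :
    K ⊔ Subgroup.zpowers n = K' := by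
  have hL : K ⊔ Subgroup.zpowers n ≤ K' := sup_le hle (Subgroup.zpowers_le.mpr hn)
  have hKL : K ≤ K ⊔ Subgroup.zpowers n := le_sup_left
  obtain ⟨m, hm⟩ := Subgroup.card_dvd_of_le hKL
  have d2 := Subgroup.card_dvd_of_le hL
  have hKpos : 0 < Nat.card K := Nat.card_pos
  rw [hm, hc, mul_comm 2] at d2
  have hm2 : m ∣ 2 := Nat.dvd_of_mul_dvd_mul_left hKpos d2
  have hmle : m ≤ 2 := Nat.le_of_dvd (by norm_num) hm2
  have hmpos : 0 < m := Nat.pos_of_dvd_of_pos hm2 (by norm_num)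
  have hcases : m = 1 ∨ m = 2 := by omega
  rcases hcases with h1 | h2
  · exfalso
    apply hnK
    have : K = K ⊔ Subgroup.zpowers n :=
      Subgroup.eq_of_le_of_card_ge hKL (by rw [hm, h1, mul_one])
    rw [this]
    exact Subgroup.mem_sup_right (Subgroup.mem_zpowers n)
  · exact Subgroup.eq_of_le_of_card_ge hL (by rw [hm, h2, hc, mul_comm])

theorem exists_gens_top_of_card_sixteen {N : Type*} [Group N] (hN : Nat.card N = 16) :
    ∃ n₁ n₂ n₃ n₄ : N, Subgroup.closure {n₁, n₂, n₃, n₄} = ⊤ ∧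
      n₁ ≠ 1 ∧ n₂ ≠ 1 ∧ n₃ ≠ 1 ∧ n₁ * n₂ ≠ 1 ∧ n₁ * n₃ ≠ 1 ∧ n₂ * n₃ ≠ 1 ∧ n₁ * (n₂ * n₃) ≠ 1 := by
  have : Finite N := Nat.finite_of_card_ne_zero (by omega)
  have : Fact (Nat.Prime 2) := ⟨Nat.prime_two⟩
  have hbot : Nat.card (⊥ : Subgroup N) = 2 ^ 0 := by simp
  obtain ⟨K1, hK1, -⟩ := Sylow.exists_subgroup_card_pow_prime_le 2
    (show 2 ^ 1 ∣ Nat.card N by rw [hN]; norm_num) ⊥ hbot (by norm_num)
  obtain ⟨K2, hK2, h12⟩ := Sylow.exists_subgroup_card_pow_prime_le 2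
    (show 2 ^ 2 ∣ Nat.card N by rw [hN]; norm_num) K1 hK1 (by norm_num)
  obtain ⟨K3, hK3, h23⟩ := Sylow.exists_subgroup_card_pow_prime_le 2
    (show 2 ^ 3 ∣ Nat.card N by rw [hN]; norm_num) K2 hK2 (by norm_num)
  have hTop : Nat.card (⊤ : Subgroup N) = 16 := by rw [Subgroup.card_top, hN]
  -- choose the elements
  have lt01 : (⊥ : Subgroup N) < K1 := by
    rw [bot_lt_iff_ne_bot]
    intro h
    rw [h, Subgroup.card_bot] at hK1
    norm_num at hK1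
  have lt12 : K1 < K2 := by
    refine lt_of_le_of_ne h12 ?_
    intro h
    rw [h, hK2] at hK1
    norm_num at hK1
  have lt23 : K2 < K3 := by
    refine lt_of_le_of_ne h23 ?_
    intro h
    rw [h, hK3] at hK2
    norm_num at hK2
  have lt34 : K3 < ⊤ := by
    refine lt_of_le_of_ne le_top ?_
    intro h
    rw [h, hTop] at hK3
    norm_num at hK3
  obtain ⟨n₁, hn₁, hn₁'⟩ := SetLike.exists_of_lt lt01
  obtain ⟨n₂, hn₂, hn₂'⟩ := SetLike.exists_of_lt lt12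
  obtain ⟨n₃, hn₃, hn₃'⟩ := SetLike.exists_of_lt lt23
  obtain ⟨n₄, hn₄, hn₄'⟩ := SetLike.exists_of_lt lt34
  have e1 : ⊥ ⊔ Subgroup.zpowers n₁ = K1 :=
    sup_zpowers_eq_of_card bot_le (by rw [hK1, Subgroup.card_bot]; norm_num) hn₁ hn₁'
  have e2 : K1 ⊔ Subgroup.zpowers n₂ = K2 :=
    sup_zpowers_eq_of_card h12 (by rw [hK1, hK2]; norm_num) hn₂ hn₂'
  have e3 : K2 ⊔ Subgroup.zpowers n₃ = K3 :=
    sup_zpowers_eq_of_card h23 (by rw [hK2, hK3]; norm_num) hn₃ hn₃'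
  have e4 : K3 ⊔ Subgroup.zpowers n₄ = ⊤ :=
    sup_zpowers_eq_of_card le_top (by rw [hK3, hTop]; norm_num) hn₄ hn₄'
  have hz : ∀ n ∈ ({n₁, n₂, n₃, n₄} : Set N),
      Subgroup.zpowers n ≤ Subgroup.closure {n₁, n₂, n₃, n₄} := fun n hn =>
    Subgroup.zpowers_le.mpr (Subgroup.subset_closure hn)
  have c1 : K1 ≤ Subgroup.closure {n₁, n₂, n₃, n₄} := by
    rw [← e1]; exact sup_le bot_le (hz n₁ (by simp))
  have c2 : K2 ≤ Subgroup.closure {n₁, n₂, n₃, n₄} := by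
    rw [← e2]; exact sup_le c1 (hz n₂ (by simp))
  have c3 : K3 ≤ Subgroup.closure {n₁, n₂, n₃, n₄} := by
    rw [← e3]; exact sup_le c2 (hz n₃ (by simp))
  have c4 : ⊤ ≤ Subgroup.closure {n₁, n₂, n₃, n₄} := by
    rw [← e4]; exact sup_le c3 (hz n₄ (by simp))
  have m1 : n₁ ∈ K2 := h12 hn₁
  refine ⟨n₁, n₂, n₃, n₄, top_le_iff.mp c4, ?_, ?_, ?_, ?_, ?_, ?_, ?_⟩
  · intro h; exact hn₁' (by rw [h]; exact Subgroup.one_mem _)
  · intro h; exact hn₂' (by rw [h]; exact Subgroup.one_mem _)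
  · intro h; exact hn₃' (by rw [h]; exact Subgroup.one_mem _)
  · intro h
    apply hn₂'
    have : n₂ = n₁⁻¹ := (inv_eq_of_mul_eq_one_right h).symm
    rw [this]; exact Subgroup.inv_mem _ hn₁
  · intro h
    apply hn₃'
    have : n₃ = n₁⁻¹ := (inv_eq_of_mul_eq_one_right h).symm
    rw [this]; exact Subgroup.inv_mem _ m1
  · intro h
    apply hn₃'
    have : n₃ = n₂⁻¹ := (inv_eq_of_mul_eq_one_right h).symm
    rw [this]; exact Subgroup.inv_mem _ hn₂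
  · intro h
    apply hn₃'
    have h' : (n₁ * n₂) * n₃ = 1 := by rw [mul_assoc]; exact h
    have : n₃ = (n₁ * n₂)⁻¹ := (inv_eq_of_mul_eq_one_right h').symm
    rw [this]; exact Subgroup.inv_mem _ (Subgroup.mul_mem _ m1 hn₂)

/-- version for a subgroup of an ambient group -/
theorem exists_gens_of_card_sixteen {G : Type*} [Group G] (N : Subgroup G) (hN : Nat.card N = 16) :
    ∃ n₁ n₂ n₃ n₄ : G, n₁ ∈ N ∧ n₂ ∈ N ∧ n₃ ∈ N ∧ n₄ ∈ N ∧
      N ≤ Subgroup.closure {n₁, n₂, n₃, n₄} ∧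
      n₁ ≠ 1 ∧ n₂ ≠ 1 ∧ n₃ ≠ 1 ∧ n₁ * n₂ ≠ 1 ∧ n₁ * n₃ ≠ 1 ∧ n₂ * n₃ ≠ 1 ∧ n₁ * (n₂ * n₃) ≠ 1 := by
  obtain ⟨m₁, m₂, m₃, m₄, hcl, h1, h2, h3, h12, h13, h23, h123⟩ :=
    exists_gens_top_of_card_sixteen hN
  have hc : ∀ m : ↥N, m ≠ 1 → (m : G) ≠ 1 := fun m hm h => hm (Subtype.ext h)
  refine ⟨m₁, m₂, m₃, m₄, m₁.2, m₂.2, m₃.2, m₄.2, ?_, hc _ h1, hc _ h2, hc _ h3, hc _ h12, hc _ h13,
    hc _ h23, hc _ h123⟩
  intro g hg
  have h1 : (⟨g, hg⟩ : ↥N) ∈ Subgroup.closure {m₁, m₂, m₃, m₄} := by rw [hcl]; trivial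
  have h2 : N.subtype ⟨g, hg⟩ ∈ (Subgroup.closure {m₁, m₂, m₃, m₄}).map N.subtype :=
    Subgroup.mem_map_of_mem _ h1
  rw [MonoidHom.map_closure] at h2
  have e : (N.subtype '' ({m₁, m₂, m₃, m₄} : Set ↥N)) = {(m₁ : G), (m₂ : G), (m₃ : G), (m₄ : G)} := by
    simp [Set.image_insert_eq]
  rw [e] at h2
  exact h2

end Cfsg.Agent.Lib.Helper36.SchurTwo
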