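import Cfsg.Agent.Lib.Helper36.SchurTwoGen
import Cfsg.Agent.S1554
import Cfsg.Agent.S0381
import Cfsg.Agent.Lib.Helper23.SchurTwoE
import Cfsg.Agent.Lib.Helper92.M24Invol
import Cfsg.Agent.Lib.Helper36.OctadTrios
import Cfsg.Agent.Lib.Helper35.M24Base

set_option autoImplicit false

/-! K-S2038-J: the explicit 2-local package in `M24` (octad stabiliser `2^4 : A_8`). -/

namespace Cfsg.Agent.Lib.Helper36.SchurTwo

open Cfsg MulAction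
open Cfsg.Agent.Lib.Helper35
open Cfsg.Agent.Lib.Helper10 (idx pt idx_pt idx_lt pt_idx card_M24 wordPerm)
open Cfsg.Agent.Lib.Helper92 (invol_conj z1w z2w z1_fixed_mem_octads z2_fixed orderOf_eq_two_of)
open scoped Pointwise

/-! ### explicit elements -/

def cT : List ℕ := [1, 12, 0, 3, 2, 11, 14, 7, 21, 18, 10, 19, 4, 5, 16, 22, 15, 17, 8, 23, 9, 20, 6, 13]
def cT' : List ℕ := [2, 0, 4, 3, 12, 13, 22, 7, 18, 20, 10, 5, 1, 23, 6, 16, 14, 17, 9, 11, 21, 8, 15, 19]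
theorem cT_ok : TblOK cT cT' := by decide +kernel
def cP : Equiv.Perm GolayPt := tblPerm cT cT' cT_ok
theorem cP_mem : cP ∈ M24 := tblPerm_mem_M24 _ _ _ (by decide +kernel)
theorem cP_models : Models gmask cP (applyTbl cT) := tblPerm_models _ _ _
theorem cP_fix : cP • x0 = x0 := by
  apply gmask_injective
  rw [cP_models x0, gmask_x0]
  decide +kernel
theorem cP_p : cP (pt 17) = pt 17 := by decide +kernel
theorem cP_x : cP (pt 3) = pt 3 := by decide +kernel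
theorem cP_pow5 : ∀ q : GolayPt, cP (cP (cP (cP (cP q)))) = q := by decide +kernel
theorem cP_outside : ∀ q : GolayPt, q ∉ x0 → cP q = q → q = pt 17 := by decide +kernel
theorem x_mem : pt 3 ∈ x0 := by decide +kernel
theorem p_not_mem : pt 17 ∉ x0 := by decide +kernel

def aT : List ℕ := [13, 1, 16, 3, 4, 5, 8, 19, 6, 9, 10, 21, 18, 0, 15, 14, 2, 20, 12, 7, 17, 11, 22, 23]
theorem aT_ok : TblOK aT aT := by decide +kernel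
def aP : Equiv.Perm GolayPt := tblPerm aT aT aT_ok
theorem aP_mem : aP ∈ M24 := tblPerm_mem_M24 _ _ _ (by decide +kernel)

def bT : List ℕ := [0, 1, 18, 3, 9, 5, 8, 7, 6, 4, 23, 17, 16, 13, 15, 14, 12, 11, 2, 19, 21, 20, 22, 10]
theorem bT_ok : TblOK bT bT := by decide +kernel
def bP : Equiv.Perm GolayPt := tblPerm bT bT bT_ok
theorem bP_mem : bP ∈ M24 := tblPerm_mem_M24 _ _ _ (by decide +kernel)

def dT : List ℕ := [0, 5, 16, 22, 10, 1, 8, 7, 6, 23, 4, 11, 18, 13, 15, 14, 2, 17, 12, 19, 20, 21, 3, 9]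
theorem dT_ok : TblOK dT dT := by decide +kernel
def dP : Equiv.Perm GolayPt := tblPerm dT dT dT_ok
theorem dP_mem : dP ∈ M24 := tblPerm_mem_M24 _ _ _ (by decide +kernel)

theorem a_sq : ∀ q : GolayPt, aP (aP q) = q := by decide +kernel
theorem b_sq : ∀ q : GolayPt, bP (bP q) = q := by decide +kernel
theorem d_sq : ∀ q : GolayPt, dP (dP q) = q := by decide +kernel
theorem ab_sq : ∀ q : GolayPt, aP (bP (aP (bP q))) = q := by decide +kernel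
theorem ad_sq : ∀ q : GolayPt, aP (dP (aP (dP q))) = q := by decide +kernel
theorem bd_sq : ∀ q : GolayPt, bP (dP (bP (dP q))) = q := by decide +kernel
theorem abd_sq : ∀ q : GolayPt, aP (bP (dP (aP (bP (dP q))))) = q := by decide +kernel
theorem abd_fpf : ∀ q : GolayPt, aP (bP (dP q)) ≠ q := by decide +kernel
theorem a_fix : aP (pt 1) = pt 1 ∧ aP (pt 0) ≠ pt 0 := by decide +kernel
theorem b_fix : bP (pt 0) = pt 0 ∧ bP (pt 2) ≠ pt 2 := by decide +kernel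
theorem d_fix : dP (pt 0) = pt 0 ∧ dP (pt 1) ≠ pt 1 := by decide +kernel
theorem ab_fix : aP (bP (pt 1)) = pt 1 ∧ aP (bP (pt 0)) ≠ pt 0 := by decide +kernel
theorem ad_fix : aP (dP (pt 2)) = pt 2 ∧ aP (dP (pt 0)) ≠ pt 0 := by decide +kernel
theorem bd_fix : bP (dP (pt 0)) = pt 0 ∧ bP (dP (pt 1)) ≠ pt 1 := by decide +kernel

/-! ### involution classes -/

theorem perm_inv_fix {α : Type*} {g : Equiv.Perm α} {q : α} (h : g q = q) : g⁻¹ q = q := by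
  rw [Equiv.Perm.inv_eq_iff_eq, h]

theorem z1_has_fix : ∃ r : GolayPt, wordPerm z1w r = r := by
  have h := z1_fixed_mem_octads
  have hc : (Finset.univ.filter fun p : GolayPt => wordPerm z1w p = p).card = 8 := h.2
  have hne : (Finset.univ.filter fun p : GolayPt => wordPerm z1w p = p).Nonempty := by
    rw [← Finset.card_pos, hc]; norm_num
  obtain ⟨r, hr⟩ := hne
  exact ⟨r, (Finset.mem_filter.mp hr).2⟩

theorem conj_z1_of_fix {τ : Equiv.Perm GolayPt} (hτ : τ ∈ M24) (h2 : τ * τ = 1) (h1 : τ ≠ 1)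
    {q : GolayPt} (hq : τ q = q) : ∃ k ∈ M24, k * τ * k⁻¹ = wordPerm z1w := by
  obtain ⟨k, hk, h | h⟩ := invol_conj τ hτ (orderOf_eq_two_of ⟨h2, h1⟩)
  · exact ⟨k, hk, h⟩
  · exfalso
    apply z2_fixed (k q)
    rw [← h, Equiv.Perm.mul_apply, Equiv.Perm.mul_apply, perm_inv_apply, hq]

theorem conj_z2_of_fpf {τ : Equiv.Perm GolayPt} (hτ : τ ∈ M24) (h2 : τ * τ = 1) (h1 : τ ≠ 1)
    (hq : ∀ q, τ q ≠ q) : ∃ k ∈ M24, k * τ * k⁻¹ = wordPerm z2w := by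
  obtain ⟨k, hk, h | h⟩ := invol_conj τ hτ (orderOf_eq_two_of ⟨h2, h1⟩)
  · exfalso
    obtain ⟨r, hr⟩ := z1_has_fix
    apply hq (k⁻¹ r)
    have : τ = k⁻¹ * wordPerm z1w * k := by rw [← h]; group
    rw [this, Equiv.Perm.mul_apply, Equiv.Perm.mul_apply, perm_apply_inv, hr]
  · exact ⟨k, hk, h⟩

theorem conj_of_conj_same {τ σ z k₁ k₂ : Equiv.Perm GolayPt} (h₁ : k₁ * τ * k₁⁻¹ = z)
    (h₂ : k₂ * σ * k₂⁻¹ = z) : (k₂⁻¹ * k₁) * τ * (k₂⁻¹ * k₁)⁻¹ = σ := by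
  have : σ = k₂⁻¹ * z * k₂ := by rw [← h₂]; group
  rw [this, ← h₁]; group

/-- two involutions of `M24` with fixed points are conjugate -/
theorem conj_of_fix (τ σ : ↥M24) (hτ2 : τ * τ = 1) (hτ1 : τ ≠ 1) (hσ2 : σ * σ = 1) (hσ1 : σ ≠ 1)
    (fτ : ∃ q, (τ : Equiv.Perm GolayPt) q = q) (fσ : ∃ q, (σ : Equiv.Perm GolayPt) q = q) :
    ∃ g : ↥M24, g * τ * g⁻¹ = σ := by
  obtain ⟨q, hq⟩ := fτ
  obtain ⟨r, hr⟩ := fσ
  have c2 : ∀ ρ : ↥M24, ρ * ρ = 1 → (ρ : Equiv.Perm GolayPt) * ρ = 1 := fun ρ h => by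
    rw [← Subgroup.coe_mul, h, Subgroup.coe_one]
  have c1 : ∀ ρ : ↥M24, ρ ≠ 1 → (ρ : Equiv.Perm GolayPt) ≠ 1 := fun ρ h h' => h (Subtype.ext h')
  obtain ⟨k₁, hk₁, e₁⟩ := conj_z1_of_fix τ.2 (c2 τ hτ2) (c1 τ hτ1) hq
  obtain ⟨k₂, hk₂, e₂⟩ := conj_z1_of_fix σ.2 (c2 σ hσ2) (c1 σ hσ1) hr
  refine ⟨⟨k₂⁻¹ * k₁, M24.mul_mem (M24.inv_mem hk₂) hk₁⟩, Subtype.ext ?_⟩
  rw [Subgroup.coe_mul, Subgroup.coe_mul, Subgroup.coe_inv]
  exact conj_of_conj_same e₁ e₂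

/-- two fixed-point-free involutions of `M24` are conjugate -/
theorem conj_of_fpf (τ σ : ↥M24) (hτ2 : τ * τ = 1) (hτ1 : τ ≠ 1) (hσ2 : σ * σ = 1) (hσ1 : σ ≠ 1)
    (fτ : ∀ q, (τ : Equiv.Perm GolayPt) q ≠ q) (fσ : ∀ q, (σ : Equiv.Perm GolayPt) q ≠ q) :
    ∃ g : ↥M24, g * τ * g⁻¹ = σ := by
  have c2 : ∀ ρ : ↥M24, ρ * ρ = 1 → (ρ : Equiv.Perm GolayPt) * ρ = 1 := fun ρ h => by
    rw [← Subgroup.coe_mul, h, Subgroup.coe_one]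
  have c1 : ∀ ρ : ↥M24, ρ ≠ 1 → (ρ : Equiv.Perm GolayPt) ≠ 1 := fun ρ h h' => h (Subtype.ext h')
  obtain ⟨k₁, hk₁, e₁⟩ := conj_z2_of_fpf τ.2 (c2 τ hτ2) (c1 τ hτ1) fτ
  obtain ⟨k₂, hk₂, e₂⟩ := conj_z2_of_fpf σ.2 (c2 σ hσ2) (c1 σ hσ1) fσ
  refine ⟨⟨k₂⁻¹ * k₁, M24.mul_mem (M24.inv_mem hk₂) hk₁⟩, Subtype.ext ?_⟩
  rw [Subgroup.coe_mul, Subgroup.coe_mul, Subgroup.coe_inv]
  exact conj_of_conj_same e₁ e₂

/-! ### the subgroups -/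

abbrev Ab : Subgroup (Equiv.Perm GolayPt) := octStab x0 ⊓ stabilizer (Equiv.Perm GolayPt) (pt 17)
abbrev A7b : Subgroup (Equiv.Perm GolayPt) :=
  octStab x0 ⊓ stabilizer (Equiv.Perm GolayPt) (pt 17) ⊓ stabilizer (Equiv.Perm GolayPt) (pt 3)

abbrev HH : Subgroup ↥M24 := (octStab x0).subgroupOf M24
abbrev NN : Subgroup ↥M24 := (octFix x0).subgroupOf M24
abbrev AA : Subgroup ↥M24 := Ab.subgroupOf M24
abbrev AA7 : Subgroup ↥M24 := A7b.subgroupOf M24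

theorem Hb_le : octStab x0 ≤ M24 := inf_le_left
theorem Nb_le : octFix x0 ≤ M24 := inf_le_left
theorem Ab_le : Ab ≤ M24 := inf_le_left.trans inf_le_left
theorem A7b_le : A7b ≤ M24 := inf_le_left.trans Ab_le

theorem card_NN : Nat.card ↥NN = 16 := by
  rw [Nat.card_congr (Subgroup.subgroupOfEquivOfLe Nb_le).toEquiv]
  exact (Cfsg.Agent.S0381.result x0 x0_mem_octads).1

theorem index_HH : ¬ 2 ∣ HH.index := by
  have h1 : Nat.card ↥HH = 322560 := by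
    rw [Nat.card_congr (Subgroup.subgroupOfEquivOfLe Hb_le).toEquiv]
    exact Cfsg.Agent.Lib.Helper36.OctadTrios.card_octad_stab' x0 x0_mem_octads
  have h2 := Subgroup.card_mul_index HH
  rw [h1, card_M24] at h2
  omega

theorem equiv_AA : Nonempty (↥AA ≃* alternatingGroup (Fin 8)) := by
  obtain ⟨e⟩ := (Cfsg.Agent.S1554.result x0 x0_mem_octads (pt 17) p_not_mem).2.2
  exact ⟨(Subgroup.subgroupOfEquivOfLe Ab_le).trans e⟩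

theorem equiv_AA7 : Nonempty (↥AA7 ≃* alternatingGroup (Fin 7)) := by
  obtain ⟨e⟩ := Cfsg.Agent.Lib.Helper23.SchurTwo.complement_equiv_alt_seven x0 x0_mem_octads
    (pt 17) p_not_mem (pt 3) x_mem
  exact ⟨(Subgroup.subgroupOfEquivOfLe A7b_le).trans e⟩

theorem AA7_le : AA7 ≤ AA := by
  intro g hg
  rw [Subgroup.mem_subgroupOf] at hg ⊢
  exact hg.1

theorem index_AA7 : (AA7.subgroupOf AA).index = 8 := by
  obtain ⟨e8⟩ := equiv_AA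
  obtain ⟨e7⟩ := equiv_AA7
  have h8 : Nat.card ↥AA = 20160 := by
    rw [Nat.card_congr e8.toEquiv, nat_card_alternatingGroup]
    simp [Nat.factorial]
  have h7 : Nat.card ↥AA7 = 2520 := by
    rw [Nat.card_congr e7.toEquiv, nat_card_alternatingGroup]
    simp [Nat.factorial]
  have h1 : Nat.card ↥(AA7.subgroupOf AA) = 2520 := by
    rw [Nat.card_congr (Subgroup.subgroupOfEquivOfLe AA7_le).toEquiv, h7]
  have h2 := Subgroup.card_mul_index (AA7.subgroupOf AA)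
  rw [h1, h8] at h2
  omega

theorem NN_le : NN ≤ HH := by
  intro g hg
  rw [Subgroup.mem_subgroupOf] at hg ⊢
  exact Cfsg.Agent.S1554.octFix_le_octStab x0 hg

theorem AA_le : AA ≤ HH := by
  intro g hg
  rw [Subgroup.mem_subgroupOf] at hg ⊢
  exact hg.1

theorem normal_NN : ∀ h ∈ HH, ∀ n ∈ NN, h * n * h⁻¹ ∈ NN := by
  intro h hh n hn
  rw [Subgroup.mem_subgroupOf] at hh hn ⊢
  have h1 := conj_mem_octFix (a := (h : Equiv.Perm GolayPt)) h.2 hn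
  have h2 : (h : Equiv.Perm GolayPt) • x0 = x0 := mem_stabilizer_iff.mp hh.2
  rw [h2] at h1
  rw [Subgroup.coe_mul, Subgroup.coe_mul, Subgroup.coe_inv]
  exact h1

theorem decomp_HH : ∀ h ∈ HH, ∃ n ∈ NN, ∃ a ∈ AA, h = n * a := by
  intro h hh
  rw [Subgroup.mem_subgroupOf] at hh
  obtain ⟨k, hk, a, ha, hka⟩ := Cfsg.Agent.S1554.decompose x0_mem_octads p_not_mem hh
  refine ⟨⟨k, Nb_le hk⟩, ?_, ⟨a, Ab_le ha⟩, ?_, ?_⟩
  · rw [Subgroup.mem_subgroupOf]; exact hk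
  · rw [Subgroup.mem_subgroupOf]; exact ha
  · apply Subtype.ext
    rw [Subgroup.coe_mul]
    exact hka.symm

theorem disj_NN_AA : ∀ x ∈ NN, x ∈ AA → x = 1 := by
  intro g hn ha
  rw [Subgroup.mem_subgroupOf] at hn ha
  have h1 : (g : Equiv.Perm GolayPt) ∈ octFix x0 ⊓ Ab := ⟨hn, ha⟩
  have h2 := Cfsg.Agent.S1554.part_a x0_mem_octads p_not_mem
  rw [h2, Subgroup.mem_bot] at h1
  exact Subtype.ext h1

theorem exp_NN : ∀ n ∈ NN, n * n = 1 := by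
  intro n hn
  rw [Subgroup.mem_subgroupOf] at hn
  apply Subtype.ext
  rw [Subgroup.coe_mul]
  exact (Cfsg.Agent.S0381.result x0 x0_mem_octads).2 _ hn

/-- the element of order five -/
def cc : ↥M24 := ⟨cP, cP_mem⟩

theorem cc_mem : cc ∈ AA7 := by
  rw [Subgroup.mem_subgroupOf]
  exact ⟨⟨⟨cP_mem, mem_stabilizer_iff.mpr cP_fix⟩, mem_stabilizer_iff.mpr cP_p⟩,
    mem_stabilizer_iff.mpr cP_x⟩

theorem cc_pow : cc ^ 5 = 1 := by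
  apply Subtype.ext
  rw [Subgroup.coe_pow, Subgroup.coe_one]
  ext1 q
  simp only [pow_succ, pow_zero, one_mul, Equiv.Perm.mul_apply, Equiv.Perm.one_apply]
  exact cP_pow5 q

theorem fixed_of_mem_NN {n : ↥M24} (hn : n ∈ NN) {y : GolayPt} (hy : y ∈ x0) :
    (n : Equiv.Perm GolayPt) y = y := by
  rw [Subgroup.mem_subgroupOf, mem_octFix] at hn
  exact hn.2 y hy

theorem cc_free : ∀ n ∈ NN, cc * n * cc⁻¹ = n → n = 1 := by
  intro n hn h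
  have hn' : (n : Equiv.Perm GolayPt) ∈ octFix x0 := Subgroup.mem_subgroupOf.mp hn
  have h1 : cP * (n : Equiv.Perm GolayPt) * cP⁻¹ = n := by
    have := congrArg Subtype.val h
    rw [Subgroup.coe_mul, Subgroup.coe_mul, Subgroup.coe_inv] at this
    exact this
  have h2 : cP ((n : Equiv.Perm GolayPt) (pt 17)) = (n : Equiv.Perm GolayPt) (pt 17) := by
    have := congrArg (fun σ : Equiv.Perm GolayPt => σ (pt 17)) h1
    simp only [Equiv.Perm.mul_apply] at this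
    rw [perm_inv_fix cP_p] at this
    exact this
  have h3 : (n : Equiv.Perm GolayPt) (pt 17) ∉ x0 := by
    intro hmem
    have h4 := fixed_of_mem_NN hn hmem
    have h5 := (n : Equiv.Perm GolayPt).injective h4
    exact p_not_mem (h5 ▸ hmem)
  have h6 := cP_outside _ h3 h2
  exact Subtype.ext (octFix_free x0_mem_octads hn' p_not_mem h6)

/-! ### the elements `a`, `b`, `d` -/

def ea : ↥M24 := ⟨aP, aP_mem⟩
def eb : ↥M24 := ⟨bP, bP_mem⟩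
def ed : ↥M24 := ⟨dP, dP_mem⟩

theorem invol_of {τ : ↥M24} (h : ∀ q, (τ : Equiv.Perm GolayPt) ((τ : Equiv.Perm GolayPt) q) = q)
    {r : GolayPt} (hr : (τ : Equiv.Perm GolayPt) r ≠ r) : τ * τ = 1 ∧ τ ≠ 1 := by
  refine ⟨Subtype.ext (Equiv.ext h), ?_⟩
  intro h1
  apply hr
  rw [h1]
  rfl

/-- K-S2038-J (explicit 2-local package for `M24`). -/
theorem m24_two_package :
    ∃ (H N A A₇ : Subgroup ↥Cfsg.M24) (n₁ n₂ n₃ n₄ c a b d : ↥Cfsg.M24),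
      ¬ 2 ∣ H.index ∧ N ≤ H ∧ A ≤ H ∧
      (∀ h ∈ H, ∀ n ∈ N, h * n * h⁻¹ ∈ N) ∧
      (∀ h ∈ H, ∃ n ∈ N, ∃ a ∈ A, h = n * a) ∧
      (∀ x ∈ N, x ∈ A → x = 1) ∧
      (∀ n ∈ N, n * n = 1) ∧
      Nonempty (↥A ≃* alternatingGroup (Fin 8)) ∧
      A₇ ≤ A ∧ Nonempty (↥A₇ ≃* alternatingGroup (Fin 7)) ∧ (A₇.subgroupOf A).index = 8 ∧
      n₁ ∈ N ∧ n₂ ∈ N ∧ n₃ ∈ N ∧ n₄ ∈ N ∧ N ≤ Subgroup.closure {n₁, n₂, n₃, n₄} ∧
      c ∈ A₇ ∧ c ^ 5 = 1 ∧ (∀ n ∈ N, c * n * c⁻¹ = n → n = 1) ∧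
      (∀ τ : ↥Cfsg.M24, τ * τ = 1 → τ = 1 ∨ (∃ g : ↥Cfsg.M24, g * τ * g⁻¹ = n₁) ∨
        ∃ g : ↥Cfsg.M24, g * τ * g⁻¹ = a * (b * d)) ∧
      n₂ ≠ 1 ∧ n₃ ≠ 1 ∧ n₁ * n₂ ≠ 1 ∧ n₁ * n₃ ≠ 1 ∧ n₂ * n₃ ≠ 1 ∧ n₁ * (n₂ * n₃) ≠ 1 ∧
      (∀ v ∈ N, v ≠ 1 → ∃ g : ↥Cfsg.M24, g * v * g⁻¹ = n₁) ∧
      (∃ g : ↥Cfsg.M24, g * a * g⁻¹ = n₁) ∧ (∃ g : ↥Cfsg.M24, g * b * g⁻¹ = n₁) ∧
      (∃ g : ↥Cfsg.M24, g * d * g⁻¹ = n₁) ∧ (∃ g : ↥Cfsg.M24, g * (a * b) * g⁻¹ = n₁) ∧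
      (∃ g : ↥Cfsg.M24, g * (a * d) * g⁻¹ = n₁) ∧ (∃ g : ↥Cfsg.M24, g * (b * d) * g⁻¹ = n₁) := by
  obtain ⟨n₁, n₂, n₃, n₄, hn₁, hn₂, hn₃, hn₄, hgen, h1, h2, h3, h12, h13, h23, h123⟩ :=
    exists_gens_of_card_sixteen NN card_NN
  have n1sq : n₁ * n₁ = 1 := exp_NN n₁ hn₁
  have n1fix : ∃ q, (n₁ : Equiv.Perm GolayPt) q = q := ⟨pt 3, fixed_of_mem_NN hn₁ x_mem⟩
  have ia : ea * ea = 1 ∧ ea ≠ 1 := invol_of (τ := ea) (fun q => a_sq q) (r := pt 0) a_fix.2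
  have ib : eb * eb = 1 ∧ eb ≠ 1 := invol_of (τ := eb) (fun q => b_sq q) (r := pt 2) b_fix.2
  have id' : ed * ed = 1 ∧ ed ≠ 1 := invol_of (τ := ed) (fun q => d_sq q) (r := pt 1) d_fix.2
  have iab : (ea * eb) * (ea * eb) = 1 ∧ ea * eb ≠ 1 :=
    invol_of (τ := ea * eb) (fun q => ab_sq q) (r := pt 0) ab_fix.2
  have iad : (ea * ed) * (ea * ed) = 1 ∧ ea * ed ≠ 1 :=
    invol_of (τ := ea * ed) (fun q => ad_sq q) (r := pt 0) ad_fix.2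
  have ibd : (eb * ed) * (eb * ed) = 1 ∧ eb * ed ≠ 1 :=
    invol_of (τ := eb * ed) (fun q => bd_sq q) (r := pt 1) bd_fix.2
  have iabd : (ea * (eb * ed)) * (ea * (eb * ed)) = 1 ∧ ea * (eb * ed) ≠ 1 :=
    invol_of (τ := ea * (eb * ed)) (fun q => abd_sq q) (r := pt 0) (abd_fpf (pt 0))
  have hcl : ∀ τ : ↥M24, τ * τ = 1 → τ = 1 ∨ (∃ g : ↥M24, g * τ * g⁻¹ = n₁) ∨
      ∃ g : ↥M24, g * τ * g⁻¹ = ea * (eb * ed) := by
    intro τ hτ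
    by_cases hτ1 : τ = 1
    · exact Or.inl hτ1
    · right
      by_cases hf : ∃ q, (τ : Equiv.Perm GolayPt) q = q
      · exact Or.inl (conj_of_fix τ n₁ hτ hτ1 n1sq h1 hf n1fix)
      · push Not at hf
        exact Or.inr (conj_of_fpf τ _ hτ hτ1 iabd.1 iabd.2 hf (fun q => abd_fpf q))
  have hv : ∀ v ∈ NN, v ≠ 1 → ∃ g : ↥M24, g * v * g⁻¹ = n₁ := fun v hv hv1 =>
    conj_of_fix v n₁ (exp_NN v hv) hv1 n1sq h1 ⟨pt 3, fixed_of_mem_NN hv x_mem⟩ n1fix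
  refine ⟨HH, NN, AA, AA7, n₁, n₂, n₃, n₄, cc, ea, eb, ed, index_HH, NN_le, AA_le, normal_NN,
    decomp_HH, disj_NN_AA, exp_NN, equiv_AA, AA7_le, equiv_AA7, index_AA7, hn₁, hn₂, hn₃, hn₄, hgen,
    cc_mem, cc_pow, cc_free, hcl, h2, h3, h12, h13, h23, h123, hv, ?_, ?_, ?_, ?_, ?_, ?_⟩
  · exact conj_of_fix ea n₁ ia.1 ia.2 n1sq h1 ⟨pt 1, a_fix.1⟩ n1fix
  · exact conj_of_fix eb n₁ ib.1 ib.2 n1sq h1 ⟨pt 0, b_fix.1⟩ n1fix
  · exact conj_of_fix ed n₁ id'.1 id'.2 n1sq h1 ⟨pt 0, d_fix.1⟩ n1fix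
  · exact conj_of_fix (ea * eb) n₁ iab.1 iab.2 n1sq h1 ⟨pt 1, ab_fix.1⟩ n1fix
  · exact conj_of_fix (ea * ed) n₁ iad.1 iad.2 n1sq h1 ⟨pt 2, ad_fix.1⟩ n1fix
  · exact conj_of_fix (eb * ed) n₁ ibd.1 ibd.2 n1sq h1 ⟨pt 0, bd_fix.1⟩ n1fix

end Cfsg.Agent.Lib.Helper36.SchurTwo
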