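import Cfsg.Agent.Lib.Helper36.M24Tools
import Cfsg.Agent.Lib.Helper36.Pairs
import Cfsg.Prelude.Def_SporadicCombinatorics

/-!
Kernel-checkable orbit computations on sets of sets of the 24 points (sextets, trios, ...).

* a generic depth-first walk certificate over an arbitrary code type;
* the encoding of a `Finset (Finset GolayPt)` as the strictly increasing list of the masks of its
  members, and the action of a table permutation on such codes;
* distinctness of a list of codes through a perfect hash into a big bitmap;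
* lower bounds for orbit sizes, and the final counting argument.
-/

set_option autoImplicit false

namespace Cfsg.Agent.Lib.Helper36

open Cfsg
open Cfsg.Agent.Lib.Helper10 (idx pt idx_pt idx_lt idx_injective enc enc_mod enc_lt)
open Cfsg.Agent.Lib.Helper35
open scoped Pointwise

/-! ### Generic walk certificates -/

section Walk

variable {α : Type*}

/-- The general certificate checker over an arbitrary code type. -/
def checkWalkG (step : ℕ → α → α → Bool) (n : ℕ) : List (ℕ × α) → List α → Bool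
  | [], _ => true
  | e :: rest, stack =>
    match stack with
    | [] => false
    | top :: st =>
      if e.1 < n then step e.1 top e.2 && checkWalkG step n rest (e.2 :: top :: st)
      else checkWalkG step n rest st

/-- The codes pushed by a certificate. -/
def pushedG (n : ℕ) (cert : List (ℕ × α)) : List α :=
  (cert.filter (fun e => decide (e.1 < n))).map Prod.snd

theorem checkWalkG_sound {step : ℕ → α → α → Bool} {n : ℕ} (R : α → Prop)
    (hstep : ∀ i top m, i < n → R top → step i top m = true → R m)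
    (cert : List (ℕ × α)) (stack : List α) (hstack : ∀ m ∈ stack, R m)
    (hc : checkWalkG step n cert stack = true) : ∀ m ∈ pushedG n cert, R m := by
  induction cert generalizing stack with
  | nil => intro m hm; simp [pushedG] at hm
  | cons e rest ih =>
    cases stack with
    | nil => simp [checkWalkG] at hc
    | cons top st =>
      unfold checkWalkG at hc
      by_cases he : e.1 < n
      · simp only [he, if_true, Bool.and_eq_true] at hc
        obtain ⟨hact, hrest⟩ := hc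
        have hnew : R e.2 := hstep e.1 top e.2 he (hstack top (by simp)) hact
        have hstack' : ∀ m ∈ e.2 :: top :: st, R m := by
          intro m hm
          rcases List.mem_cons.mp hm with rfl | hm'
          · exact hnew
          · exact hstack m hm'
        intro m hm
        have : m = e.2 ∨ m ∈ pushedG n rest := by
          simp only [pushedG, List.filter_cons, he, decide_true, if_true, List.map_cons,
            List.mem_cons] at hm
          exact hm
        rcases this with rfl | hm'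
        · exact hnew
        · exact ih _ hstack' hrest m hm'
      · simp only [he, if_false] at hc
        have hstack' : ∀ m ∈ st, R m :=
          fun m hm => hstack m (List.mem_cons_of_mem _ hm)
        intro m hm
        have : m ∈ pushedG n rest := by
          simp only [pushedG, List.filter_cons, he, decide_false] at hm
          exact hm
        exact ih _ hstack' hc m this

/-- The orbit certificate checker: step `i` applies the `i`-th action. -/
def checkDFSG [DecidableEq α] (acts : List (α → α)) (cert : List (ℕ × α)) (stack : List α) : Bool :=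
  checkWalkG (fun i top m => decide ((acts.getD i id) top = m)) acts.length cert stack

variable {G : Type*} [Group G] {X : Type*} [MulAction G X]

theorem forall₂_getD_G {H : Subgroup G} {e : X → α} {gs : List G}
    {acts : List (α → α)}
    (h : List.Forall₂ (fun g act => g ∈ H ∧ ∀ x, e (g • x) = act (e x)) gs acts) {i : ℕ}
    (hi : i < acts.length) : ∃ g ∈ H, ∀ x, e (g • x) = (acts.getD i id) (e x) := by
  induction h generalizing i with
  | nil => simp at hi
  | cons hga _ ih =>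
    cases i with
    | zero => exact ⟨_, hga.1, by simpa using hga.2⟩
    | succ j =>
      have hj := Nat.lt_of_succ_lt_succ (by simpa using hi)
      obtain ⟨g, hg, hm⟩ := ih hj
      exact ⟨g, hg, by simpa using hm⟩

/-- Soundness of orbit certificates. -/
theorem orbit_of_certG [DecidableEq α] {H : Subgroup G} {e : X → α} {gs : List G}
    {acts : List (α → α)}
    (hmod : List.Forall₂ (fun g act => g ∈ H ∧ ∀ x, e (g • x) = act (e x)) gs acts) (x₀ : X)
    (cert : List (ℕ × α)) (hc : checkDFSG acts cert [e x₀] = true) :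
    ∀ m ∈ e x₀ :: pushedG acts.length cert, ∃ g ∈ H, e (g • x₀) = m := by
  have hroot : ∃ g ∈ H, e (g • x₀) = e x₀ := ⟨1, H.one_mem, by rw [one_smul]⟩
  intro m hm
  rcases List.mem_cons.mp hm with rfl | hm'
  · exact hroot
  · refine checkWalkG_sound (fun m => ∃ g ∈ H, e (g • x₀) = m) ?_ cert [e x₀]
      (fun m hm => by rw [List.mem_singleton.mp hm]; exact hroot) hc m hm'
    rintro i top m hi ⟨a, ha, hta⟩ hact
    obtain ⟨g, hg, hm⟩ := forall₂_getD_G hmod hi
    refine ⟨g * a, H.mul_mem hg ha, ?_⟩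
    rw [mul_smul, hm, hta]
    exact of_decide_eq_true hact

end Walk

/-! ### Distinctness through a perfect hash -/

/-- All hashes are distinct: checked by marking them in a bitmap. -/
def distinctB {α : Type*} (h : α → ℕ) : List α → ℕ → Bool
  | [], _ => true
  | c :: cs, B => !(B.testBit (h c)) && distinctB h cs (B ||| 2 ^ (h c))

theorem distinctB_spec {α : Type*} (h : α → ℕ) (l : List α) (B : ℕ)
    (hd : distinctB h l B = true) : l.Nodup ∧ ∀ c ∈ l, B.testBit (h c) = false := by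
  induction l generalizing B with
  | nil => simp
  | cons c cs ih =>
    unfold distinctB at hd
    rw [Bool.and_eq_true] at hd
    obtain ⟨h1, h2⟩ := hd
    have h1' : B.testBit (h c) = false := by simpa using h1
    obtain ⟨ihn, ihb⟩ := ih _ h2
    have hb : ∀ c' ∈ cs, B.testBit (h c') = false ∧ h c' ≠ h c := by
      intro c' hc'
      have := ihb c' hc'
      rw [Nat.testBit_or, Bool.or_eq_false_iff] at this
      refine ⟨this.1, fun e => ?_⟩
      have h3 := this.2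
      rw [e, Nat.testBit_two_pow_self] at h3
      exact Bool.noConfusion h3
    refine ⟨List.nodup_cons.mpr ⟨fun hc => (hb c hc).2 rfl, ihn⟩, ?_⟩
    intro c' hc'
    rcases List.mem_cons.mp hc' with rfl | hc''
    · exact h1'
    · exact (hb c' hc'').1

theorem nodup_of_distinctB {α : Type*} (h : α → ℕ) (l : List α)
    (hd : distinctB h l 0 = true) : l.Nodup := (distinctB_spec h l 0 hd).1

/-- Hash of a list of masks. -/
def hashL (P : ℕ) (l : List ℕ) : ℕ := (l.foldl (fun acc m => acc * 16777216 + m) 1) % P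

/-! ### Orbits under a subgroup of the symmetric group -/

section Orb

variable {X : Type*} [MulAction (Equiv.Perm GolayPt) X]

/-- The orbit of `x` under a subgroup `K` of the symmetric group, as a plain set. -/
def orbK (K : Subgroup (Equiv.Perm GolayPt)) (x : X) : Set X := {y | ∃ g ∈ K, g • x = y}

theorem mem_orbK_self (K : Subgroup (Equiv.Perm GolayPt)) (x : X) : x ∈ orbK K x :=
  ⟨1, K.one_mem, one_smul _ x⟩

/-- A lower bound for the size of an orbit from a certificate and a distinctness check. -/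
theorem le_ncard_orbK [Finite X] {α : Type*} [DecidableEq α] {K : Subgroup (Equiv.Perm GolayPt)}
    (e : X → α) {gs : List (Equiv.Perm GolayPt)} {acts : List (α → α)}
    (hmod : List.Forall₂ (fun g act => g ∈ K ∧ ∀ x, e (g • x) = act (e x)) gs acts) (x₀ : X)
    (cert : List (ℕ × α)) (hc : checkDFSG acts cert [e x₀] = true) (h : α → ℕ)
    (hd : distinctB h (e x₀ :: pushedG acts.length cert) 0 = true) :
    (e x₀ :: pushedG acts.length cert).length ≤ (orbK K x₀).ncard := by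
  classical
  set codes := e x₀ :: pushedG acts.length cert with hcodes
  have hnd : codes.Nodup := nodup_of_distinctB h codes hd
  have hreach := orbit_of_certG hmod x₀ cert hc
  have hsub : (↑codes.toFinset : Set α) ⊆ e '' orbK K x₀ := by
    intro c hc'
    have hc'' : c ∈ codes := by simpa using hc'
    obtain ⟨g, hg, hgc⟩ := hreach c hc''
    exact ⟨g • x₀, ⟨g, hg, rfl⟩, hgc⟩
  calc codes.length = codes.toFinset.card := (List.toFinset_card_of_nodup hnd).symm
    _ = (↑codes.toFinset : Set α).ncard := (Set.ncard_coe_finset _).symm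
    _ ≤ (e '' orbK K x₀).ncard := Set.ncard_le_ncard hsub (Set.toFinite _)
    _ ≤ (orbK K x₀).ncard := Set.ncard_image_le (Set.toFinite _)

/-- The orbit under the stabiliser (inside `↥M24`) of `a` is the orbit under the corresponding
subgroup of the symmetric group. -/
theorem orbit_stabilizer_eq_orbK {A : Type*} [MulAction (Equiv.Perm GolayPt) A] (a : A) (x : X) :
    MulAction.orbit ↥(MulAction.stabilizer ↥M24 a) x =
      orbK (M24 ⊓ MulAction.stabilizer (Equiv.Perm GolayPt) a) x := by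
  ext y
  constructor
  · rintro ⟨⟨⟨g, hg⟩, hga⟩, rfl⟩
    exact ⟨g, ⟨hg, hga⟩, rfl⟩
  · rintro ⟨g, ⟨hg, hga⟩, rfl⟩
    exact ⟨⟨⟨g, hg⟩, hga⟩, rfl⟩

/-- Transport of orbits of stabilisers along an element of `M24`. -/
theorem orbK_conj {A : Type*} [MulAction (Equiv.Perm GolayPt) A] {h : Equiv.Perm GolayPt}
    (hh : h ∈ M24) (a : A) (x : X) :
    orbK (M24 ⊓ MulAction.stabilizer (Equiv.Perm GolayPt) (h • a)) (h • x) =
      (fun y => h • y) '' orbK (M24 ⊓ MulAction.stabilizer (Equiv.Perm GolayPt) a) x := by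
  ext y
  constructor
  · rintro ⟨g, ⟨hg, hga⟩, rfl⟩
    refine ⟨(h⁻¹ * g * h) • x, ⟨h⁻¹ * g * h, ⟨M24.mul_mem (M24.mul_mem (M24.inv_mem hh) hg) hh, ?_⟩,
      rfl⟩, ?_⟩
    · have hga' : g • (h • a) = h • a := hga
      show (h⁻¹ * g * h) • a = a
      rw [mul_smul, mul_smul, hga', inv_smul_smul]
    · show h • (h⁻¹ * g * h) • x = g • h • x
      rw [mul_smul, mul_smul, smul_inv_smul]
  · rintro ⟨_, ⟨g, ⟨hg, hga⟩, rfl⟩, rfl⟩
    refine ⟨h * g * h⁻¹, ⟨M24.mul_mem (M24.mul_mem hh hg) (M24.inv_mem hh), ?_⟩, ?_⟩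
    · have hga' : g • a = a := hga
      show (h * g * h⁻¹) • (h • a) = h • a
      rw [mul_smul, mul_smul, inv_smul_smul, hga']
    · show (h * g * h⁻¹) • h • x = h • g • x
      rw [mul_smul, mul_smul, inv_smul_smul]

theorem ncard_orbK_conj {A : Type*} [MulAction (Equiv.Perm GolayPt) A] {h : Equiv.Perm GolayPt}
    (hh : h ∈ M24) (a : A) (x : X) :
    (orbK (M24 ⊓ MulAction.stabilizer (Equiv.Perm GolayPt) (h • a)) (h • x)).ncard =
      (orbK (M24 ⊓ MulAction.stabilizer (Equiv.Perm GolayPt) a) x).ncard := by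
  rw [orbK_conj hh]
  exact Set.ncard_image_of_injective _ (MulAction.injective h)

end Orb

/-! ### Encoding sets of sets -/

/-- The code of a set of sets: the increasing list of the masks of its members. -/
def encSS (S : Finset (Finset GolayPt)) : List ℕ := (S.image gmask).sort (· ≤ ·)

theorem mem_encSS (S : Finset (Finset GolayPt)) (m : ℕ) :
    m ∈ encSS S ↔ ∃ s ∈ S, gmask s = m := by
  unfold encSS
  rw [Finset.mem_sort, Finset.mem_image]

theorem lt_of_pairwise_le_nodup {l : List ℕ} (h1 : l.Pairwise (· ≤ ·)) (h2 : l.Nodup) :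
    l.Pairwise (· < ·) :=
  (h1.and h2).imp (fun h => lt_of_le_of_ne h.1 h.2)

theorem encSS_pairwise (S : Finset (Finset GolayPt)) : (encSS S).Pairwise (· < ·) :=
  lt_of_pairwise_le_nodup (Finset.pairwise_sort _ _) (Finset.sort_nodup _ _)

theorem encSS_eq_of (S : Finset (Finset GolayPt)) (l : List ℕ) (hl : l.Pairwise (· < ·))
    (hm : ∀ m, m ∈ l ↔ ∃ s ∈ S, gmask s = m) : encSS S = l :=
  List.Pairwise.eq_of_mem_iff (encSS_pairwise S) hl (fun a => by rw [mem_encSS, hm])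

/-- The action of a map of masks on codes. -/
def actSS (f : ℕ → ℕ) (l : List ℕ) : List ℕ := (l.map f).insertionSort (· ≤ ·)

theorem encSS_smul {g : Equiv.Perm GolayPt} {f : ℕ → ℕ}
    (hf : ∀ s : Finset GolayPt, gmask (g • s) = f (gmask s)) (S : Finset (Finset GolayPt)) :
    encSS (g • S) = actSS f (encSS S) := by
  apply encSS_eq_of
  · apply lt_of_pairwise_le_nodup (List.pairwise_insertionSort _ _)
    rw [(List.perm_insertionSort _ _).nodup_iff]
    apply List.Nodup.map_on _ (Finset.sort_nodup _ _)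
    intro a ha b hb hab
    have ha' := (mem_encSS S a).mp ha
    have hb' := (mem_encSS S b).mp hb
    obtain ⟨s, hs, rfl⟩ := ha'
    obtain ⟨s', hs', rfl⟩ := hb'
    rw [← hf, ← hf] at hab
    have h1 : g • s = g • s' := gmask_injective hab
    rw [MulAction.injective g h1]
  · intro m
    unfold actSS
    rw [(List.perm_insertionSort _ _).mem_iff, List.mem_map]
    constructor
    · rintro ⟨a, ha, rfl⟩
      obtain ⟨s, hs, rfl⟩ := (mem_encSS S a).mp ha
      exact ⟨g • s, Finset.smul_mem_smul_finset hs, hf s⟩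
    · rintro ⟨s, hs, rfl⟩
      obtain ⟨s', hs', rfl⟩ := Finset.mem_smul_finset.mp hs
      exact ⟨gmask s', (mem_encSS S _).mpr ⟨s', hs', rfl⟩, (hf s').symm⟩

/-- The set of sets with given masks. -/
def ofMasks (l : List ℕ) : Finset (Finset GolayPt) := (l.map setOfMask).toFinset

theorem mem_ofMasks (l : List ℕ) (s : Finset GolayPt) :
    s ∈ ofMasks l ↔ ∃ m ∈ l, setOfMask m = s := by
  simp [ofMasks]

theorem encSS_ofMasks (l : List ℕ) (h1 : ∀ m ∈ l, m < 2 ^ 24) (h2 : l.Pairwise (· < ·)) :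
    encSS (ofMasks l) = l := by
  apply encSS_eq_of _ _ h2
  intro m
  constructor
  · intro hm
    exact ⟨setOfMask m, (mem_ofMasks _ _).mpr ⟨m, hm, rfl⟩, gmask_setOfMask (h1 m hm)⟩
  · rintro ⟨s, hs, rfl⟩
    obtain ⟨m, hm, rfl⟩ := (mem_ofMasks _ _).mp hs
    rwa [gmask_setOfMask (h1 m hm)]

theorem card_ofMasks (l : List ℕ) (h1 : ∀ m ∈ l, m < 2 ^ 24) (h2 : l.Pairwise (· < ·)) :
    (ofMasks l).card = l.length := by
  unfold ofMasks
  rw [List.toFinset_card_of_nodup, List.length_map]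
  apply List.Nodup.map_on _ (h2.imp (fun h => ne_of_lt h))
  intro a ha b hb hab
  rw [← gmask_setOfMask (h1 a ha), ← gmask_setOfMask (h1 b hb), hab]

/-! ### Membership of explicit sets of sets in the families -/

/-- Mask test for octads. -/
def octB (m : ℕ) : Bool := enc m == m && popc 24 m == 8

theorem setOfMask_mem_octads {m : ℕ} (h1 : m < 2 ^ 24) (h : octB m = true) :
    setOfMask m ∈ octads := by
  unfold octB at h
  rw [Bool.and_eq_true, beq_iff_eq, beq_iff_eq] at h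
  rw [mem_octads_iff, gmask_setOfMask h1]
  exact h

/-- Boolean test: the masks form a trio. -/
def trioB (l : List ℕ) : Bool :=
  l.length == 3 && l.all (fun m => decide (m < 2 ^ 24) && octB m) &&
    l.all (fun m => l.all (fun m' => m == m' || m &&& m' == 0))

theorem ofMasks_mem_trios (l : List ℕ) (h2 : l.Pairwise (· < ·)) (h : trioB l = true) :
    ofMasks l ∈ trios := by
  unfold trioB at h
  simp only [Bool.and_eq_true, beq_iff_eq, List.all_eq_true, decide_eq_true_eq,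
    Bool.or_eq_true] at h
  obtain ⟨⟨hlen, hoct⟩, hdis⟩ := h
  have h1 : ∀ m ∈ l, m < 2 ^ 24 := fun m hm => (hoct m hm).1
  refine ⟨by rw [card_ofMasks l h1 h2, hlen], ?_, ?_⟩
  · intro o ho
    obtain ⟨m, hm, rfl⟩ := (mem_ofMasks _ _).mp ho
    exact setOfMask_mem_octads (h1 m hm) (hoct m hm).2
  · intro o ho o' ho' hne
    obtain ⟨m, hm, rfl⟩ := (mem_ofMasks _ _).mp ho
    obtain ⟨m', hm', rfl⟩ := (mem_ofMasks _ _).mp ho'
    rw [disjoint_iff_gmask, gmask_setOfMask (h1 m hm), gmask_setOfMask (h1 m' hm')]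
    rcases hdis m hm m' hm' with e | e
    · exact absurd (by rw [e]) hne
    · exact e

/-- Boolean test: the masks form a sextet. -/
def sextetB (l : List ℕ) : Bool :=
  l.length == 6 && l.all (fun m => decide (m < 2 ^ 24) && popc 24 m == 4) &&
    l.all (fun m => l.all (fun m' => m == m' || octB (m ||| m')))

theorem ofMasks_mem_sextets (l : List ℕ) (h2 : l.Pairwise (· < ·)) (h : sextetB l = true) :
    ofMasks l ∈ sextets := by
  unfold sextetB at h
  simp only [Bool.and_eq_true, beq_iff_eq, List.all_eq_true, decide_eq_true_eq,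
    Bool.or_eq_true] at h
  obtain ⟨⟨hlen, htet⟩, hun⟩ := h
  have h1 : ∀ m ∈ l, m < 2 ^ 24 := fun m hm => (htet m hm).1
  refine ⟨by rw [card_ofMasks l h1 h2, hlen], ?_, ?_⟩
  · intro t ht
    obtain ⟨m, hm, rfl⟩ := (mem_ofMasks _ _).mp ht
    rw [card_eq_popc_gmask, gmask_setOfMask (h1 m hm)]
    exact (htet m hm).2
  · intro t ht u hu hne
    obtain ⟨m, hm, rfl⟩ := (mem_ofMasks _ _).mp ht
    obtain ⟨m', hm', rfl⟩ := (mem_ofMasks _ _).mp hu
    rcases hun m hm m' hm' with e | e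
    · exact absurd (by rw [e]) hne
    · unfold octB at e
      rw [Bool.and_eq_true, beq_iff_eq, beq_iff_eq] at e
      rw [mem_octads_iff, gmask_union, gmask_setOfMask (h1 m hm), gmask_setOfMask (h1 m' hm')]
      exact e

theorem smul_mem_trios {g : Equiv.Perm GolayPt} (hg : g ∈ M24) {T : Finset (Finset GolayPt)}
    (hT : T ∈ trios) : g • T ∈ trios := by
  obtain ⟨h3, hoct, hdis⟩ := hT
  refine ⟨by rw [Finset.card_smul_finset, h3], ?_, ?_⟩
  · intro o ho
    obtain ⟨o', ho', rfl⟩ := Finset.mem_smul_finset.mp ho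
    exact smul_mem_octads hg (hoct o' ho')
  · intro o ho u hu hne
    obtain ⟨o', ho', rfl⟩ := Finset.mem_smul_finset.mp ho
    obtain ⟨u', hu', rfl⟩ := Finset.mem_smul_finset.mp hu
    rw [disjoint_smul_iff]
    exact hdis o' ho' u' hu' (fun e => hne (by rw [e]))

theorem smul_mem_sextets' {g : Equiv.Perm GolayPt} (hg : g ∈ M24) {S : Finset (Finset GolayPt)}
    (hS : S ∈ sextets) : g • S ∈ sextets := by
  obtain ⟨h6, h4, hun⟩ := hS
  refine ⟨by rw [Finset.card_smul_finset, h6], ?_, ?_⟩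
  · intro t ht
    obtain ⟨t', ht', rfl⟩ := Finset.mem_smul_finset.mp ht
    rw [Finset.card_smul_finset]
    exact h4 t' ht'
  · intro t ht u hu hne
    obtain ⟨t', ht', rfl⟩ := Finset.mem_smul_finset.mp ht
    obtain ⟨u', hu', rfl⟩ := Finset.mem_smul_finset.mp hu
    rw [← Finset.smul_finset_union]
    exact smul_mem_octads hg (hun t' ht' u' hu' (fun e => hne (by rw [e])))

/-! ### Intersection-pattern invariants -/

/-- Intersection pattern of the members of `Y` with the members of `S`, weighted by `w`. -/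
def JJ (w : ℕ → ℕ) (S Y : Finset (Finset GolayPt)) : ℕ :=
  ∑ A ∈ Y, ∑ t ∈ S, w (A ∩ t).card

theorem JJ_smul (w : ℕ → ℕ) (g : Equiv.Perm GolayPt) (S Y : Finset (Finset GolayPt)) :
    JJ w (g • S) (g • Y) = JJ w S Y := by
  unfold JJ
  have hY : g • Y = Y.image (fun s => g • s) := rfl
  have hS : g • S = S.image (fun s => g • s) := rfl
  rw [hY, hS, Finset.sum_image (fun a _ b _ h => MulAction.injective g h)]
  apply Finset.sum_congr rfl
  intro A _
  rw [Finset.sum_image (fun a _ b _ h => MulAction.injective g h)]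
  apply Finset.sum_congr rfl
  intro t _
  rw [← Finset.smul_finset_inter, Finset.card_smul_finset]

/-- The same invariant computed on codes. -/
def jjL (w : ℕ → ℕ) (ls ly : List ℕ) : ℕ :=
  (ly.map (fun a => (ls.map (fun t => w (popc 24 (a &&& t)))).sum)).sum

theorem sum_eq_sum_encSS (S : Finset (Finset GolayPt)) (F : ℕ → ℕ) :
    ∑ t ∈ S, F (gmask t) = ((encSS S).map F).sum := by
  unfold encSS
  rw [((Finset.sort_perm_toList (S.image gmask) (· ≤ ·)).map F).sum_eq, Finset.sum_map_toList,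
    Finset.sum_image (fun a _ b _ h => gmask_injective h)]

theorem JJ_eq_jjL (w : ℕ → ℕ) (S Y : Finset (Finset GolayPt)) :
    JJ w S Y = jjL w (encSS S) (encSS Y) := by
  unfold JJ jjL
  rw [← sum_eq_sum_encSS Y (fun a => ((encSS S).map (fun t => w (popc 24 (a &&& t)))).sum)]
  apply Finset.sum_congr rfl
  intro A _
  rw [← sum_eq_sum_encSS S (fun t => w (popc 24 (gmask A &&& t)))]
  apply Finset.sum_congr rfl
  intro t _
  rw [card_inter_gmask]

/-- Intersection pattern of a set `o` with the members of `S`. -/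
def J1 (w : ℕ → ℕ) (S : Finset (Finset GolayPt)) (o : Finset GolayPt) : ℕ :=
  ∑ t ∈ S, w (o ∩ t).card

theorem J1_smul (w : ℕ → ℕ) (g : Equiv.Perm GolayPt) (S : Finset (Finset GolayPt))
    (o : Finset GolayPt) : J1 w (g • S) (g • o) = J1 w S o := by
  unfold J1
  have hS : g • S = S.image (fun s => g • s) := rfl
  rw [hS, Finset.sum_image (fun a _ b _ h => MulAction.injective g h)]
  apply Finset.sum_congr rfl
  intro t _
  rw [← Finset.smul_finset_inter, Finset.card_smul_finset]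

theorem J1_eq (w : ℕ → ℕ) (S : Finset (Finset GolayPt)) (o : Finset GolayPt) :
    J1 w S o = ((encSS S).map (fun t => w (popc 24 (gmask o &&& t)))).sum := by
  unfold J1
  rw [← sum_eq_sum_encSS S (fun t => w (popc 24 (gmask o &&& t)))]
  apply Finset.sum_congr rfl
  intro t _
  rw [card_inter_gmask]

/-- Intersection pattern of the members of `Y` with a set `o`. -/
def J2 (w : ℕ → ℕ) (o : Finset GolayPt) (Y : Finset (Finset GolayPt)) : ℕ :=
  ∑ A ∈ Y, w (A ∩ o).card

theorem J2_smul (w : ℕ → ℕ) (g : Equiv.Perm GolayPt) (o : Finset GolayPt)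
    (Y : Finset (Finset GolayPt)) : J2 w (g • o) (g • Y) = J2 w o Y := by
  unfold J2
  have hY : g • Y = Y.image (fun s => g • s) := rfl
  rw [hY, Finset.sum_image (fun a _ b _ h => MulAction.injective g h)]
  apply Finset.sum_congr rfl
  intro t _
  rw [← Finset.smul_finset_inter, Finset.card_smul_finset]

theorem J2_eq (w : ℕ → ℕ) (o : Finset GolayPt) (Y : Finset (Finset GolayPt)) :
    J2 w o Y = ((encSS Y).map (fun a => w (popc 24 (a &&& gmask o)))).sum := by
  unfold J2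
  rw [← sum_eq_sum_encSS Y (fun a => w (popc 24 (a &&& gmask o)))]
  apply Finset.sum_congr rfl
  intro t _
  rw [card_inter_gmask]

/-! ### Table permutations acting on codes -/

theorem tblPerm_modelsSS (t t' : List ℕ) (h : TblOK t t') (S : Finset (Finset GolayPt)) :
    encSS (tblPerm t t' h • S) = actSS (applyTbl t) (encSS S) :=
  encSS_smul (tblPerm_models t t' h) S

/-! ### The counting argument -/

section Assemble

variable {X : Type*} [Finite X]

theorem disjoint_of_inv {O O' : Set X} (inv : X → ℕ) {c c' : ℕ} (i1 : ∀ y ∈ O, inv y = c)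
    (i2 : ∀ y ∈ O', inv y = c') (hc : c ≠ c') : Disjoint O O' :=
  Set.disjoint_left.mpr (fun y h1 h2 => hc (by rw [← i1 y h1, i2 y h2]))

theorem inv_union {O O' : Set X} (inv : X → ℕ) (P : ℕ → Prop) (i1 : ∀ y ∈ O, P (inv y))
    (i2 : ∀ y ∈ O', P (inv y)) : ∀ y ∈ O ∪ O', P (inv y) := by
  rintro y (h | h)
  · exact i1 y h
  · exact i2 y h

theorem assemble3 {F O₁ O₂ O₃ : Set X} {n₁ n₂ n₃ : ℕ} (inv : X → ℕ) {c₁ c₂ c₃ : ℕ}
    (h1 : O₁ ⊆ F) (h2 : O₂ ⊆ F) (h3 : O₃ ⊆ F)
    (i1 : ∀ y ∈ O₁, inv y = c₁) (i2 : ∀ y ∈ O₂, inv y = c₂) (i3 : ∀ y ∈ O₃, inv y = c₃)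
    (c12 : c₁ ≠ c₂) (c13 : c₁ ≠ c₃) (c23 : c₂ ≠ c₃)
    (l1 : n₁ ≤ O₁.ncard) (l2 : n₂ ≤ O₂.ncard) (l3 : n₃ ≤ O₃.ncard)
    (hF : F.ncard = n₁ + n₂ + n₃) :
    O₁.ncard = n₁ ∧ O₂.ncard = n₂ ∧ O₃.ncard = n₃ ∧ F = O₁ ∪ O₂ ∪ O₃ := by
  have d12 : Disjoint O₁ O₂ := disjoint_of_inv inv i1 i2 c12
  have d123 : Disjoint (O₁ ∪ O₂) O₃ :=
    Set.disjoint_union_left.mpr ⟨disjoint_of_inv inv i1 i3 c13, disjoint_of_inv inv i2 i3 c23⟩
  have e1 : (O₁ ∪ O₂).ncard = O₁.ncard + O₂.ncard :=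
    Set.ncard_union_eq d12 (Set.toFinite _) (Set.toFinite _)
  have e2 : (O₁ ∪ O₂ ∪ O₃).ncard = (O₁ ∪ O₂).ncard + O₃.ncard :=
    Set.ncard_union_eq d123 (Set.toFinite _) (Set.toFinite _)
  have hsub : O₁ ∪ O₂ ∪ O₃ ⊆ F := Set.union_subset (Set.union_subset h1 h2) h3
  have hle : (O₁ ∪ O₂ ∪ O₃).ncard ≤ F.ncard := Set.ncard_le_ncard hsub (Set.toFinite _)
  have heq : O₁ ∪ O₂ ∪ O₃ = F :=
    Set.eq_of_subset_of_ncard_le hsub (by omega) (Set.toFinite _)
  refine ⟨by omega, by omega, by omega, heq.symm⟩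

theorem assemble4 {F O₁ O₂ O₃ O₄ : Set X} {n₁ n₂ n₃ n₄ : ℕ} (inv : X → ℕ) {c₁ c₂ c₃ c₄ : ℕ}
    (h1 : O₁ ⊆ F) (h2 : O₂ ⊆ F) (h3 : O₃ ⊆ F) (h4 : O₄ ⊆ F)
    (i1 : ∀ y ∈ O₁, inv y = c₁) (i2 : ∀ y ∈ O₂, inv y = c₂) (i3 : ∀ y ∈ O₃, inv y = c₃)
    (i4 : ∀ y ∈ O₄, inv y = c₄)
    (c12 : c₁ ≠ c₂) (c13 : c₁ ≠ c₃) (c23 : c₂ ≠ c₃) (c14 : c₁ ≠ c₄) (c24 : c₂ ≠ c₄)
    (c34 : c₃ ≠ c₄)
    (l1 : n₁ ≤ O₁.ncard) (l2 : n₂ ≤ O₂.ncard) (l3 : n₃ ≤ O₃.ncard) (l4 : n₄ ≤ O₄.ncard)
    (hF : F.ncard = n₁ + n₂ + n₃ + n₄) :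
    O₁.ncard = n₁ ∧ O₂.ncard = n₂ ∧ O₃.ncard = n₃ ∧ O₄.ncard = n₄ ∧
      F = O₁ ∪ O₂ ∪ O₃ ∪ O₄ := by
  have d12 : Disjoint O₁ O₂ := disjoint_of_inv inv i1 i2 c12
  have d123 : Disjoint (O₁ ∪ O₂) O₃ :=
    Set.disjoint_union_left.mpr ⟨disjoint_of_inv inv i1 i3 c13, disjoint_of_inv inv i2 i3 c23⟩
  have d1234 : Disjoint (O₁ ∪ O₂ ∪ O₃) O₄ :=
    Set.disjoint_union_left.mpr ⟨Set.disjoint_union_left.mpr
      ⟨disjoint_of_inv inv i1 i4 c14, disjoint_of_inv inv i2 i4 c24⟩,
      disjoint_of_inv inv i3 i4 c34⟩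
  have e1 : (O₁ ∪ O₂).ncard = O₁.ncard + O₂.ncard :=
    Set.ncard_union_eq d12 (Set.toFinite _) (Set.toFinite _)
  have e2 : (O₁ ∪ O₂ ∪ O₃).ncard = (O₁ ∪ O₂).ncard + O₃.ncard :=
    Set.ncard_union_eq d123 (Set.toFinite _) (Set.toFinite _)
  have e3 : (O₁ ∪ O₂ ∪ O₃ ∪ O₄).ncard = (O₁ ∪ O₂ ∪ O₃).ncard + O₄.ncard :=
    Set.ncard_union_eq d1234 (Set.toFinite _) (Set.toFinite _)
  have hsub : O₁ ∪ O₂ ∪ O₃ ∪ O₄ ⊆ F :=
    Set.union_subset (Set.union_subset (Set.union_subset h1 h2) h3) h4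
  have hle : (O₁ ∪ O₂ ∪ O₃ ∪ O₄).ncard ≤ F.ncard := Set.ncard_le_ncard hsub (Set.toFinite _)
  have heq : O₁ ∪ O₂ ∪ O₃ ∪ O₄ = F :=
    Set.eq_of_subset_of_ncard_le hsub (by omega) (Set.toFinite _)
  refine ⟨by omega, by omega, by omega, by omega, heq.symm⟩

theorem assemble5 {F O₁ O₂ O₃ O₄ O₅ : Set X} {n₁ n₂ n₃ n₄ n₅ : ℕ} (inv : X → ℕ)
    {c₁ c₂ c₃ c₄ c₅ : ℕ}
    (h1 : O₁ ⊆ F) (h2 : O₂ ⊆ F) (h3 : O₃ ⊆ F) (h4 : O₄ ⊆ F) (h5 : O₅ ⊆ F)
    (i1 : ∀ y ∈ O₁, inv y = c₁) (i2 : ∀ y ∈ O₂, inv y = c₂) (i3 : ∀ y ∈ O₃, inv y = c₃)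
    (i4 : ∀ y ∈ O₄, inv y = c₄) (i5 : ∀ y ∈ O₅, inv y = c₅)
    (c12 : c₁ ≠ c₂) (c13 : c₁ ≠ c₃) (c23 : c₂ ≠ c₃) (c14 : c₁ ≠ c₄) (c24 : c₂ ≠ c₄)
    (c34 : c₃ ≠ c₄) (c15 : c₁ ≠ c₅) (c25 : c₂ ≠ c₅) (c35 : c₃ ≠ c₅) (c45 : c₄ ≠ c₅)
    (l1 : n₁ ≤ O₁.ncard) (l2 : n₂ ≤ O₂.ncard) (l3 : n₃ ≤ O₃.ncard) (l4 : n₄ ≤ O₄.ncard)
    (l5 : n₅ ≤ O₅.ncard)
    (hF : F.ncard = n₁ + n₂ + n₃ + n₄ + n₅) :
    O₁.ncard = n₁ ∧ O₂.ncard = n₂ ∧ O₃.ncard = n₃ ∧ O₄.ncard = n₄ ∧ O₅.ncard = n₅ ∧
      F = O₁ ∪ O₂ ∪ O₃ ∪ O₄ ∪ O₅ := by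
  have d12 : Disjoint O₁ O₂ := disjoint_of_inv inv i1 i2 c12
  have d123 : Disjoint (O₁ ∪ O₂) O₃ :=
    Set.disjoint_union_left.mpr ⟨disjoint_of_inv inv i1 i3 c13, disjoint_of_inv inv i2 i3 c23⟩
  have d1234 : Disjoint (O₁ ∪ O₂ ∪ O₃) O₄ :=
    Set.disjoint_union_left.mpr ⟨Set.disjoint_union_left.mpr
      ⟨disjoint_of_inv inv i1 i4 c14, disjoint_of_inv inv i2 i4 c24⟩,
      disjoint_of_inv inv i3 i4 c34⟩
  have d12345 : Disjoint (O₁ ∪ O₂ ∪ O₃ ∪ O₄) O₅ :=
    Set.disjoint_union_left.mpr ⟨Set.disjoint_union_left.mpr ⟨Set.disjoint_union_left.mpr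
      ⟨disjoint_of_inv inv i1 i5 c15, disjoint_of_inv inv i2 i5 c25⟩,
      disjoint_of_inv inv i3 i5 c35⟩, disjoint_of_inv inv i4 i5 c45⟩
  have e1 : (O₁ ∪ O₂).ncard = O₁.ncard + O₂.ncard :=
    Set.ncard_union_eq d12 (Set.toFinite _) (Set.toFinite _)
  have e2 : (O₁ ∪ O₂ ∪ O₃).ncard = (O₁ ∪ O₂).ncard + O₃.ncard :=
    Set.ncard_union_eq d123 (Set.toFinite _) (Set.toFinite _)
  have e3 : (O₁ ∪ O₂ ∪ O₃ ∪ O₄).ncard = (O₁ ∪ O₂ ∪ O₃).ncard + O₄.ncard :=
    Set.ncard_union_eq d1234 (Set.toFinite _) (Set.toFinite _)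
  have e4 : (O₁ ∪ O₂ ∪ O₃ ∪ O₄ ∪ O₅).ncard = (O₁ ∪ O₂ ∪ O₃ ∪ O₄).ncard + O₅.ncard :=
    Set.ncard_union_eq d12345 (Set.toFinite _) (Set.toFinite _)
  have hsub : O₁ ∪ O₂ ∪ O₃ ∪ O₄ ∪ O₅ ⊆ F :=
    Set.union_subset (Set.union_subset (Set.union_subset (Set.union_subset h1 h2) h3) h4) h5
  have hle : (O₁ ∪ O₂ ∪ O₃ ∪ O₄ ∪ O₅).ncard ≤ F.ncard :=
    Set.ncard_le_ncard hsub (Set.toFinite _)
  have heq : O₁ ∪ O₂ ∪ O₃ ∪ O₄ ∪ O₅ = F :=
    Set.eq_of_subset_of_ncard_le hsub (by omega) (Set.toFinite _)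
  refine ⟨by omega, by omega, by omega, by omega, by omega, heq.symm⟩

end Assemble

/-- Transport of an equality `F = ⋃ orbits` along `h`. -/
theorem image_orbK_subset {X : Type*} [MulAction (Equiv.Perm GolayPt) X]
    {K : Subgroup (Equiv.Perm GolayPt)} (hK : K ≤ M24) {F : Set X}
    (hF : ∀ g ∈ M24, ∀ y ∈ F, g • y ∈ F) {x : X} (hx : x ∈ F) : orbK K x ⊆ F := by
  rintro y ⟨g, hg, rfl⟩
  exact hF g (hK hg) x hx

theorem image_family {X : Type*} [MulAction (Equiv.Perm GolayPt) X] {F : Set X}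
    (hF : ∀ g ∈ M24, ∀ y ∈ F, g • y ∈ F) {h : Equiv.Perm GolayPt} (hh : h ∈ M24) :
    (fun y => h • y) '' F = F := by
  ext y
  constructor
  · rintro ⟨z, hz, rfl⟩
    exact hF h hh z hz
  · intro hy
    exact ⟨h⁻¹ • y, hF _ (M24.inv_mem hh) y hy, smul_inv_smul h y⟩

theorem smul_trios : ∀ g ∈ M24, ∀ y ∈ trios, g • y ∈ trios :=
  fun _ hg _ hy => smul_mem_trios hg hy

theorem smul_sextets : ∀ g ∈ M24, ∀ y ∈ sextets, g • y ∈ sextets :=
  fun _ hg _ hy => smul_mem_sextets' hg hy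

theorem smul_octads : ∀ g ∈ M24, ∀ y ∈ octads, g • y ∈ octads :=
  fun _ hg _ hy => smul_mem_octads hg hy

/-! ### The invariants are constant on orbits of the stabiliser -/

theorem J2_orbK (w : ℕ → ℕ) (o : Finset GolayPt) (X : Finset (Finset GolayPt)) :
    ∀ Y ∈ orbK (M24 ⊓ MulAction.stabilizer (Equiv.Perm GolayPt) o) X, J2 w o Y = J2 w o X := by
  rintro Y ⟨g, hg, rfl⟩
  have hgo : g • o = o := hg.2
  calc J2 w o (g • X) = J2 w (g • o) (g • X) := by rw [hgo]
    _ = J2 w o X := J2_smul w g o X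

theorem JJ_orbK (w : ℕ → ℕ) (S X : Finset (Finset GolayPt)) :
    ∀ Y ∈ orbK (M24 ⊓ MulAction.stabilizer (Equiv.Perm GolayPt) S) X, JJ w S Y = JJ w S X := by
  rintro Y ⟨g, hg, rfl⟩
  have hgo : g • S = S := hg.2
  calc JJ w S (g • X) = JJ w (g • S) (g • X) := by rw [hgo]
    _ = JJ w S X := JJ_smul w g S X

theorem J1_orbK (w : ℕ → ℕ) (S : Finset (Finset GolayPt)) (o : Finset GolayPt) :
    ∀ o' ∈ orbK (M24 ⊓ MulAction.stabilizer (Equiv.Perm GolayPt) S) o, J1 w S o' = J1 w S o := by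
  rintro Y ⟨g, hg, rfl⟩
  have hgo : g • S = S := hg.2
  calc J1 w S (g • o) = J1 w (g • S) (g • o) := by rw [hgo]
    _ = J1 w S o := J1_smul w g S o

end Cfsg.Agent.Lib.Helper36
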