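import Mathlib
import Cfsg.Prelude.Def_ClassicalGeometry
import Cfsg.Agent.Lib.Helper18.SympTrans
import Cfsg.Agent.Lib.Helper11.SpPerfect
import Cfsg.Agent.S0765

/-!
# Endgame toolkit for generation of `Sp_2m(F)` (for S2281 and siblings)

`Cen m H`: the centres `v` all of whose symplectic transvections `tv m v c` lie in the subgroup `H`.
It is closed under scalars, under the action of `H`, and under `v, w ↦ v + w` when `f v w ≠ 0`
(hyperbolic lines).  If it contains the two standard Lagrangians (vectors supported on `inl`, vectors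
supported on `inr`), it is everything and `H = ⊤` (landed S0765).
-/

set_option autoImplicit false

namespace Cfsg.Agent.Lib.Helper36.SpEnd

open Cfsg.Agent.Lib.Helper18 Cfsg.Agent.Lib.Helper11.SpPerfect Matrix

section
variable {F : Type*} [Field F] (m : ℕ)

local notation "V" => (Fin m ⊕ Fin m → F)
local notation "f" => Cfsg.sympForm m F
local notation "G" => Matrix.symplecticGroup (Fin m) F

/-- the centres all of whose transvections lie in `H` -/
def Cen (H : Subgroup G) : Set V := {v | ∀ c : F, tv m v c ∈ H}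

variable {m}

theorem mem_Cen {H : Subgroup G} {v : V} : v ∈ Cen m H ↔ ∀ c : F, tv m v c ∈ H := Iff.rfl

theorem cen_zero (H : Subgroup G) : (0 : V) ∈ Cen m H := by
  intro c
  rw [tv_zero_left]
  exact H.one_mem

theorem cen_smul {H : Subgroup G} {v : V} (hv : v ∈ Cen m H) (a : F) : a • v ∈ Cen m H := by
  intro c
  rw [tv_smul]
  exact hv _

theorem cen_mulVec {H : Subgroup G} {v : V} (hv : v ∈ Cen m H) {A : G} (hA : A ∈ H) :
    A.1 *ᵥ v ∈ Cen m H := by
  intro c
  rw [← conj_tv]
  exact H.mul_mem (H.mul_mem hA (hv c)) (H.inv_mem hA)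

/-- hyperbolic lines -/
theorem cen_add {H : Subgroup G} {v w : V} (hv : v ∈ Cen m H) (hw : w ∈ Cen m H)
    (h : f v w ≠ 0) : v + w ∈ Cen m H := by
  have h1 := cen_mulVec hv (hw (f v w)⁻¹)
  have h2 : (tv m w (f v w)⁻¹).1 *ᵥ v = v + w := by
    rw [tv_act, inv_mul_cancel₀ h, one_smul]
  rwa [h2] at h1

theorem cen_add_smul {H : Subgroup G} {v w : V} (hv : v ∈ Cen m H) (hw : w ∈ Cen m H)
    (h : f v w ≠ 0) (s : F) : v + s • w ∈ Cen m H := by
  by_cases hs : s = 0
  · subst hs
    rwa [zero_smul, add_zero]
  · apply cen_add hv (cen_smul hw s)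
    rw [sf_smul_right]
    exact mul_ne_zero hs h

/-- if every vector is such a centre, the subgroup is everything (landed S0765) -/
theorem eq_top_of_cen_univ {H : Subgroup G} (h : ∀ v : V, v ∈ Cen m H) : H = ⊤ := by
  rw [eq_top_iff, ← Cfsg.Agent.S0765.result (F := F) m, Subgroup.closure_le]
  rintro A ⟨w, c, hA⟩
  have : A = tv m w c := Subtype.ext (by rw [hA, tv_val])
  rw [SetLike.mem_coe, this]
  exact h w c

/-- the two standard Lagrangians suffice -/
theorem cen_univ_of_lagrangians {H : Subgroup G}
    (hE : ∀ v : V, (∀ i, v (Sum.inr i) = 0) → v ∈ Cen m H)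
    (hE' : ∀ v : V, (∀ i, v (Sum.inl i) = 0) → v ∈ Cen m H) : ∀ v : V, v ∈ Cen m H := by
  intro v
  set e : V := fun k => Sum.elim (fun i => v (Sum.inl i)) (fun _ => 0) k with he
  set f' : V := fun k => Sum.elim (fun _ => 0) (fun i => v (Sum.inr i)) k with hf'
  have hv : v = e + f' := by
    ext k
    rcases k with i | i <;> simp [he, hf']
  have heE : ∀ i, e (Sum.inr i) = 0 := fun i => by simp [he]
  have hfE : ∀ i, f' (Sum.inl i) = 0 := fun i => by simp [hf']
  have heC : e ∈ Cen m H := hE e heE
  have hfC : f' ∈ Cen m H := hE' f' hfE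
  by_cases h0 : f e f' = 0
  · by_cases hf0 : f' = 0
    · rw [hv, hf0, add_zero]; exact heC
    · -- some coordinate of f' is nonzero
      obtain ⟨k, hk⟩ : ∃ k, f' k ≠ 0 := by
        by_contra hcon
        push_neg at hcon
        exact hf0 (funext hcon)
      rcases k with i | i
      · exact absurd (hfE i) hk
      · set e2 : V := Pi.single (Sum.inl i) 1 with he2
        have he2E : ∀ j, e2 (Sum.inr j) = 0 := fun j => by simp [he2]
        have he2C : e2 ∈ Cen m H := hE e2 he2E
        have h1 : f e2 f' ≠ 0 := by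
          rw [sf_swap, he2, sf_single_inl]
          exact neg_ne_zero.mpr hk
        have hw1 : e2 + f' ∈ Cen m H := cen_add he2C hfC h1
        have hsubE : ∀ j, (e - e2) (Sum.inr j) = 0 := fun j => by
          rw [Pi.sub_apply, heE, he2E, sub_zero]
        have hw2 : e - e2 ∈ Cen m H := hE _ hsubE
        have h2 : f (e - e2) (e2 + f') ≠ 0 := by
          rw [sf_sub_left, sf_add_right, sf_add_right, sf_inl_zero m e e2 heE he2E, h0, sf_self]
          simpa using h1
        have := cen_add hw2 hw1 h2
        have hsum : e - e2 + (e2 + f') = v := by rw [hv]; abel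
        rwa [hsum] at this
  · rw [hv]
    exact cen_add heC hfC h0

/-- **Endgame**: a subgroup of `Sp_2m(F)` containing all transvections with centre in either of the
two standard Lagrangians is the whole group. -/
theorem eq_top_of_lagrangians {H : Subgroup G}
    (hE : ∀ v : V, (∀ i, v (Sum.inr i) = 0) → ∀ c : F, tv m v c ∈ H)
    (hE' : ∀ v : V, (∀ i, v (Sum.inl i) = 0) → ∀ c : F, tv m v c ∈ H) : H = ⊤ :=
  eq_top_of_cen_univ (cen_univ_of_lagrangians hE hE')

end

end Cfsg.Agent.Lib.Helper36.SpEnd
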