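import Mathlib
import Cfsg.Agent.Lib.Helper69.StNDefs

/-!
# Pack K-StN (S2401), leaf E4 (keystone 240115): the comparison homomorphism is injective on the
upper unipotent subgroup.

Route: the chain `Uc X m := closure {X k l t | k < l, l * n + k < m}` (roots ordered by column, then
by row).  If `(i, j)` is the root with code `m`, every element of `Uc X (m+1)` is `X i j t * g'` with
`g' ∈ Uc X m`, and the `(i, j)` entry of `φ (X i j t * g')` is `t`.
-/

set_option autoImplicit false

namespace Cfsg.Agent.Lib.Helper36.StN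

open Cfsg.Agent.Lib.Helper69.StN Matrix

variable {n : ℕ} {K : Type*} [Field K] {S : Type*} [Group S] {X : Fin n → Fin n → K → S}

/-- the chain of subgroups: root elements with code `l * n + k < m` -/
def Uc (X : Fin n → Fin n → K → S) (m : ℕ) : Subgroup S :=
  Subgroup.closure {g | ∃ k l t, k < l ∧ l.val * n + k.val < m ∧ g = X k l t}

theorem Uc_zero : Uc X 0 = ⊥ := by
  unfold Uc
  rw [Subgroup.closure_eq_bot_iff]
  rintro g ⟨k, l, t, _, h, _⟩
  omega

theorem Upos_le_Uc : Upos X ≤ Uc X (n * n) := by
  apply Subgroup.closure_mono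
  rintro g ⟨i, j, t, hij, rfl⟩
  refine ⟨i, j, t, hij, ?_, rfl⟩
  have hj := j.isLt
  have hi := i.isLt
  calc j.val * n + i.val < j.val * n + n := by omega
    _ = (j.val + 1) * n := by ring
    _ ≤ n * n := Nat.mul_le_mul_right n (by omega)

theorem X_mem_Uc {m : ℕ} {k l : Fin n} (hkl : k < l) (hc : l.val * n + k.val < m) (t : K) :
    X k l t ∈ Uc X m := Subgroup.subset_closure ⟨k, l, t, hkl, hc, rfl⟩

/-- the code determines the root -/
theorem code_inj {a b c d : ℕ} (hb : b < n) (hd : d < n) (h : a * n + b = c * n + d) :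
    a = c ∧ b = d := by
  rcases lt_trichotomy a c with h1 | h1 | h1
  · exfalso
    have : (a + 1) * n ≤ c * n := Nat.mul_le_mul_right n h1
    nlinarith
  · subst h1
    exact ⟨rfl, by omega⟩
  · exfalso
    have : (c + 1) * n ≤ a * n := Nat.mul_le_mul_right n h1
    nlinarith

/-- a smaller code means an earlier column, or the same column and an earlier row -/
theorem code_lt {a b c d : ℕ} (hb : b < n) (hd : d < n) (h : a * n + b < c * n + d) :
    a < c ∨ (a = c ∧ b < d) := by
  rcases lt_trichotomy a c with h1 | h1 | h1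
  · exact Or.inl h1
  · subst h1
    exact Or.inr ⟨rfl, by omega⟩
  · exfalso
    have : (c + 1) * n ≤ a * n := Nat.mul_le_mul_right n h1
    nlinarith

/-- induction on `Uc X m` by left multiplication with generators -/
theorem Uc_induction (hX : IsSt X) {m : ℕ} {p : S → Prop} (h1 : p 1)
    (hmul : ∀ k l : Fin n, k < l → l.val * n + k.val < m → ∀ (t : K) (y : S), y ∈ Uc X m → p y →
      p (X k l t * y)) :
    ∀ g ∈ Uc X m, p g := by
  intro g hg
  unfold Uc at hg
  induction hg using Subgroup.closure_induction_left with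
  | one => exact h1
  | mul_left x hx y hy ih =>
    obtain ⟨k, l, t, hkl, hc, rfl⟩ := hx
    exact hmul k l hkl hc t y hy ih
  | inv_mul_cancel x hx y hy ih =>
    obtain ⟨k, l, t, hkl, hc, rfl⟩ := hx
    rw [hX.inv hkl.ne]
    exact hmul k l hkl hc (-t) y hy ih

/-- peel off the last root subgroup -/
theorem Uc_decomp (hX : IsSt X) {i j : Fin n} (hij : i < j) {m : ℕ}
    (hm : j.val * n + i.val = m) :
    ∀ g ∈ Uc X (m + 1), ∃ t : K, ∃ g' ∈ Uc X m, g = X i j t * g' := by
  apply Uc_induction hX (m := m + 1) (p := fun g => ∃ t : K, ∃ g' ∈ Uc X m, g = X i j t * g')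
  · exact ⟨0, 1, (Uc X m).one_mem, by rw [hX.zero hij.ne, mul_one]⟩
  · rintro k l hkl hc s y - ⟨t, g', hg', rfl⟩
    have hk := k.isLt
    have hi := i.isLt
    by_cases hcm : l.val * n + k.val = m
    · -- the same root
      obtain ⟨h1, h2⟩ := code_inj hk hi (hcm.trans hm.symm)
      have hl : l = j := Fin.ext h1
      have hk' : k = i := Fin.ext h2
      subst hl; subst hk'
      exact ⟨s + t, g', hg', by rw [← mul_assoc, hX.add k l hij.ne]⟩
    · have hc' : l.val * n + k.val < m := by omega
      have hjk : j ≠ k := by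
        rintro rfl
        -- then l > j and the code of (k, l) is too large
        have h1 : j.val < l.val := hkl
        have h2 : (j.val + 1) * n ≤ l.val * n := Nat.mul_le_mul_right n h1
        rw [← hm] at hc'
        nlinarith
      by_cases hil : i = l
      · subst hil
        -- A = X k i s, B = X i j t : A B = X k j (s t) B A, and X k j commutes with B
        have hki : k ≠ i := hkl.ne
        have hkj : k ≠ j := fun h => hjk h.symm
        have h3 := hX.comm3 k i j hki hij.ne hkj s t
        have hAB : X k i s * X i j t = X k j (s * t) * X i j t * X k i s := by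
          rw [← h3]; group
        have hcomm := hX.comm k j i j hkj hij.ne hkj hij.ne.symm (s * t) t
        have hkj' : k < j := lt_trans hkl hij
        have hckj : j.val * n + k.val < m := by
          have : k.val < i.val := hkl
          omega
        refine ⟨t, X k j (s * t) * X k i s * g', ?_, ?_⟩
        · exact (Uc X m).mul_mem ((Uc X m).mul_mem (X_mem_Uc hkj' hckj _) (X_mem_Uc hkl hc' _)) hg'
        · calc X k i s * (X i j t * g') = (X k i s * X i j t) * g' := by group
            _ = (X k j (s * t) * X i j t) * X k i s * g' := by rw [hAB]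
            _ = (X i j t * X k j (s * t)) * X k i s * g' := by rw [hcomm]
            _ = X i j t * (X k j (s * t) * X k i s * g') := by group
      · have hcomm := hX.comm k l i j hkl.ne hij.ne (fun h => hjk h.symm) (fun h => hil h.symm) s t
        refine ⟨t, X k l s * g', (Uc X m).mul_mem (X_mem_Uc hkl hc' _) hg', ?_⟩
        calc X k l s * (X i j t * g') = (X k l s * X i j t) * g' := by group
          _ = (X i j t * X k l s) * g' := by rw [hcomm]
          _ = X i j t * (X k l s * g') := by group

/-- the `j`-th column of `φ g'`, `g' ∈ Uc X m`, `m` the code of `(i, j)` -/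
theorem Uc_column (hX : IsSt X) {φ : S →* SpecialLinearGroup (Fin n) K} (hφ : IsPhi X φ)
    {i j : Fin n} (hij : i < j) {m : ℕ} (hm : j.val * n + i.val = m) :
    ∀ g ∈ Uc X m, ((φ g : SpecialLinearGroup (Fin n) K) : Matrix (Fin n) (Fin n) K) j j = 1 ∧
      ∀ k : Fin n, i ≤ k → k ≠ j →
        ((φ g : SpecialLinearGroup (Fin n) K) : Matrix (Fin n) (Fin n) K) k j = 0 := by
  apply Uc_induction hX (m := m)
    (p := fun g => ((φ g : SpecialLinearGroup (Fin n) K) : Matrix (Fin n) (Fin n) K) j j = 1 ∧
      ∀ k : Fin n, i ≤ k → k ≠ j →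
        ((φ g : SpecialLinearGroup (Fin n) K) : Matrix (Fin n) (Fin n) K) k j = 0)
  · rw [map_one]
    refine ⟨by simp, fun k _ hkj => ?_⟩
    simp [hkj]
  · rintro a b hab hc s y - ⟨hy1, hy2⟩
    have ha := a.isLt
    have hi := i.isLt
    rw [← hm] at hc
    have hcases := code_lt ha hi hc
    have hE : ((φ (X a b s * y) : SpecialLinearGroup (Fin n) K) : Matrix (Fin n) (Fin n) K) =
        Matrix.transvection a b s *
          ((φ y : SpecialLinearGroup (Fin n) K) : Matrix (Fin n) (Fin n) K) := by
      rw [map_mul, hφ a b hab.ne s]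
      rfl
    rw [hE]
    have hja : j ≠ a := by
      rintro rfl
      have h1 : j.val < b.val := hab
      rcases hcases with h | ⟨h, _⟩ <;> omega
    refine ⟨?_, fun k hik hkj => ?_⟩
    · rw [Matrix.transvection_mul_apply_of_ne a b j j hja]
      exact hy1
    · by_cases hka : k = a
      · subst hka
        rw [Matrix.transvection_mul_apply_same, hy2 k hik hkj]
        have hbj : b ≠ j := by
          rintro rfl
          have h1 : i.val ≤ k.val := hik
          rcases hcases with h | ⟨_, h⟩ <;> omega
        have hib : i ≤ b := le_trans hik hab.le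
        rw [hy2 b hib hbj]
        ring
      · rw [Matrix.transvection_mul_apply_of_ne a b k j hka]
        exact hy2 k hik hkj

/-- the chain statement -/
theorem Uc_inj (hX : IsSt X) {φ : S →* SpecialLinearGroup (Fin n) K} (hφ : IsPhi X φ) :
    ∀ m : ℕ, ∀ g ∈ Uc X m, φ g = 1 → g = 1 := by
  intro m
  induction m with
  | zero =>
    intro g hg _
    rw [Uc_zero] at hg
    exact Subgroup.mem_bot.1 hg
  | succ m ih =>
    intro g hg h1
    by_cases hex : ∃ i j : Fin n, i < j ∧ j.val * n + i.val = m
    · obtain ⟨i, j, hij, hm⟩ := hex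
      obtain ⟨t, g', hg', rfl⟩ := Uc_decomp hX hij hm g hg
      obtain ⟨hc1, hc2⟩ := Uc_column hX hφ hij hm g' hg'
      have hE : ((φ (X i j t * g') : SpecialLinearGroup (Fin n) K) : Matrix (Fin n) (Fin n) K) =
          Matrix.transvection i j t *
            ((φ g' : SpecialLinearGroup (Fin n) K) : Matrix (Fin n) (Fin n) K) := by
        rw [map_mul, hφ i j hij.ne t]
        rfl
      have hentry := congrFun (congrFun hE i) j
      rw [h1, Matrix.transvection_mul_apply_same, hc1, hc2 i le_rfl hij.ne] at hentry
      have ht : t = 0 := by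
        have : ((1 : SpecialLinearGroup (Fin n) K) : Matrix (Fin n) (Fin n) K) i j = 0 := by
          simp [hij.ne]
        rw [this] at hentry
        simpa using hentry.symm
      subst ht
      rw [hX.zero hij.ne, one_mul] at h1 ⊢
      exact ih g' hg' h1
    · have hle : Uc X (m + 1) ≤ Uc X m := by
        apply Subgroup.closure_mono
        rintro x ⟨k, l, t, hkl, hc, rfl⟩
        refine ⟨k, l, t, hkl, ?_, rfl⟩
        have : l.val * n + k.val ≠ m := fun h => hex ⟨k, l, hkl, h⟩
        omega
      exact ih g (hle hg) h1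

/-- K-StN-E4 -/
theorem Upos_inj (hX : IsSt X) {φ : S →* SpecialLinearGroup (Fin n) K} (hφ : IsPhi X φ) :
    ∀ g ∈ Upos X, φ g = 1 → g = 1 :=
  fun g hg h1 => Uc_inj hX hφ (n * n) g (Upos_le_Uc hg) h1

end Cfsg.Agent.Lib.Helper36.StN
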