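import Cfsg.Agent.Lib.Helper36.SetSetTrans

/-!
Enumerating a subgroup of the symmetric group on the 24 points by the tables of its elements
(a depth-first walk of its Cayley graph), and building homomorphisms out of it from a map that
is multiplicative on generators.
-/

set_option autoImplicit false

namespace Cfsg.Agent.Lib.Helper36

open Cfsg
open Cfsg.Agent.Lib.Helper10 (idx pt idx_pt idx_lt idx_injective pt_idx)
open Cfsg.Agent.Lib.Helper35
open scoped Pointwise

/-- The table of a permutation of the 24 points. -/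
def tblOf (g : Equiv.Perm GolayPt) : List ℕ := (List.range 24).map (fun i => idx (g (pt i)))

theorem tblOf_getD (g : Equiv.Perm GolayPt) (i : ℕ) (hi : i < 24) :
    (tblOf g).getD i 0 = idx (g (pt i)) := by
  unfold tblOf
  rw [List.getD_eq_getElem?_getD, List.getElem?_map, List.getElem?_range hi]
  rfl

theorem tblOf_injective : Function.Injective tblOf := by
  intro g h e
  refine Equiv.ext (fun p => ?_)
  have h1 := tblOf_getD g (idx p) (idx_lt p)
  have h2 := tblOf_getD h (idx p) (idx_lt p)
  rw [e, h2, pt_idx] at h1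
  exact (idx_injective h1).symm

/-- Composition of tables. -/
def compTbl (a b : List ℕ) : List ℕ := b.map (fun j => a.getD j 0)

theorem tblOf_mul (g h : Equiv.Perm GolayPt) : tblOf (g * h) = compTbl (tblOf g) (tblOf h) := by
  show (List.range 24).map (fun i => idx ((g * h) (pt i))) =
    ((List.range 24).map (fun i => idx (h (pt i)))).map (fun j => (tblOf g).getD j 0)
  rw [List.map_map]
  apply List.map_congr_left
  intro i _
  show idx (g (h (pt i))) = (tblOf g).getD (idx (h (pt i))) 0
  rw [tblOf_getD g _ (idx_lt _), pt_idx]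

theorem tblOf_tblPerm (t t' : List ℕ) (h : TblOK t t') (ht : t.length = 24) :
    tblOf (tblPerm t t' h) = t := by
  apply List.ext_getElem
  · simp [tblOf, ht]
  · intro i h1 h2
    have hi : i < 24 := by rw [ht] at h2; exact h2
    have e1 := tblOf_getD (tblPerm t t' h) i hi
    rw [idx_tblPerm, idx_pt hi] at e1
    rw [List.getD_eq_getElem?_getD, List.getD_eq_getElem?_getD, List.getElem?_eq_getElem h1,
      List.getElem?_eq_getElem h2] at e1
    exact e1

theorem tblOf_one : tblOf 1 = List.range 24 := by
  unfold tblOf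
  conv_rhs => rw [← List.map_id (List.range 24)]
  apply List.map_congr_left
  intro i hi
  exact idx_pt (List.mem_range.mp hi)

theorem tblPerm_model_left (t t' : List ℕ) (h : TblOK t t') (ht : t.length = 24)
    (x : Equiv.Perm GolayPt) : tblOf (tblPerm t t' h • x) = compTbl t (tblOf x) := by
  show tblOf (tblPerm t t' h * x) = _
  rw [tblOf_mul, tblOf_tblPerm t t' h ht]

theorem orbK_one (K : Subgroup (Equiv.Perm GolayPt)) :
    orbK K (1 : Equiv.Perm GolayPt) = (K : Set (Equiv.Perm GolayPt)) := by
  ext y
  constructor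
  · rintro ⟨g, hg, rfl⟩
    show g * 1 ∈ K
    rwa [mul_one]
  · intro hy
    exact ⟨y, hy, mul_one y⟩

theorem ncard_orbK_one (K : Subgroup (Equiv.Perm GolayPt)) :
    (orbK K (1 : Equiv.Perm GolayPt)).ncard = Nat.card K := by
  rw [orbK_one]
  rfl

/-- Exactness: if the orbit has as many elements as the certificate has codes, every element of
the orbit has its code in the list. -/
theorem mem_codes_of_ncard' {X : Type*} [MulAction (Equiv.Perm GolayPt) X] [Finite X] {α : Type*}
    [DecidableEq α] {K : Subgroup (Equiv.Perm GolayPt)}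
    (e : X → α) {gs : List (Equiv.Perm GolayPt)} {acts : List (α → α)}
    (hmod : List.Forall₂ (fun g act => g ∈ K ∧ ∀ x, e (g • x) = act (e x)) gs acts) (x₀ : X)
    (cert : List (ℕ × α)) (hc : checkDFSG acts cert [e x₀] = true) (h : α → ℕ)
    (hd : distinctB h (e x₀ :: pushedG acts.length cert) 0 = true)
    (hn : (orbK K x₀).ncard = (e x₀ :: pushedG acts.length cert).length) :
    ∀ y ∈ orbK K x₀, e y ∈ e x₀ :: pushedG acts.length cert := by
  classical
  set codes := e x₀ :: pushedG acts.length cert with hcodes
  have hnd : codes.Nodup := nodup_of_distinctB h codes hd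
  have hreach := orbit_of_certG hmod x₀ cert hc
  have hsub : (↑codes.toFinset : Set α) ⊆ e '' orbK K x₀ := by
    intro c hc'
    have hc'' : c ∈ codes := by simpa using hc'
    obtain ⟨g, hg, hgc⟩ := hreach c hc''
    exact ⟨g • x₀, ⟨g, hg, rfl⟩, hgc⟩
  have hle : (e '' orbK K x₀).ncard ≤ (↑codes.toFinset : Set α).ncard := by
    rw [Set.ncard_coe_finset, List.toFinset_card_of_nodup hnd, ← hn]
    exact Set.ncard_image_le (Set.toFinite _)
  have heq := Set.eq_of_subset_of_ncard_le hsub hle (Set.toFinite _)
  intro y hy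
  have : e y ∈ (↑codes.toFinset : Set α) := by
    rw [heq]
    exact ⟨y, hy, rfl⟩
  simpa using this

/-- Weaken the subgroup in a list of modelled generators to the closure of the generators. -/
theorem forall₂_closure {α : Type*} {K : Subgroup (Equiv.Perm GolayPt)} {X : Type*}
    [MulAction (Equiv.Perm GolayPt) X] {e : X → α}
    {gs : List (Equiv.Perm GolayPt)} {acts : List (α → α)}
    (hmod : List.Forall₂ (fun g act => g ∈ K ∧ ∀ x, e (g • x) = act (e x)) gs acts) :
    List.Forall₂ (fun g act => g ∈ Subgroup.closure {g | g ∈ gs} ∧ ∀ x, e (g • x) = act (e x))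
      gs acts := by
  have key : ∀ (l : List (Equiv.Perm GolayPt)) (gs' : List (Equiv.Perm GolayPt))
      (acts' : List (α → α)), (∀ g ∈ gs', g ∈ l) →
      List.Forall₂ (fun g act => g ∈ K ∧ ∀ x, e (g • x) = act (e x)) gs' acts' →
      List.Forall₂ (fun g act => g ∈ Subgroup.closure {g | g ∈ l} ∧ ∀ x, e (g • x) = act (e x))
        gs' acts' := by
    intro l gs' acts' hsub h
    induction h with
    | nil => exact List.Forall₂.nil
    | cons hga _ ih =>
      refine List.Forall₂.cons ⟨Subgroup.subset_closure (hsub _ (by simp)), hga.2⟩ (ih ?_)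
      intro g hg
      exact hsub g (List.mem_cons_of_mem _ hg)
  exact key gs gs acts (fun g hg => hg) hmod

/-- The enumeration theorem: a subgroup `K` of known order `n`, with generators whose Cayley walk
visits `n` distinct tables, consists of the permutations with these tables, and is generated by
the generators. -/
theorem tables_of_card {K : Subgroup (Equiv.Perm GolayPt)}
    {gs : List (Equiv.Perm GolayPt)} {acts : List (List ℕ → List ℕ)}
    (hmod : List.Forall₂ (fun g act => g ∈ K ∧ ∀ x : Equiv.Perm GolayPt,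
      tblOf (g • x) = act (tblOf x)) gs acts)
    (cert : List (ℕ × List ℕ)) (hc : checkDFSG acts cert [tblOf 1] = true) (h : List ℕ → ℕ)
    (hd : distinctB h (tblOf 1 :: pushedG acts.length cert) 0 = true)
    (hn : Nat.card K = (tblOf 1 :: pushedG acts.length cert).length) :
    (∀ g ∈ K, tblOf g ∈ tblOf 1 :: pushedG acts.length cert) ∧
      K ≤ Subgroup.closure {g | g ∈ gs} := by
  have h1 : ∀ g ∈ K, tblOf g ∈ tblOf 1 :: pushedG acts.length cert := by
    intro g hg
    apply mem_codes_of_ncard' tblOf hmod 1 cert hc h hd (by rw [ncard_orbK_one]; exact hn)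
    rw [orbK_one]
    exact hg
  refine ⟨h1, fun g hg => ?_⟩
  obtain ⟨u, hu, hug⟩ := orbit_of_certG (forall₂_closure hmod) 1 cert hc _ (h1 g hg)
  have : u • (1 : Equiv.Perm GolayPt) = g := tblOf_injective hug
  have hug' : u = g := by
    have h2 : u * 1 = g := this
    rwa [mul_one] at h2
  rw [← hug']
  exact hu

/-- A map which is multiplicative with respect to right multiplication by generators is
multiplicative on the generated subgroup. -/
theorem mul_of_gens {G' : Type*} [Group G'] {K : Subgroup (Equiv.Perm GolayPt)}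
    (S : Set (Equiv.Perm GolayPt)) (hS : K ≤ Subgroup.closure S) (hSK : S ⊆ K)
    (φ : Equiv.Perm GolayPt → G') (h1 : φ 1 = 1)
    (hmul : ∀ g ∈ K, ∀ s ∈ S, φ (g * s) = φ g * φ s) :
    ∀ g ∈ K, ∀ h ∈ K, φ (g * h) = φ g * φ h := by
  have hcl : Subgroup.closure S ≤ K := (Subgroup.closure_le K).mpr hSK
  have key : ∀ h ∈ Subgroup.closure S, ∀ g ∈ K, φ (g * h) = φ g * φ h := by
    intro h hh
    induction hh using Subgroup.closure_induction with
    | mem s hs => exact fun g hg => hmul g hg s hs
    | one => intro g _; rw [mul_one, h1, mul_one]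
    | mul x y hx hy ihx ihy =>
      intro g hg
      have hxK : x ∈ K := hcl hx
      rw [← mul_assoc, ihy (g * x) (K.mul_mem hg hxK), ihx g hg]
      have := ihy x hxK
      rw [this, mul_assoc]
    | inv x hx ihx =>
      intro g hg
      have hxK : x ∈ K := hcl hx
      have e1 := ihx (g * x⁻¹) (K.mul_mem hg (K.inv_mem hxK))
      rw [inv_mul_cancel_right] at e1
      have e2 := ihx x⁻¹ (K.inv_mem hxK)
      rw [inv_mul_cancel, h1] at e2
      have e3 : φ x⁻¹ = (φ x)⁻¹ := eq_inv_of_mul_eq_one_left e2.symm
      rw [e3, e1, mul_inv_cancel_right]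
  intro g hg h hh
  exact key h (hS hh) g hg

/-- The homomorphism on `↥K` defined by such a map. -/
def homOfMul {G' : Type*} [Group G'] {K : Subgroup (Equiv.Perm GolayPt)}
    (φ : Equiv.Perm GolayPt → G') (h1 : φ 1 = 1)
    (hmul : ∀ g ∈ K, ∀ h ∈ K, φ (g * h) = φ g * φ h) : ↥K →* G' where
  toFun x := φ x.1
  map_one' := h1
  map_mul' x y := hmul x.1 x.2 y.1 y.2

end Cfsg.Agent.Lib.Helper36
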