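import Cfsg.Agent.S1592
import Cfsg.Agent.S1593
import Cfsg.Agent.Lib.Helper36.Monomial

/-!
# Monomial automorphisms of the length-12 ternary code
-/

set_option autoImplicit false

namespace Cfsg.Agent.Lib.Helper36.Tern

open Cfsg Cfsg.Agent.Lib.Helper35 Cfsg.Agent.S1592
open scoped Pointwise

/-- The array point with bit position `i`. -/
def pt12 (i : ℕ) : ArrayPt :=
  (⟨(i / 3) % 4, Nat.mod_lt _ (by decide)⟩, (⟨i % 3, Nat.mod_lt _ (by decide)⟩ : Fin 3))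

theorem idx12_pt12 : ∀ i : Fin 12, idx12 (pt12 i) = i := by decide
theorem idx12_pt12' {i : ℕ} (hi : i < 12) : idx12 (pt12 i) = i := idx12_pt12 ⟨i, hi⟩
theorem pt12_idx12 : ∀ p : ArrayPt, pt12 (idx12 p) = p := by decide

/-- Table lookup. -/
def tbl (l : List ℕ) (i : ℕ) : ℕ := l.getD i 0

/-- The two tables are inverse permutations of `0 .. 11`. -/
def TOK (t t' : List ℕ) : Prop :=
  ∀ i : Fin 12, tbl t i < 12 ∧ tbl t' i < 12 ∧ tbl t' (tbl t i) = i ∧ tbl t (tbl t' i) = i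

instance (t t' : List ℕ) : Decidable (TOK t t') := by unfold TOK; infer_instance

/-- The permutation of the array points with table `t`. -/
def mkP12 (t t' : List ℕ) (h : TOK t t') : Equiv.Perm ArrayPt where
  toFun p := pt12 (tbl t (idx12 p))
  invFun p := pt12 (tbl t' (idx12 p))
  left_inv p := by
    have h1 := h ⟨idx12 p, idx12_lt p⟩
    simp only at h1
    show pt12 (tbl t' (idx12 (pt12 (tbl t (idx12 p))))) = p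
    rw [idx12_pt12' h1.1, h1.2.2.1, pt12_idx12]
  right_inv p := by
    have h1 := h ⟨idx12 p, idx12_lt p⟩
    simp only at h1
    show pt12 (tbl t (idx12 (pt12 (tbl t' (idx12 p))))) = p
    rw [idx12_pt12' h1.2.1, h1.2.2.2, pt12_idx12]

/-- Signs from a list (`1` for plus, anything else for minus). -/
def cOf (l : List ℕ) : ArrayPt → (ZMod 3)ˣ := fun p => if l.getD (idx12 p) 1 = 1 then 1 else -1

/-- Boolean membership in the ternary code. -/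
def memB (y : ArrayPt → ZMod 3) : Bool :=
  decide (y = word (y (0,0)) (y (0,1)) (y (0,2)) (y (1,0)) (y (1,1)) (y (2,0)))

theorem memB_iff (y : ArrayPt → ZMod 3) : memB y = true ↔ y ∈ ternaryGolayCode := by
  unfold memB
  rw [decide_eq_true_eq]
  constructor
  · intro h
    rw [h]
    exact word_mem _ _ _ _ _ _
  · exact eq_word_of_mem y

theorem word_lin : ∀ a0 a1 a2 a3 a4 a5 : ZMod 3, word a0 a1 a2 a3 a4 a5 =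
    a0 • word 1 0 0 0 0 0 + a1 • word 0 1 0 0 0 0 + a2 • word 0 0 1 0 0 0 +
      a3 • word 0 0 0 1 0 0 + a4 • word 0 0 0 0 1 0 + a5 • word 0 0 0 0 0 1 := by
  decide +kernel

/-- Boolean test that a monomial map preserves the ternary code. -/
def presB (σ : Equiv.Perm ArrayPt) (c : ArrayPt → (ZMod 3)ˣ) : Bool :=
  memB (monomialMap σ c (word 1 0 0 0 0 0)) && memB (monomialMap σ c (word 0 1 0 0 0 0)) &&
  memB (monomialMap σ c (word 0 0 1 0 0 0)) && memB (monomialMap σ c (word 0 0 0 1 0 0)) &&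
  memB (monomialMap σ c (word 0 0 0 0 1 0)) && memB (monomialMap σ c (word 0 0 0 0 0 1))

theorem presB_sound' (σ : Equiv.Perm ArrayPt) (c : ArrayPt → (ZMod 3)ˣ)
    (h : presB σ c = true) : Mono.Pres ternaryGolayCode σ c := by
  unfold presB at h
  simp only [Bool.and_eq_true, memB_iff] at h
  obtain ⟨⟨⟨⟨⟨h0, h1⟩, h2⟩, h3⟩, h4⟩, h5⟩ := h
  intro x hx
  rw [eq_word_of_mem x hx, word_lin, ← Mono.lin_apply]
  simp only [map_add, map_smul]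
  rw [Mono.lin_apply, Mono.lin_apply, Mono.lin_apply, Mono.lin_apply, Mono.lin_apply, Mono.lin_apply]
  exact Submodule.add_mem _ (Submodule.add_mem _ (Submodule.add_mem _ (Submodule.add_mem _
    (Submodule.add_mem _ (Submodule.smul_mem _ _ h0) (Submodule.smul_mem _ _ h1))
    (Submodule.smul_mem _ _ h2)) (Submodule.smul_mem _ _ h3)) (Submodule.smul_mem _ _ h4))
    (Submodule.smul_mem _ _ h5)

theorem presB_sound (t t' : List ℕ) (h : TOK t t') (l : List ℕ)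
    (hp : presB (mkP12 t t' h) (cOf l) = true) :
    Mono.Pres ternaryGolayCode (mkP12 t t' h) (cOf l) := presB_sound' _ _ hp

/-- The group of permutation parts. -/
def KK : Subgroup (Equiv.Perm ArrayPt) := Mono.permPart ternaryGolayCode

/-- The automorphism group of the hexad system. -/
def AA : Subgroup (Equiv.Perm ArrayPt) := setSystemAut Blocks

/-- The chain of stabilisers of the points `0, 1, ...`. -/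
def chain (G : Subgroup (Equiv.Perm ArrayPt)) : ℕ → Subgroup (Equiv.Perm ArrayPt)
  | 0 => G
  | j + 1 => chain G j ⊓ MulAction.stabilizer (Equiv.Perm ArrayPt) (pt12 j)

theorem mem_chain (G : Subgroup (Equiv.Perm ArrayPt)) (j : ℕ) (σ : Equiv.Perm ArrayPt) :
    σ ∈ chain G j ↔ σ ∈ G ∧ ∀ i < j, σ (pt12 i) = pt12 i := by
  induction j with
  | zero => simp [chain]
  | succ j ih =>
    rw [chain, Subgroup.mem_inf, ih, MulAction.mem_stabilizer_iff]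
    constructor
    · rintro ⟨⟨h1, h2⟩, h3⟩
      refine ⟨h1, fun i hi => ?_⟩
      rcases Nat.lt_succ_iff_lt_or_eq.mp hi with h | rfl
      · exact h2 i h
      · exact h3
    · rintro ⟨h1, h2⟩
      exact ⟨⟨h1, fun i hi => h2 i (Nat.lt_succ_of_lt hi)⟩, h2 j (Nat.lt_succ_self j)⟩

/-- The table fixes `0 .. j-1`. -/
def fixB (t : List ℕ) (j : ℕ) : Bool := (List.range j).all fun i => tbl t i == i

theorem fix_of_fixB (t t' : List ℕ) (h : TOK t t') (j : ℕ) (hj : j ≤ 12) (hf : fixB t j = true) :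
    ∀ i < j, mkP12 t t' h (pt12 i) = pt12 i := by
  intro i hi
  unfold fixB at hf
  rw [List.all_eq_true] at hf
  have h1 := hf i (List.mem_range.mpr hi)
  rw [beq_iff_eq] at h1
  show pt12 (tbl t (idx12 (pt12 i))) = pt12 i
  rw [idx12_pt12' (lt_of_lt_of_le hi hj), h1]

/-! ### Lower bound -/

theorem e0_0_ok : TOK [0, 1, 2, 3, 4, 5, 6, 7, 8, 9, 10, 11] [0, 1, 2, 3, 4, 5, 6, 7, 8, 9, 10, 11] := by decide +kernel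
/-- A transversal element. -/
def e0_0 : Equiv.Perm ArrayPt := mkP12 [0, 1, 2, 3, 4, 5, 6, 7, 8, 9, 10, 11] [0, 1, 2, 3, 4, 5, 6, 7, 8, 9, 10, 11] e0_0_ok
theorem e0_0_mem : e0_0 ∈ chain KK 0 := (mem_chain _ _ _).mpr ⟨⟨cOf [1, 1, 1, 1, 1, 1, 1, 1, 1, 1, 1, 1], presB_sound _ _ _ _ (by decide +kernel)⟩, fix_of_fixB _ _ _ 0 (by decide) (by decide)⟩
theorem e0_1_ok : TOK [1, 0, 2, 3, 4, 5, 11, 9, 10, 7, 8, 6] [1, 0, 2, 3, 4, 5, 11, 9, 10, 7, 8, 6] := by decide +kernel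
/-- A transversal element. -/
def e0_1 : Equiv.Perm ArrayPt := mkP12 [1, 0, 2, 3, 4, 5, 11, 9, 10, 7, 8, 6] [1, 0, 2, 3, 4, 5, 11, 9, 10, 7, 8, 6] e0_1_ok
theorem e0_1_mem : e0_1 ∈ chain KK 0 := (mem_chain _ _ _).mpr ⟨⟨cOf [1, 1, 1, 1, 1, 1, 1, 1, 1, 1, 1, 1], presB_sound _ _ _ _ (by decide +kernel)⟩, fix_of_fixB _ _ _ 0 (by decide) (by decide)⟩
theorem e0_2_ok : TOK [2, 0, 1, 3, 4, 5, 8, 6, 7, 10, 11, 9] [1, 2, 0, 3, 4, 5, 7, 8, 6, 11, 9, 10] := by decide +kernel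
/-- A transversal element. -/
def e0_2 : Equiv.Perm ArrayPt := mkP12 [2, 0, 1, 3, 4, 5, 8, 6, 7, 10, 11, 9] [1, 2, 0, 3, 4, 5, 7, 8, 6, 11, 9, 10] e0_2_ok
theorem e0_2_mem : e0_2 ∈ chain KK 0 := (mem_chain _ _ _).mpr ⟨⟨cOf [1, 1, 1, 1, 1, 1, 1, 1, 1, 1, 1, 1], presB_sound _ _ _ _ (by decide +kernel)⟩, fix_of_fixB _ _ _ 0 (by decide) (by decide)⟩
theorem e0_3_ok : TOK [3, 0, 1, 2, 4, 5, 10, 7, 6, 8, 9, 11] [1, 2, 3, 0, 4, 5, 8, 7, 9, 10, 6, 11] := by decide +kernel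
/-- A transversal element. -/
def e0_3 : Equiv.Perm ArrayPt := mkP12 [3, 0, 1, 2, 4, 5, 10, 7, 6, 8, 9, 11] [1, 2, 3, 0, 4, 5, 8, 7, 9, 10, 6, 11] e0_3_ok
theorem e0_3_mem : e0_3 ∈ chain KK 0 := (mem_chain _ _ _).mpr ⟨⟨cOf [1, 1, 2, 2, 1, 1, 2, 2, 1, 2, 1, 2], presB_sound _ _ _ _ (by decide +kernel)⟩, fix_of_fixB _ _ _ 0 (by decide) (by decide)⟩
theorem e0_4_ok : TOK [4, 0, 1, 2, 3, 5, 6, 9, 10, 11, 7, 8] [1, 2, 3, 4, 0, 5, 6, 10, 11, 7, 8, 9] := by decide +kernel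
/-- A transversal element. -/
def e0_4 : Equiv.Perm ArrayPt := mkP12 [4, 0, 1, 2, 3, 5, 6, 9, 10, 11, 7, 8] [1, 2, 3, 4, 0, 5, 6, 10, 11, 7, 8, 9] e0_4_ok
theorem e0_4_mem : e0_4 ∈ chain KK 0 := (mem_chain _ _ _).mpr ⟨⟨cOf [1, 1, 2, 1, 2, 1, 1, 2, 2, 2, 2, 1], presB_sound _ _ _ _ (by decide +kernel)⟩, fix_of_fixB _ _ _ 0 (by decide) (by decide)⟩
theorem e0_5_ok : TOK [5, 0, 1, 2, 3, 4, 9, 6, 8, 7, 11, 10] [1, 2, 3, 4, 5, 0, 7, 9, 8, 6, 11, 10] := by decide +kernel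
/-- A transversal element. -/
def e0_5 : Equiv.Perm ArrayPt := mkP12 [5, 0, 1, 2, 3, 4, 9, 6, 8, 7, 11, 10] [1, 2, 3, 4, 5, 0, 7, 9, 8, 6, 11, 10] e0_5_ok
theorem e0_5_mem : e0_5 ∈ chain KK 0 := (mem_chain _ _ _).mpr ⟨⟨cOf [1, 1, 2, 1, 1, 2, 2, 1, 2, 1, 2, 2], presB_sound _ _ _ _ (by decide +kernel)⟩, fix_of_fixB _ _ _ 0 (by decide) (by decide)⟩
theorem e0_6_ok : TOK [6, 0, 1, 2, 3, 9, 5, 4, 7, 10, 8, 11] [1, 2, 3, 4, 7, 6, 0, 8, 10, 5, 9, 11] := by decide +kernel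
/-- A transversal element. -/
def e0_6 : Equiv.Perm ArrayPt := mkP12 [6, 0, 1, 2, 3, 9, 5, 4, 7, 10, 8, 11] [1, 2, 3, 4, 7, 6, 0, 8, 10, 5, 9, 11] e0_6_ok
theorem e0_6_mem : e0_6 ∈ chain KK 0 := (mem_chain _ _ _).mpr ⟨⟨cOf [1, 2, 1, 1, 2, 1, 2, 2, 2, 1, 1, 2], presB_sound _ _ _ _ (by decide +kernel)⟩, fix_of_fixB _ _ _ 0 (by decide) (by decide)⟩
theorem e0_7_ok : TOK [7, 0, 1, 2, 3, 11, 10, 8, 9, 4, 5, 6] [1, 2, 3, 4, 9, 10, 11, 0, 7, 8, 6, 5] := by decide +kernel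
/-- A transversal element. -/
def e0_7 : Equiv.Perm ArrayPt := mkP12 [7, 0, 1, 2, 3, 11, 10, 8, 9, 4, 5, 6] [1, 2, 3, 4, 9, 10, 11, 0, 7, 8, 6, 5] e0_7_ok
theorem e0_7_mem : e0_7 ∈ chain KK 0 := (mem_chain _ _ _).mpr ⟨⟨cOf [1, 2, 2, 2, 2, 1, 1, 1, 1, 1, 2, 2], presB_sound _ _ _ _ (by decide +kernel)⟩, fix_of_fixB _ _ _ 0 (by decide) (by decide)⟩
theorem e0_8_ok : TOK [8, 0, 1, 2, 3, 10, 7, 11, 4, 6, 9, 5] [1, 2, 3, 4, 8, 11, 9, 6, 0, 10, 5, 7] := by decide +kernel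
/-- A transversal element. -/
def e0_8 : Equiv.Perm ArrayPt := mkP12 [8, 0, 1, 2, 3, 10, 7, 11, 4, 6, 9, 5] [1, 2, 3, 4, 8, 11, 9, 6, 0, 10, 5, 7] e0_8_ok
theorem e0_8_mem : e0_8 ∈ chain KK 0 := (mem_chain _ _ _).mpr ⟨⟨cOf [1, 1, 1, 2, 1, 1, 2, 2, 1, 1, 2, 1], presB_sound _ _ _ _ (by decide +kernel)⟩, fix_of_fixB _ _ _ 0 (by decide) (by decide)⟩
theorem e0_9_ok : TOK [9, 0, 1, 2, 3, 6, 4, 5, 11, 8, 10, 7] [1, 2, 3, 4, 6, 7, 5, 11, 9, 0, 10, 8] := by decide +kernel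
/-- A transversal element. -/
def e0_9 : Equiv.Perm ArrayPt := mkP12 [9, 0, 1, 2, 3, 6, 4, 5, 11, 8, 10, 7] [1, 2, 3, 4, 6, 7, 5, 11, 9, 0, 10, 8] e0_9_ok
theorem e0_9_mem : e0_9 ∈ chain KK 0 := (mem_chain _ _ _).mpr ⟨⟨cOf [1, 2, 1, 1, 1, 2, 1, 2, 1, 2, 2, 2], presB_sound _ _ _ _ (by decide +kernel)⟩, fix_of_fixB _ _ _ 0 (by decide) (by decide)⟩
theorem e0_10_ok : TOK [10, 0, 1, 2, 3, 8, 11, 7, 5, 9, 6, 4] [1, 2, 3, 4, 11, 8, 10, 7, 5, 9, 0, 6] := by decide +kernel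
/-- A transversal element. -/
def e0_10 : Equiv.Perm ArrayPt := mkP12 [10, 0, 1, 2, 3, 8, 11, 7, 5, 9, 6, 4] [1, 2, 3, 4, 11, 8, 10, 7, 5, 9, 0, 6] e0_10_ok
theorem e0_10_mem : e0_10 ∈ chain KK 0 := (mem_chain _ _ _).mpr ⟨⟨cOf [1, 1, 1, 2, 1, 1, 1, 1, 2, 2, 1, 2], presB_sound _ _ _ _ (by decide +kernel)⟩, fix_of_fixB _ _ _ 0 (by decide) (by decide)⟩
theorem e0_11_ok : TOK [11, 0, 1, 2, 3, 7, 8, 10, 6, 5, 4, 9] [1, 2, 3, 4, 10, 9, 8, 5, 6, 11, 7, 0] := by decide +kernel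
/-- A transversal element. -/
def e0_11 : Equiv.Perm ArrayPt := mkP12 [11, 0, 1, 2, 3, 7, 8, 10, 6, 5, 4, 9] [1, 2, 3, 4, 10, 9, 8, 5, 6, 11, 7, 0] e0_11_ok
theorem e0_11_mem : e0_11 ∈ chain KK 0 := (mem_chain _ _ _).mpr ⟨⟨cOf [1, 2, 2, 2, 1, 2, 1, 2, 2, 1, 1, 1], presB_sound _ _ _ _ (by decide +kernel)⟩, fix_of_fixB _ _ _ 0 (by decide) (by decide)⟩
/-- Transversal at level 0. -/
def lev0 : List (Equiv.Perm ArrayPt) := [e0_0, e0_1, e0_2, e0_3, e0_4, e0_5, e0_6, e0_7, e0_8, e0_9, e0_10, e0_11]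
theorem lev0_mem : ∀ g ∈ lev0, g ∈ chain KK 0 := by
  intro g hg
  simp only [lev0, List.mem_cons, List.not_mem_nil, or_false] at hg
  rcases hg with rfl | rfl | rfl | rfl | rfl | rfl | rfl | rfl | rfl | rfl | rfl | rfl
  exacts [e0_0_mem, e0_1_mem, e0_2_mem, e0_3_mem, e0_4_mem, e0_5_mem, e0_6_mem, e0_7_mem, e0_8_mem, e0_9_mem, e0_10_mem, e0_11_mem]
theorem e1_0_ok : TOK [0, 1, 2, 3, 4, 5, 6, 7, 8, 9, 10, 11] [0, 1, 2, 3, 4, 5, 6, 7, 8, 9, 10, 11] := by decide +kernel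
/-- A transversal element. -/
def e1_0 : Equiv.Perm ArrayPt := mkP12 [0, 1, 2, 3, 4, 5, 6, 7, 8, 9, 10, 11] [0, 1, 2, 3, 4, 5, 6, 7, 8, 9, 10, 11] e1_0_ok
theorem e1_0_mem : e1_0 ∈ chain KK 1 := (mem_chain _ _ _).mpr ⟨⟨cOf [1, 1, 1, 1, 1, 1, 1, 1, 1, 1, 1, 1], presB_sound _ _ _ _ (by decide +kernel)⟩, fix_of_fixB _ _ _ 1 (by decide) (by decide)⟩
theorem e1_1_ok : TOK [0, 2, 1, 3, 4, 5, 9, 10, 11, 6, 7, 8] [0, 2, 1, 3, 4, 5, 9, 10, 11, 6, 7, 8] := by decide +kernel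
/-- A transversal element. -/
def e1_1 : Equiv.Perm ArrayPt := mkP12 [0, 2, 1, 3, 4, 5, 9, 10, 11, 6, 7, 8] [0, 2, 1, 3, 4, 5, 9, 10, 11, 6, 7, 8] e1_1_ok
theorem e1_1_mem : e1_1 ∈ chain KK 1 := (mem_chain _ _ _).mpr ⟨⟨cOf [1, 1, 1, 1, 1, 1, 1, 1, 1, 1, 1, 1], presB_sound _ _ _ _ (by decide +kernel)⟩, fix_of_fixB _ _ _ 1 (by decide) (by decide)⟩
theorem e1_2_ok : TOK [0, 3, 1, 2, 4, 5, 11, 8, 9, 7, 6, 10] [0, 2, 3, 1, 4, 5, 10, 9, 7, 8, 11, 6] := by decide +kernel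
/-- A transversal element. -/
def e1_2 : Equiv.Perm ArrayPt := mkP12 [0, 3, 1, 2, 4, 5, 11, 8, 9, 7, 6, 10] [0, 2, 3, 1, 4, 5, 10, 9, 7, 8, 11, 6] e1_2_ok
theorem e1_2_mem : e1_2 ∈ chain KK 1 := (mem_chain _ _ _).mpr ⟨⟨cOf [1, 1, 2, 2, 1, 1, 2, 2, 1, 2, 1, 2], presB_sound _ _ _ _ (by decide +kernel)⟩, fix_of_fixB _ _ _ 1 (by decide) (by decide)⟩
theorem e1_3_ok : TOK [0, 4, 1, 2, 3, 5, 8, 11, 7, 9, 10, 6] [0, 2, 3, 4, 1, 5, 11, 8, 6, 9, 10, 7] := by decide +kernel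
/-- A transversal element. -/
def e1_3 : Equiv.Perm ArrayPt := mkP12 [0, 4, 1, 2, 3, 5, 8, 11, 7, 9, 10, 6] [0, 2, 3, 4, 1, 5, 11, 8, 6, 9, 10, 7] e1_3_ok
theorem e1_3_mem : e1_3 ∈ chain KK 1 := (mem_chain _ _ _).mpr ⟨⟨cOf [1, 1, 2, 1, 2, 1, 1, 2, 2, 2, 2, 1], presB_sound _ _ _ _ (by decide +kernel)⟩, fix_of_fixB _ _ _ 1 (by decide) (by decide)⟩
theorem e1_4_ok : TOK [0, 5, 1, 2, 3, 4, 10, 7, 11, 6, 8, 9] [0, 2, 3, 4, 5, 1, 9, 7, 10, 11, 6, 8] := by decide +kernel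
/-- A transversal element. -/
def e1_4 : Equiv.Perm ArrayPt := mkP12 [0, 5, 1, 2, 3, 4, 10, 7, 11, 6, 8, 9] [0, 2, 3, 4, 5, 1, 9, 7, 10, 11, 6, 8] e1_4_ok
theorem e1_4_mem : e1_4 ∈ chain KK 1 := (mem_chain _ _ _).mpr ⟨⟨cOf [1, 1, 2, 1, 1, 2, 2, 1, 2, 1, 2, 2], presB_sound _ _ _ _ (by decide +kernel)⟩, fix_of_fixB _ _ _ 1 (by decide) (by decide)⟩
theorem e1_5_ok : TOK [0, 6, 1, 2, 3, 9, 11, 10, 8, 4, 7, 5] [0, 2, 3, 4, 9, 11, 1, 10, 8, 5, 7, 6] := by decide +kernel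
/-- A transversal element. -/
def e1_5 : Equiv.Perm ArrayPt := mkP12 [0, 6, 1, 2, 3, 9, 11, 10, 8, 4, 7, 5] [0, 2, 3, 4, 9, 11, 1, 10, 8, 5, 7, 6] e1_5_ok
theorem e1_5_mem : e1_5 ∈ chain KK 1 := (mem_chain _ _ _).mpr ⟨⟨cOf [1, 2, 1, 1, 2, 1, 2, 2, 2, 1, 1, 2], presB_sound _ _ _ _ (by decide +kernel)⟩, fix_of_fixB _ _ _ 1 (by decide) (by decide)⟩
theorem e1_6_ok : TOK [0, 7, 1, 2, 3, 11, 6, 4, 5, 8, 9, 10] [0, 2, 3, 4, 7, 8, 6, 1, 9, 10, 11, 5] := by decide +kernel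
/-- A transversal element. -/
def e1_6 : Equiv.Perm ArrayPt := mkP12 [0, 7, 1, 2, 3, 11, 6, 4, 5, 8, 9, 10] [0, 2, 3, 4, 7, 8, 6, 1, 9, 10, 11, 5] e1_6_ok
theorem e1_6_mem : e1_6 ∈ chain KK 1 := (mem_chain _ _ _).mpr ⟨⟨cOf [1, 2, 2, 2, 2, 1, 1, 1, 1, 1, 2, 2], presB_sound _ _ _ _ (by decide +kernel)⟩, fix_of_fixB _ _ _ 1 (by decide) (by decide)⟩
theorem e1_7_ok : TOK [0, 8, 1, 2, 3, 10, 5, 6, 9, 11, 4, 7] [0, 2, 3, 4, 10, 6, 7, 11, 1, 8, 5, 9] := by decide +kernel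
/-- A transversal element. -/
def e1_7 : Equiv.Perm ArrayPt := mkP12 [0, 8, 1, 2, 3, 10, 5, 6, 9, 11, 4, 7] [0, 2, 3, 4, 10, 6, 7, 11, 1, 8, 5, 9] e1_7_ok
theorem e1_7_mem : e1_7 ∈ chain KK 1 := (mem_chain _ _ _).mpr ⟨⟨cOf [1, 1, 1, 2, 1, 1, 2, 2, 1, 1, 2, 1], presB_sound _ _ _ _ (by decide +kernel)⟩, fix_of_fixB _ _ _ 1 (by decide) (by decide)⟩
theorem e1_8_ok : TOK [0, 9, 1, 2, 3, 6, 7, 8, 10, 5, 11, 4] [0, 2, 3, 4, 11, 9, 5, 6, 7, 1, 8, 10] := by decide +kernel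
/-- A transversal element. -/
def e1_8 : Equiv.Perm ArrayPt := mkP12 [0, 9, 1, 2, 3, 6, 7, 8, 10, 5, 11, 4] [0, 2, 3, 4, 11, 9, 5, 6, 7, 1, 8, 10] e1_8_ok
theorem e1_8_mem : e1_8 ∈ chain KK 1 := (mem_chain _ _ _).mpr ⟨⟨cOf [1, 2, 1, 1, 1, 2, 1, 2, 1, 2, 2, 2], presB_sound _ _ _ _ (by decide +kernel)⟩, fix_of_fixB _ _ _ 1 (by decide) (by decide)⟩
theorem e1_9_ok : TOK [0, 10, 1, 2, 3, 8, 4, 9, 6, 7, 5, 11] [0, 2, 3, 4, 6, 10, 8, 9, 5, 7, 1, 11] := by decide +kernel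
/-- A transversal element. -/
def e1_9 : Equiv.Perm ArrayPt := mkP12 [0, 10, 1, 2, 3, 8, 4, 9, 6, 7, 5, 11] [0, 2, 3, 4, 6, 10, 8, 9, 5, 7, 1, 11] e1_9_ok
theorem e1_9_mem : e1_9 ∈ chain KK 1 := (mem_chain _ _ _).mpr ⟨⟨cOf [1, 1, 1, 2, 1, 1, 1, 1, 2, 2, 1, 2], presB_sound _ _ _ _ (by decide +kernel)⟩, fix_of_fixB _ _ _ 1 (by decide) (by decide)⟩
theorem e1_10_ok : TOK [0, 11, 1, 2, 3, 7, 9, 5, 4, 10, 6, 8] [0, 2, 3, 4, 8, 7, 10, 5, 11, 6, 9, 1] := by decide +kernel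
/-- A transversal element. -/
def e1_10 : Equiv.Perm ArrayPt := mkP12 [0, 11, 1, 2, 3, 7, 9, 5, 4, 10, 6, 8] [0, 2, 3, 4, 8, 7, 10, 5, 11, 6, 9, 1] e1_10_ok
theorem e1_10_mem : e1_10 ∈ chain KK 1 := (mem_chain _ _ _).mpr ⟨⟨cOf [1, 2, 2, 2, 1, 2, 1, 2, 2, 1, 1, 1], presB_sound _ _ _ _ (by decide +kernel)⟩, fix_of_fixB _ _ _ 1 (by decide) (by decide)⟩
/-- Transversal at level 1. -/
def lev1 : List (Equiv.Perm ArrayPt) := [e1_0, e1_1, e1_2, e1_3, e1_4, e1_5, e1_6, e1_7, e1_8, e1_9, e1_10]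
theorem lev1_mem : ∀ g ∈ lev1, g ∈ chain KK 1 := by
  intro g hg
  simp only [lev1, List.mem_cons, List.not_mem_nil, or_false] at hg
  rcases hg with rfl | rfl | rfl | rfl | rfl | rfl | rfl | rfl | rfl | rfl | rfl
  exacts [e1_0_mem, e1_1_mem, e1_2_mem, e1_3_mem, e1_4_mem, e1_5_mem, e1_6_mem, e1_7_mem, e1_8_mem, e1_9_mem, e1_10_mem]
theorem e2_0_ok : TOK [0, 1, 2, 3, 4, 5, 6, 7, 8, 9, 10, 11] [0, 1, 2, 3, 4, 5, 6, 7, 8, 9, 10, 11] := by decide +kernel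
/-- A transversal element. -/
def e2_0 : Equiv.Perm ArrayPt := mkP12 [0, 1, 2, 3, 4, 5, 6, 7, 8, 9, 10, 11] [0, 1, 2, 3, 4, 5, 6, 7, 8, 9, 10, 11] e2_0_ok
theorem e2_0_mem : e2_0 ∈ chain KK 2 := (mem_chain _ _ _).mpr ⟨⟨cOf [1, 1, 1, 1, 1, 1, 1, 1, 1, 1, 1, 1], presB_sound _ _ _ _ (by decide +kernel)⟩, fix_of_fixB _ _ _ 2 (by decide) (by decide)⟩
theorem e2_1_ok : TOK [0, 1, 3, 2, 4, 5, 7, 6, 10, 11, 8, 9] [0, 1, 3, 2, 4, 5, 7, 6, 10, 11, 8, 9] := by decide +kernel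
/-- A transversal element. -/
def e2_1 : Equiv.Perm ArrayPt := mkP12 [0, 1, 3, 2, 4, 5, 7, 6, 10, 11, 8, 9] [0, 1, 3, 2, 4, 5, 7, 6, 10, 11, 8, 9] e2_1_ok
theorem e2_1_mem : e2_1 ∈ chain KK 2 := (mem_chain _ _ _).mpr ⟨⟨cOf [1, 1, 2, 2, 1, 1, 2, 2, 1, 2, 1, 2], presB_sound _ _ _ _ (by decide +kernel)⟩, fix_of_fixB _ _ _ 2 (by decide) (by decide)⟩
theorem e2_2_ok : TOK [0, 1, 4, 2, 3, 5, 9, 10, 6, 8, 11, 7] [0, 1, 3, 4, 2, 5, 8, 11, 9, 6, 7, 10] := by decide +kernel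
/-- A transversal element. -/
def e2_2 : Equiv.Perm ArrayPt := mkP12 [0, 1, 4, 2, 3, 5, 9, 10, 6, 8, 11, 7] [0, 1, 3, 4, 2, 5, 8, 11, 9, 6, 7, 10] e2_2_ok
theorem e2_2_mem : e2_2 ∈ chain KK 2 := (mem_chain _ _ _).mpr ⟨⟨cOf [1, 1, 2, 1, 2, 1, 1, 2, 2, 2, 2, 1], presB_sound _ _ _ _ (by decide +kernel)⟩, fix_of_fixB _ _ _ 2 (by decide) (by decide)⟩
theorem e2_3_ok : TOK [0, 1, 5, 2, 3, 4, 6, 8, 9, 10, 7, 11] [0, 1, 3, 4, 5, 2, 6, 10, 7, 8, 9, 11] := by decide +kernel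
/-- A transversal element. -/
def e2_3 : Equiv.Perm ArrayPt := mkP12 [0, 1, 5, 2, 3, 4, 6, 8, 9, 10, 7, 11] [0, 1, 3, 4, 5, 2, 6, 10, 7, 8, 9, 11] e2_3_ok
theorem e2_3_mem : e2_3 ∈ chain KK 2 := (mem_chain _ _ _).mpr ⟨⟨cOf [1, 1, 2, 1, 1, 2, 2, 1, 2, 1, 2, 2], presB_sound _ _ _ _ (by decide +kernel)⟩, fix_of_fixB _ _ _ 2 (by decide) (by decide)⟩
theorem e2_4_ok : TOK [0, 1, 6, 2, 3, 9, 4, 7, 5, 11, 10, 8] [0, 1, 3, 4, 6, 8, 2, 7, 11, 5, 10, 9] := by decide +kernel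
/-- A transversal element. -/
def e2_4 : Equiv.Perm ArrayPt := mkP12 [0, 1, 6, 2, 3, 9, 4, 7, 5, 11, 10, 8] [0, 1, 3, 4, 6, 8, 2, 7, 11, 5, 10, 9] e2_4_ok
theorem e2_4_mem : e2_4 ∈ chain KK 2 := (mem_chain _ _ _).mpr ⟨⟨cOf [1, 2, 1, 1, 2, 1, 2, 2, 2, 1, 1, 2], presB_sound _ _ _ _ (by decide +kernel)⟩, fix_of_fixB _ _ _ 2 (by decide) (by decide)⟩
theorem e2_5_ok : TOK [0, 1, 7, 2, 3, 11, 8, 9, 10, 6, 4, 5] [0, 1, 3, 4, 10, 11, 9, 2, 6, 7, 8, 5] := by decide +kernel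
/-- A transversal element. -/
def e2_5 : Equiv.Perm ArrayPt := mkP12 [0, 1, 7, 2, 3, 11, 8, 9, 10, 6, 4, 5] [0, 1, 3, 4, 10, 11, 9, 2, 6, 7, 8, 5] e2_5_ok
theorem e2_5_mem : e2_5 ∈ chain KK 2 := (mem_chain _ _ _).mpr ⟨⟨cOf [1, 2, 2, 2, 2, 1, 1, 1, 1, 1, 2, 2], presB_sound _ _ _ _ (by decide +kernel)⟩, fix_of_fixB _ _ _ 2 (by decide) (by decide)⟩
theorem e2_6_ok : TOK [0, 1, 8, 2, 3, 10, 11, 4, 7, 5, 6, 9] [0, 1, 3, 4, 7, 9, 10, 8, 2, 11, 5, 6] := by decide +kernel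
/-- A transversal element. -/
def e2_6 : Equiv.Perm ArrayPt := mkP12 [0, 1, 8, 2, 3, 10, 11, 4, 7, 5, 6, 9] [0, 1, 3, 4, 7, 9, 10, 8, 2, 11, 5, 6] e2_6_ok
theorem e2_6_mem : e2_6 ∈ chain KK 2 := (mem_chain _ _ _).mpr ⟨⟨cOf [1, 1, 1, 2, 1, 1, 2, 2, 1, 1, 2, 1], presB_sound _ _ _ _ (by decide +kernel)⟩, fix_of_fixB _ _ _ 2 (by decide) (by decide)⟩
theorem e2_7_ok : TOK [0, 1, 9, 2, 3, 6, 5, 11, 4, 7, 8, 10] [0, 1, 3, 4, 8, 6, 5, 9, 10, 2, 11, 7] := by decide +kernel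
/-- A transversal element. -/
def e2_7 : Equiv.Perm ArrayPt := mkP12 [0, 1, 9, 2, 3, 6, 5, 11, 4, 7, 8, 10] [0, 1, 3, 4, 8, 6, 5, 9, 10, 2, 11, 7] e2_7_ok
theorem e2_7_mem : e2_7 ∈ chain KK 2 := (mem_chain _ _ _).mpr ⟨⟨cOf [1, 2, 1, 1, 1, 2, 1, 2, 1, 2, 2, 2], presB_sound _ _ _ _ (by decide +kernel)⟩, fix_of_fixB _ _ _ 2 (by decide) (by decide)⟩
theorem e2_8_ok : TOK [0, 1, 10, 2, 3, 8, 7, 5, 11, 4, 9, 6] [0, 1, 3, 4, 9, 7, 11, 6, 5, 10, 2, 8] := by decide +kernel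
/-- A transversal element. -/
def e2_8 : Equiv.Perm ArrayPt := mkP12 [0, 1, 10, 2, 3, 8, 7, 5, 11, 4, 9, 6] [0, 1, 3, 4, 9, 7, 11, 6, 5, 10, 2, 8] e2_8_ok
theorem e2_8_mem : e2_8 ∈ chain KK 2 := (mem_chain _ _ _).mpr ⟨⟨cOf [1, 1, 1, 2, 1, 1, 1, 1, 2, 2, 1, 2], presB_sound _ _ _ _ (by decide +kernel)⟩, fix_of_fixB _ _ _ 2 (by decide) (by decide)⟩
theorem e2_9_ok : TOK [0, 1, 11, 2, 3, 7, 10, 6, 8, 9, 5, 4] [0, 1, 3, 4, 11, 10, 7, 5, 8, 9, 6, 2] := by decide +kernel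
/-- A transversal element. -/
def e2_9 : Equiv.Perm ArrayPt := mkP12 [0, 1, 11, 2, 3, 7, 10, 6, 8, 9, 5, 4] [0, 1, 3, 4, 11, 10, 7, 5, 8, 9, 6, 2] e2_9_ok
theorem e2_9_mem : e2_9 ∈ chain KK 2 := (mem_chain _ _ _).mpr ⟨⟨cOf [1, 2, 2, 2, 1, 2, 1, 2, 2, 1, 1, 1], presB_sound _ _ _ _ (by decide +kernel)⟩, fix_of_fixB _ _ _ 2 (by decide) (by decide)⟩
/-- Transversal at level 2. -/
def lev2 : List (Equiv.Perm ArrayPt) := [e2_0, e2_1, e2_2, e2_3, e2_4, e2_5, e2_6, e2_7, e2_8, e2_9]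
theorem lev2_mem : ∀ g ∈ lev2, g ∈ chain KK 2 := by
  intro g hg
  simp only [lev2, List.mem_cons, List.not_mem_nil, or_false] at hg
  rcases hg with rfl | rfl | rfl | rfl | rfl | rfl | rfl | rfl | rfl | rfl
  exacts [e2_0_mem, e2_1_mem, e2_2_mem, e2_3_mem, e2_4_mem, e2_5_mem, e2_6_mem, e2_7_mem, e2_8_mem, e2_9_mem]
theorem e3_0_ok : TOK [0, 1, 2, 3, 4, 5, 6, 7, 8, 9, 10, 11] [0, 1, 2, 3, 4, 5, 6, 7, 8, 9, 10, 11] := by decide +kernel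
/-- A transversal element. -/
def e3_0 : Equiv.Perm ArrayPt := mkP12 [0, 1, 2, 3, 4, 5, 6, 7, 8, 9, 10, 11] [0, 1, 2, 3, 4, 5, 6, 7, 8, 9, 10, 11] e3_0_ok
theorem e3_0_mem : e3_0 ∈ chain KK 3 := (mem_chain _ _ _).mpr ⟨⟨cOf [1, 1, 1, 1, 1, 1, 1, 1, 1, 1, 1, 1], presB_sound _ _ _ _ (by decide +kernel)⟩, fix_of_fixB _ _ _ 3 (by decide) (by decide)⟩
theorem e3_1_ok : TOK [0, 1, 2, 4, 3, 5, 10, 9, 11, 7, 6, 8] [0, 1, 2, 4, 3, 5, 10, 9, 11, 7, 6, 8] := by decide +kernel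
/-- A transversal element. -/
def e3_1 : Equiv.Perm ArrayPt := mkP12 [0, 1, 2, 4, 3, 5, 10, 9, 11, 7, 6, 8] [0, 1, 2, 4, 3, 5, 10, 9, 11, 7, 6, 8] e3_1_ok
theorem e3_1_mem : e3_1 ∈ chain KK 3 := (mem_chain _ _ _).mpr ⟨⟨cOf [1, 1, 1, 1, 1, 1, 1, 1, 1, 1, 1, 1], presB_sound _ _ _ _ (by decide +kernel)⟩, fix_of_fixB _ _ _ 3 (by decide) (by decide)⟩
theorem e3_2_ok : TOK [0, 1, 2, 5, 3, 4, 8, 6, 7, 11, 9, 10] [0, 1, 2, 4, 5, 3, 7, 8, 6, 10, 11, 9] := by decide +kernel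
/-- A transversal element. -/
def e3_2 : Equiv.Perm ArrayPt := mkP12 [0, 1, 2, 5, 3, 4, 8, 6, 7, 11, 9, 10] [0, 1, 2, 4, 5, 3, 7, 8, 6, 10, 11, 9] e3_2_ok
theorem e3_2_mem : e3_2 ∈ chain KK 3 := (mem_chain _ _ _).mpr ⟨⟨cOf [1, 1, 1, 1, 1, 1, 1, 1, 1, 1, 1, 1], presB_sound _ _ _ _ (by decide +kernel)⟩, fix_of_fixB _ _ _ 3 (by decide) (by decide)⟩
theorem e3_3_ok : TOK [0, 1, 2, 6, 3, 9, 7, 4, 10, 8, 5, 11] [0, 1, 2, 4, 7, 10, 3, 6, 9, 5, 8, 11] := by decide +kernel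
/-- A transversal element. -/
def e3_3 : Equiv.Perm ArrayPt := mkP12 [0, 1, 2, 6, 3, 9, 7, 4, 10, 8, 5, 11] [0, 1, 2, 4, 7, 10, 3, 6, 9, 5, 8, 11] e3_3_ok
theorem e3_3_mem : e3_3 ∈ chain KK 3 := (mem_chain _ _ _).mpr ⟨⟨cOf [1, 2, 2, 1, 1, 1, 1, 1, 1, 1, 1, 1], presB_sound _ _ _ _ (by decide +kernel)⟩, fix_of_fixB _ _ _ 3 (by decide) (by decide)⟩
theorem e3_4_ok : TOK [0, 1, 2, 7, 3, 11, 9, 8, 4, 5, 10, 6] [0, 1, 2, 4, 8, 9, 11, 3, 7, 6, 10, 5] := by decide +kernel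
/-- A transversal element. -/
def e3_4 : Equiv.Perm ArrayPt := mkP12 [0, 1, 2, 7, 3, 11, 9, 8, 4, 5, 10, 6] [0, 1, 2, 4, 8, 9, 11, 3, 7, 6, 10, 5] e3_4_ok
theorem e3_4_mem : e3_4 ∈ chain KK 3 := (mem_chain _ _ _).mpr ⟨⟨cOf [1, 2, 1, 2, 2, 2, 2, 2, 2, 2, 2, 2], presB_sound _ _ _ _ (by decide +kernel)⟩, fix_of_fixB _ _ _ 3 (by decide) (by decide)⟩
theorem e3_5_ok : TOK [0, 1, 2, 8, 3, 10, 4, 11, 6, 9, 7, 5] [0, 1, 2, 4, 6, 11, 8, 10, 3, 9, 5, 7] := by decide +kernel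
/-- A transversal element. -/
def e3_5 : Equiv.Perm ArrayPt := mkP12 [0, 1, 2, 8, 3, 10, 4, 11, 6, 9, 7, 5] [0, 1, 2, 4, 6, 11, 8, 10, 3, 9, 5, 7] e3_5_ok
theorem e3_5_mem : e3_5 ∈ chain KK 3 := (mem_chain _ _ _).mpr ⟨⟨cOf [1, 1, 2, 2, 2, 2, 2, 2, 2, 2, 2, 2], presB_sound _ _ _ _ (by decide +kernel)⟩, fix_of_fixB _ _ _ 3 (by decide) (by decide)⟩
theorem e3_6_ok : TOK [0, 1, 2, 9, 3, 6, 11, 5, 8, 10, 4, 7] [0, 1, 2, 4, 10, 7, 5, 11, 8, 3, 9, 6] := by decide +kernel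
/-- A transversal element. -/
def e3_6 : Equiv.Perm ArrayPt := mkP12 [0, 1, 2, 9, 3, 6, 11, 5, 8, 10, 4, 7] [0, 1, 2, 4, 10, 7, 5, 11, 8, 3, 9, 6] e3_6_ok
theorem e3_6_mem : e3_6 ∈ chain KK 3 := (mem_chain _ _ _).mpr ⟨⟨cOf [1, 2, 2, 1, 1, 1, 1, 1, 1, 1, 1, 1], presB_sound _ _ _ _ (by decide +kernel)⟩, fix_of_fixB _ _ _ 3 (by decide) (by decide)⟩
theorem e3_7_ok : TOK [0, 1, 2, 10, 3, 8, 5, 7, 9, 6, 11, 4] [0, 1, 2, 4, 11, 6, 9, 7, 5, 8, 3, 10] := by decide +kernel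
/-- A transversal element. -/
def e3_7 : Equiv.Perm ArrayPt := mkP12 [0, 1, 2, 10, 3, 8, 5, 7, 9, 6, 11, 4] [0, 1, 2, 4, 11, 6, 9, 7, 5, 8, 3, 10] e3_7_ok
theorem e3_7_mem : e3_7 ∈ chain KK 3 := (mem_chain _ _ _).mpr ⟨⟨cOf [1, 1, 2, 2, 2, 2, 2, 2, 2, 2, 2, 2], presB_sound _ _ _ _ (by decide +kernel)⟩, fix_of_fixB _ _ _ 3 (by decide) (by decide)⟩
theorem e3_8_ok : TOK [0, 1, 2, 11, 3, 7, 6, 10, 5, 4, 8, 9] [0, 1, 2, 4, 9, 8, 6, 5, 10, 11, 7, 3] := by decide +kernel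
/-- A transversal element. -/
def e3_8 : Equiv.Perm ArrayPt := mkP12 [0, 1, 2, 11, 3, 7, 6, 10, 5, 4, 8, 9] [0, 1, 2, 4, 9, 8, 6, 5, 10, 11, 7, 3] e3_8_ok
theorem e3_8_mem : e3_8 ∈ chain KK 3 := (mem_chain _ _ _).mpr ⟨⟨cOf [1, 2, 1, 2, 2, 2, 2, 2, 2, 2, 2, 2], presB_sound _ _ _ _ (by decide +kernel)⟩, fix_of_fixB _ _ _ 3 (by decide) (by decide)⟩
/-- Transversal at level 3. -/
def lev3 : List (Equiv.Perm ArrayPt) := [e3_0, e3_1, e3_2, e3_3, e3_4, e3_5, e3_6, e3_7, e3_8]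
theorem lev3_mem : ∀ g ∈ lev3, g ∈ chain KK 3 := by
  intro g hg
  simp only [lev3, List.mem_cons, List.not_mem_nil, or_false] at hg
  rcases hg with rfl | rfl | rfl | rfl | rfl | rfl | rfl | rfl | rfl
  exacts [e3_0_mem, e3_1_mem, e3_2_mem, e3_3_mem, e3_4_mem, e3_5_mem, e3_6_mem, e3_7_mem, e3_8_mem]
theorem e4_0_ok : TOK [0, 1, 2, 3, 4, 5, 6, 7, 8, 9, 10, 11] [0, 1, 2, 3, 4, 5, 6, 7, 8, 9, 10, 11] := by decide +kernel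
/-- A transversal element. -/
def e4_0 : Equiv.Perm ArrayPt := mkP12 [0, 1, 2, 3, 4, 5, 6, 7, 8, 9, 10, 11] [0, 1, 2, 3, 4, 5, 6, 7, 8, 9, 10, 11] e4_0_ok
theorem e4_0_mem : e4_0 ∈ chain KK 4 := (mem_chain _ _ _).mpr ⟨⟨cOf [1, 1, 1, 1, 1, 1, 1, 1, 1, 1, 1, 1], presB_sound _ _ _ _ (by decide +kernel)⟩, fix_of_fixB _ _ _ 4 (by decide) (by decide)⟩
theorem e4_1_ok : TOK [0, 1, 2, 3, 5, 4, 9, 11, 10, 6, 8, 7] [0, 1, 2, 3, 5, 4, 9, 11, 10, 6, 8, 7] := by decide +kernel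
/-- A transversal element. -/
def e4_1 : Equiv.Perm ArrayPt := mkP12 [0, 1, 2, 3, 5, 4, 9, 11, 10, 6, 8, 7] [0, 1, 2, 3, 5, 4, 9, 11, 10, 6, 8, 7] e4_1_ok
theorem e4_1_mem : e4_1 ∈ chain KK 4 := (mem_chain _ _ _).mpr ⟨⟨cOf [1, 1, 1, 1, 1, 1, 1, 1, 1, 1, 1, 1], presB_sound _ _ _ _ (by decide +kernel)⟩, fix_of_fixB _ _ _ 4 (by decide) (by decide)⟩
theorem e4_2_ok : TOK [0, 1, 2, 3, 6, 9, 5, 8, 11, 4, 7, 10] [0, 1, 2, 3, 9, 6, 4, 10, 7, 5, 11, 8] := by decide +kernel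
/-- A transversal element. -/
def e4_2 : Equiv.Perm ArrayPt := mkP12 [0, 1, 2, 3, 6, 9, 5, 8, 11, 4, 7, 10] [0, 1, 2, 3, 9, 6, 4, 10, 7, 5, 11, 8] e4_2_ok
theorem e4_2_mem : e4_2 ∈ chain KK 4 := (mem_chain _ _ _).mpr ⟨⟨cOf [1, 2, 2, 1, 1, 1, 1, 1, 1, 1, 1, 1], presB_sound _ _ _ _ (by decide +kernel)⟩, fix_of_fixB _ _ _ 4 (by decide) (by decide)⟩
theorem e4_3_ok : TOK [0, 1, 2, 3, 7, 11, 10, 5, 6, 8, 9, 4] [0, 1, 2, 3, 11, 7, 8, 4, 9, 10, 6, 5] := by decide +kernel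
/-- A transversal element. -/
def e4_3 : Equiv.Perm ArrayPt := mkP12 [0, 1, 2, 3, 7, 11, 10, 5, 6, 8, 9, 4] [0, 1, 2, 3, 11, 7, 8, 4, 9, 10, 6, 5] e4_3_ok
theorem e4_3_mem : e4_3 ∈ chain KK 4 := (mem_chain _ _ _).mpr ⟨⟨cOf [1, 2, 1, 2, 2, 2, 2, 2, 2, 2, 2, 2], presB_sound _ _ _ _ (by decide +kernel)⟩, fix_of_fixB _ _ _ 4 (by decide) (by decide)⟩
theorem e4_4_ok : TOK [0, 1, 2, 3, 8, 10, 7, 9, 5, 11, 4, 6] [0, 1, 2, 3, 10, 8, 11, 6, 4, 7, 5, 9] := by decide +kernel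
/-- A transversal element. -/
def e4_4 : Equiv.Perm ArrayPt := mkP12 [0, 1, 2, 3, 8, 10, 7, 9, 5, 11, 4, 6] [0, 1, 2, 3, 10, 8, 11, 6, 4, 7, 5, 9] e4_4_ok
theorem e4_4_mem : e4_4 ∈ chain KK 4 := (mem_chain _ _ _).mpr ⟨⟨cOf [1, 1, 2, 2, 2, 2, 2, 2, 2, 2, 2, 2], presB_sound _ _ _ _ (by decide +kernel)⟩, fix_of_fixB _ _ _ 4 (by decide) (by decide)⟩
theorem e4_5_ok : TOK [0, 1, 2, 3, 9, 6, 4, 10, 7, 5, 11, 8] [0, 1, 2, 3, 6, 9, 5, 8, 11, 4, 7, 10] := by decide +kernel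
/-- A transversal element. -/
def e4_5 : Equiv.Perm ArrayPt := mkP12 [0, 1, 2, 3, 9, 6, 4, 10, 7, 5, 11, 8] [0, 1, 2, 3, 6, 9, 5, 8, 11, 4, 7, 10] e4_5_ok
theorem e4_5_mem : e4_5 ∈ chain KK 4 := (mem_chain _ _ _).mpr ⟨⟨cOf [1, 2, 2, 1, 1, 1, 1, 1, 1, 1, 1, 1], presB_sound _ _ _ _ (by decide +kernel)⟩, fix_of_fixB _ _ _ 4 (by decide) (by decide)⟩
theorem e4_6_ok : TOK [0, 1, 2, 3, 10, 8, 11, 6, 4, 7, 5, 9] [0, 1, 2, 3, 8, 10, 7, 9, 5, 11, 4, 6] := by decide +kernel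
/-- A transversal element. -/
def e4_6 : Equiv.Perm ArrayPt := mkP12 [0, 1, 2, 3, 10, 8, 11, 6, 4, 7, 5, 9] [0, 1, 2, 3, 8, 10, 7, 9, 5, 11, 4, 6] e4_6_ok
theorem e4_6_mem : e4_6 ∈ chain KK 4 := (mem_chain _ _ _).mpr ⟨⟨cOf [1, 1, 2, 2, 2, 2, 2, 2, 2, 2, 2, 2], presB_sound _ _ _ _ (by decide +kernel)⟩, fix_of_fixB _ _ _ 4 (by decide) (by decide)⟩
theorem e4_7_ok : TOK [0, 1, 2, 3, 11, 7, 8, 4, 9, 10, 6, 5] [0, 1, 2, 3, 7, 11, 10, 5, 6, 8, 9, 4] := by decide +kernel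
/-- A transversal element. -/
def e4_7 : Equiv.Perm ArrayPt := mkP12 [0, 1, 2, 3, 11, 7, 8, 4, 9, 10, 6, 5] [0, 1, 2, 3, 7, 11, 10, 5, 6, 8, 9, 4] e4_7_ok
theorem e4_7_mem : e4_7 ∈ chain KK 4 := (mem_chain _ _ _).mpr ⟨⟨cOf [1, 2, 1, 2, 2, 2, 2, 2, 2, 2, 2, 2], presB_sound _ _ _ _ (by decide +kernel)⟩, fix_of_fixB _ _ _ 4 (by decide) (by decide)⟩
/-- Transversal at level 4. -/
def lev4 : List (Equiv.Perm ArrayPt) := [e4_0, e4_1, e4_2, e4_3, e4_4, e4_5, e4_6, e4_7]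
theorem lev4_mem : ∀ g ∈ lev4, g ∈ chain KK 4 := by
  intro g hg
  simp only [lev4, List.mem_cons, List.not_mem_nil, or_false] at hg
  rcases hg with rfl | rfl | rfl | rfl | rfl | rfl | rfl | rfl
  exacts [e4_0_mem, e4_1_mem, e4_2_mem, e4_3_mem, e4_4_mem, e4_5_mem, e4_6_mem, e4_7_mem]

theorem card_KK_ge : 95040 ≤ Nat.card KK := by
  have h5 : 1 ≤ Nat.card (chain KK 5) := Nat.one_le_iff_ne_zero.mpr Nat.card_pos.ne'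
  have h4 := Mono.card_ge_of_list (chain KK 4) (pt12 4) lev4 lev4_mem (by decide) h5
  have h3 := Mono.card_ge_of_list (chain KK 3) (pt12 3) lev3 lev3_mem (by decide) h4
  have h2 := Mono.card_ge_of_list (chain KK 2) (pt12 2) lev2 lev2_mem (by decide) h3
  have h1 := Mono.card_ge_of_list (chain KK 1) (pt12 1) lev1 lev1_mem (by decide) h2
  have h0 := Mono.card_ge_of_list (chain KK 0) (pt12 0) lev0 lev0_mem (by decide) h1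
  exact h0

end Cfsg.Agent.Lib.Helper36.Tern
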