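import Cfsg.Agent.Lib.Helper36.Tern

/-!
# The automorphism group of the hexad system of the length-12 ternary code
-/

set_option autoImplicit false

namespace Cfsg.Agent.Lib.Helper36.Tern

open Cfsg Cfsg.Agent.Lib.Helper35 Cfsg.Agent.S1592
open scoped Pointwise

theorem support_monomial (σ : Equiv.Perm ArrayPt) (c : ArrayPt → (ZMod 3)ˣ) (x : ArrayPt → ZMod 3) :
    ternarySupport (monomialMap σ c x) = σ • ternarySupport x := by
  ext p
  rw [Finset.mem_smul_finset]
  have hp : p ∈ ternarySupport (monomialMap σ c x) ↔ monomialMap σ c x p ≠ 0 := by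
    simp [ternarySupport]
  have hq : ∀ q, q ∈ ternarySupport x ↔ x q ≠ 0 := by
    intro q
    simp [ternarySupport]
  rw [hp]
  constructor
  · intro h
    refine ⟨σ.symm p, (hq _).mpr ?_, by simp [Equiv.Perm.smul_def]⟩
    intro h0
    apply h
    show (c p : ZMod 3) * x (σ.symm p) = 0
    rw [h0, mul_zero]
  · rintro ⟨q, hq', rfl⟩
    have h1 := (hq q).mp hq'
    show (c (σ • q) : ZMod 3) * x (σ.symm (σ • q)) ≠ 0
    rw [Equiv.Perm.smul_def, Equiv.symm_apply_apply]
    exact mul_ne_zero (Units.ne_zero _) h1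

theorem smul_mem_Blocks {σ : Equiv.Perm ArrayPt} (hσ : σ ∈ KK) {h : Finset ArrayPt}
    (hh : h ∈ Blocks) : σ • h ∈ Blocks := by
  obtain ⟨c, hc⟩ := hσ
  obtain ⟨x, hx, rfl, hcard⟩ := hh
  refine ⟨monomialMap σ c x, hc x hx, support_monomial σ c x, ?_⟩
  rw [Finset.card_smul_finset]
  exact hcard

theorem KK_le_AA : KK ≤ AA := by
  intro σ hσ
  show σ • Blocks = Blocks
  ext h
  constructor
  · rintro ⟨h', hh', rfl⟩
    exact smul_mem_Blocks hσ hh'
  · intro hh
    exact ⟨σ⁻¹ • h, smul_mem_Blocks (KK.inv_mem hσ) hh, smul_inv_smul σ h⟩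

/-! ### Upper bound -/

theorem card_filter_ge : ∀ j : Fin 12,
    (Finset.univ.filter fun p : ArrayPt => j.val ≤ idx12 p).card = 12 - j.val := by decide

theorem pt12_injective {i j : ℕ} (hi : i < 12) (hj : j < 12) (h : pt12 i = pt12 j) : i = j := by
  have := congrArg idx12 h
  rwa [idx12_pt12' hi, idx12_pt12' hj] at this

theorem card_chain_le (G : Subgroup (Equiv.Perm ArrayPt)) (j : ℕ) (hj : j < 12) :
    Nat.card (chain G j) ≤ (12 - j) * Nat.card (chain G (j + 1)) := by
  rw [Mono.card_eq_orbit_mulG (chain G j) (pt12 j) {c | ∃ σ ∈ chain G j, σ • pt12 j = c}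
    (fun σ hσ => ⟨σ, hσ, rfl⟩) (fun c hc => hc)]
  apply Nat.mul_le_mul _ le_rfl
  have hsub : {c | ∃ σ ∈ chain G j, σ • pt12 j = c} ⊆
      ((Finset.univ.filter fun p : ArrayPt => j ≤ idx12 p : Finset ArrayPt) : Set ArrayPt) := by
    rintro c ⟨σ, hσ, rfl⟩
    simp only [Finset.coe_filter, Finset.mem_univ, true_and, Set.mem_ofPred_eq]
    by_contra hlt
    push Not at hlt
    have hfix := ((mem_chain G j σ).mp hσ).2 _ hlt
    have h1 : σ (pt12 (idx12 (σ • pt12 j))) = σ (pt12 j) := by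
      rw [hfix, pt12_idx12]
      rfl
    have h2 := σ.injective h1
    have h3 := pt12_injective (lt_trans hlt hj) hj h2
    omega
  have h4 := Set.ncard_le_ncard hsub (Set.toFinite _)
  rw [Set.ncard_coe_finset, card_filter_ge ⟨j, hj⟩] at h4
  exact h4

/-- The table of a permutation as a function on bit positions. -/
def fOf (σ : Equiv.Perm ArrayPt) (i : ℕ) : ℕ := idx12 (σ (pt12 i))

theorem fOf_spec (σ : Equiv.Perm ArrayPt) (a : ArrayPt) : idx12 (σ • a) = fOf σ (idx12 a) := by
  unfold fOf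
  rw [pt12_idx12]
  rfl

theorem fOf_lt (σ : Equiv.Perm ArrayPt) (i : ℕ) : fOf σ i < 12 := idx12_lt _

theorem fOf_inj (σ : Equiv.Perm ArrayPt) {i j : ℕ} (hi : i < 12) (hj : j < 12)
    (h : fOf σ i = fOf σ j) : i = j :=
  pt12_injective hi hj (σ.injective (idx12_inj h))

theorem block_image (σ : Equiv.Perm ArrayPt) (hσ : σ ∈ AA) (b : ℕ) (hb : b ∈ blockList) :
    mapMask (fOf σ) 12 b ∈ blockList := by
  obtain ⟨h, hh, rfl⟩ := exists_of_mem_blockList hb
  have h1 : σ • h ∈ Blocks := by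
    have h0 : σ • Blocks = Blocks := hσ
    rw [← h0]
    exact Set.smul_mem_smul_set hh
  have h2 := mask_mem_of_mem_Blocks h1
  rw [Finset.smul_finset_def, maskOf_image idx12_lt (fun a => σ • a) (fOf σ) (fOf_spec σ)] at h2
  exact h2

theorem mapMask_congr (f g : ℕ → ℕ) (n m : ℕ)
    (h : ∀ k < n, m.testBit k = true → f k = g k) : mapMask f n m = mapMask g n m := by
  induction n with
  | zero => rfl
  | succ k ih =>
    rw [mapMask, mapMask, ih (fun j hj => h j (Nat.lt_succ_of_lt hj))]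
    by_cases hk : m.testBit k = true
    · rw [if_pos hk, if_pos hk, h k (Nat.lt_succ_self k) hk]
    · rw [if_neg hk, if_neg hk]

theorem six_check : ∀ k : Fin 12,
    mapMask (fun i => if i < 5 then i else k.val) 12 63 ∈ blockList → k.val = 5 := by
  decide +kernel

theorem bits63 : ∀ k : Fin 12, (63 : ℕ).testBit k = true → k.val < 6 := by decide

/-- Bitmap of the block masks. -/
def blockBM : ℕ := blockList.foldr (fun b acc => 2 ^ b ||| acc) 0

theorem blockBM_spec : blockList.all (fun b => blockBM.testBit b) = true := by decide +kernel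

/-- The table fixing `0 .. 5` and mapping `6 + i` to `6 + k i`. -/
def fY (k : List ℕ) (i : ℕ) : ℕ := if i < 6 then i else 6 + k.getD (i - 6) 0

/-- All blocks are mapped to blocks. -/
def blocksOK (g : ℕ → ℕ) : Bool := blockList.all fun b => blockBM.testBit (mapMask g 12 b)

/-- Boolean form of the rigidity check. -/
def rigidB (k0 k1 k2 k3 k4 k5 : Fin 6) : Bool :=
  !blocksOK (fY [k0.val, k1.val, k2.val, k3.val, k4.val, k5.val]) ||
    (k0.val == 0 && k1.val == 1 && k2.val == 2 && k3.val == 3 && k4.val == 4 && k5.val == 5)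

theorem rigidB_all : ∀ k0 k1 k2 k3 k4 k5 : Fin 6, rigidB k0 k1 k2 k3 k4 k5 = true := by
  decide +kernel

theorem rigid_check (k0 k1 k2 k3 k4 k5 : Fin 6)
    (h : blocksOK (fY [k0.val, k1.val, k2.val, k3.val, k4.val, k5.val]) = true) :
      k0.val = 0 ∧ k1.val = 1 ∧ k2.val = 2 ∧ k3.val = 3 ∧ k4.val = 4 ∧ k5.val = 5 := by
  have h1 := rigidB_all k0 k1 k2 k3 k4 k5
  unfold rigidB at h1
  rw [h] at h1
  simp only [Bool.not_true, Bool.false_or, Bool.and_eq_true, beq_iff_eq] at h1
  obtain ⟨⟨⟨⟨⟨e0, e1⟩, e2⟩, e3⟩, e4⟩, e5⟩ := h1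
  exact ⟨e0, e1, e2, e3, e4, e5⟩

theorem rigid (σ : Equiv.Perm ArrayPt) (h : σ ∈ chain AA 5) : σ = 1 := by
  obtain ⟨hA, hfix⟩ := (mem_chain AA 5 σ).mp h
  have hf5 : ∀ i < 5, fOf σ i = i := by
    intro i hi
    unfold fOf
    rw [hfix i hi, idx12_pt12' (by omega)]
  -- the sixth point
  have h5 : fOf σ 5 = 5 := by
    have h1 := block_image σ hA 63 (by decide)
    rw [mapMask_congr (fOf σ) (fun i => if i < 5 then i else fOf σ 5) 12 63] at h1
    · exact six_check ⟨fOf σ 5, fOf_lt σ 5⟩ h1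
    · intro k hk hb
      have h6 := bits63 ⟨k, hk⟩ hb
      simp only at h6
      by_cases hk5 : k < 5
      · rw [if_pos hk5, hf5 k hk5]
      · rw [if_neg hk5]
        have : k = 5 := by omega
        rw [this]
  have hf6 : ∀ i < 6, fOf σ i = i := by
    intro i hi
    rcases Nat.lt_succ_iff_lt_or_eq.mp hi with h | rfl
    · exact hf5 i h
    · exact h5
  have hge : ∀ i, 6 ≤ i → i < 12 → 6 ≤ fOf σ i := by
    intro i hi hi'
    by_contra hlt
    push Not at hlt
    have h1 : fOf σ (fOf σ i) = fOf σ i := hf6 _ hlt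
    have h2 := fOf_inj σ (fOf_lt σ i) hi' h1
    omega
  have hlt := fOf_lt σ
  have key := rigid_check ⟨fOf σ 6 - 6, by have := hlt 6; omega⟩ ⟨fOf σ 7 - 6, by have := hlt 7; omega⟩
    ⟨fOf σ 8 - 6, by have := hlt 8; omega⟩ ⟨fOf σ 9 - 6, by have := hlt 9; omega⟩
    ⟨fOf σ 10 - 6, by have := hlt 10; omega⟩ ⟨fOf σ 11 - 6, by have := hlt 11; omega⟩
  simp only at key
  have hagree : ∀ i < 12, fOf σ i = fY [fOf σ 6 - 6, fOf σ 7 - 6, fOf σ 8 - 6, fOf σ 9 - 6,
      fOf σ 10 - 6, fOf σ 11 - 6] i := by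
    intro i hi
    unfold fY
    by_cases h6 : i < 6
    · rw [if_pos h6, hf6 i h6]
    · rw [if_neg h6]
      have h6' : 6 ≤ i := by omega
      have hcases : i = 6 ∨ i = 7 ∨ i = 8 ∨ i = 9 ∨ i = 10 ∨ i = 11 := by omega
      rcases hcases with rfl | rfl | rfl | rfl | rfl | rfl
      · have := hge 6 (by omega) (by omega); simp; omega
      · have := hge 7 (by omega) (by omega); simp; omega
      · have := hge 8 (by omega) (by omega); simp; omega
      · have := hge 9 (by omega) (by omega); simp; omega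
      · have := hge 10 (by omega) (by omega); simp; omega
      · have := hge 11 (by omega) (by omega); simp; omega
  have hok : blocksOK (fY [fOf σ 6 - 6, fOf σ 7 - 6, fOf σ 8 - 6, fOf σ 9 - 6,
      fOf σ 10 - 6, fOf σ 11 - 6]) = true := by
    unfold blocksOK
    rw [List.all_eq_true]
    intro b hb
    rw [← mapMask_congr (fOf σ) _ 12 b (fun k hk _ => hagree k hk)]
    have h1 := block_image σ hA b hb
    have h2 := blockBM_spec
    rw [List.all_eq_true] at h2
    exact h2 _ h1
  obtain ⟨e6, e7, e8, e9, e10, e11⟩ := key hok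
  have hall : ∀ i < 12, fOf σ i = i := by
    intro i hi
    by_cases h6 : i < 6
    · exact hf6 i h6
    · have hcases : i = 6 ∨ i = 7 ∨ i = 8 ∨ i = 9 ∨ i = 10 ∨ i = 11 := by omega
      rcases hcases with rfl | rfl | rfl | rfl | rfl | rfl
      · have := hge 6 (by omega) (by omega); omega
      · have := hge 7 (by omega) (by omega); omega
      · have := hge 8 (by omega) (by omega); omega
      · have := hge 9 (by omega) (by omega); omega
      · have := hge 10 (by omega) (by omega); omega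
      · have := hge 11 (by omega) (by omega); omega
  ext1 p
  have h1 := fOf_spec σ p
  rw [hall _ (idx12_lt p)] at h1
  exact idx12_inj h1

theorem card_chain_AA_five : Nat.card (chain AA 5) = 1 := by
  have : chain AA 5 = ⊥ := by
    rw [Subgroup.eq_bot_iff_forall]
    exact fun σ hσ => rigid σ hσ
  rw [this, Subgroup.card_bot]

theorem card_AA_le : Nat.card AA ≤ 95040 := by
  have h0 := card_chain_le AA 0 (by omega)
  have h1 := card_chain_le AA 1 (by omega)
  have h2 := card_chain_le AA 2 (by omega)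
  have h3 := card_chain_le AA 3 (by omega)
  have h4 := card_chain_le AA 4 (by omega)
  rw [card_chain_AA_five] at h4
  have e : chain AA 0 = AA := rfl
  rw [e] at h0
  simp only [Nat.sub_zero, Nat.reduceSub, Nat.reduceAdd, mul_one] at h0 h1 h2 h3 h4
  calc Nat.card AA ≤ 12 * Nat.card (chain AA 1) := h0
    _ ≤ 12 * (11 * Nat.card (chain AA 2)) := Nat.mul_le_mul le_rfl h1
    _ ≤ 12 * (11 * (10 * Nat.card (chain AA 3))) := Nat.mul_le_mul le_rfl (Nat.mul_le_mul le_rfl h2)
    _ ≤ 12 * (11 * (10 * (9 * Nat.card (chain AA 4)))) :=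
        Nat.mul_le_mul le_rfl (Nat.mul_le_mul le_rfl (Nat.mul_le_mul le_rfl h3))
    _ ≤ 12 * (11 * (10 * (9 * 8))) :=
        Nat.mul_le_mul le_rfl (Nat.mul_le_mul le_rfl (Nat.mul_le_mul le_rfl (Nat.mul_le_mul le_rfl h4)))
    _ = 95040 := by norm_num

theorem KK_eq_AA : KK = AA :=
  Subgroup.eq_of_le_of_card_ge KK_le_AA (le_trans card_AA_le card_KK_ge)

theorem card_KK : Nat.card KK = 95040 :=
  le_antisymm (le_trans (Subgroup.card_le_of_le KK_le_AA) card_AA_le) card_KK_ge

end Cfsg.Agent.Lib.Helper36.Tern
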