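import Mathlib
import Cfsg.Agent.Lib.Helper53.YoDefs
import Cfsg.Agent.Lib.Helper14.Yoshida
import Cfsg.Agent.S5224
import Cfsg.Agent.S5098
import Cfsg.Agent.Lib.Helper87.KNormalizer2

set_option autoImplicit false
universe u
open Cfsg Cfsg.FusionSystem

/-!
# K-S5225-B: `focal_eq_of_stable` (keystone for S5225, Yoshida's theorem for fusion systems)
-/

namespace Cfsg.Agent.Lib.Helper36.Yo
open Cfsg.Agent.Lib.Helper53.Yo Cfsg.Agent.Lib.Helper87

section aux

variable {Ω : Type u} [Group Ω] {S : Subgroup Ω}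

theorem normalizerIn_self (S : Subgroup Ω) : normalizerIn S S = S := by
  unfold normalizerIn
  exact inf_eq_left.mpr Subgroup.le_normalizer

theorem isFullyNormalized_self [Finite S] (F : FusionSystem S) : F.IsFullyNormalized S := by
  refine ⟨le_rfl, fun Q _ => ?_⟩
  rw [normalizerIn_self]
  apply Subgroup.card_le_of_le
  unfold normalizerIn
  exact inf_le_left

theorem focal_le (F : FusionSystem S) : F.focalSubgroup ≤ S := by
  unfold focalSubgroup
  rw [Subgroup.closure_le]
  rintro y ⟨P, φ, x, hφ, rfl⟩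
  exact S.mul_mem (S.inv_mem ((F.le_of_mem hφ).1 x.2)) ((F.le_of_mem hφ).2 x)

theorem focal_mono {T : Subgroup Ω} (E : FusionSystem T) (F : FusionSystem S)
    (h : ∀ P : Subgroup Ω, E.Hom P ⊆ F.Hom P) : E.focalSubgroup ≤ F.focalSubgroup := by
  unfold focalSubgroup
  apply Subgroup.closure_mono
  rintro y ⟨P, φ, x, hφ, rfl⟩
  exact ⟨P, φ, x, h P hφ, rfl⟩

/-- an automorphism of `S` in `Aut_F(S)` gives a map of the normalizer system `N_F(S)` -/
theorem aut_mem_normalizerHom (F : FusionSystem S) {α : MulAut ↥S} (hα : α ∈ F.autGroup S) :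
    S.subtype.comp α.toMonoidHom ∈ F.normalizerHom S S := by
  have h1 : S.subtype.comp α.toMonoidHom ∈ F.Hom S := (mem_autGroup_iff F le_rfl).1 hα
  have hsup : S ⊔ S = S := sup_idem S
  refine ⟨h1, ?_, ?_, (S.subtype.comp α.toMonoidHom).comp (Subgroup.inclusion hsup.le),
    cast_mem F hsup h1, ?_, ?_⟩
  · rw [normalizerIn_self]
  · intro x
    rw [normalizerIn_self]
    exact (α x).2
  · intro x
    rfl
  · ext y
    constructor
    · rintro ⟨z, _, rfl⟩
      exact (α (Subgroup.inclusion hsup.le z)).2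
    · intro hy
      refine ⟨⟨(α.symm ⟨y, hy⟩ : ↥S), (le_sup_left : S ≤ S ⊔ S) (α.symm ⟨y, hy⟩).2⟩, ?_, ?_⟩
      · exact (α.symm ⟨y, hy⟩).2
      · change ((α (Subgroup.inclusion hsup.le ⟨(α.symm ⟨y, hy⟩ : ↥S), _⟩) : ↥S) : Ω) = y
        have : Subgroup.inclusion hsup.le
            ⟨((α.symm ⟨y, hy⟩ : ↥S) : Ω), (le_sup_left : S ≤ S ⊔ S) (α.symm ⟨y, hy⟩).2⟩ = α.symm ⟨y, hy⟩ := by
          apply Subtype.ext; rfl
        rw [this, MulEquiv.apply_symm_apply]

end aux

theorem focal_eq_of_stable {Ω : Type u} [Group Ω] {S : Subgroup Ω} [Finite S] (p : ℕ) [Fact p.Prime]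
    (hS : IsPGroup p S) (F : FusionSystem S) (hF : F.IsSaturated p)
    (N : FusionSystem (normalizerIn S S)) (hN : F.IsNormalizerSystem S N)
    (hst : ∀ (A : Type u) [CommGroup A], (∀ a : A, a ^ p = 1) → ∀ lam : ↥S →* A,
      (∀ α ∈ F.autGroup S, ∀ s : ↥S, lam (α s) = lam s) →
      ∀ (P : Subgroup Ω) (φ : P →* Ω) (hφ : φ ∈ F.Hom P) (u : P),
        lam ⟨φ u, (F.le_of_mem hφ).2 u⟩ = lam ⟨u, (F.le_of_mem hφ).1 u.2⟩) :
    N.focalSubgroup = F.focalSubgroup := by
  have hfn : F.IsFullyNormalized S := isFullyNormalized_self F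
  have hNsat : N.IsSaturated p := Cfsg.Agent.S5098.result p hS F hF S hfn N hN
  have hnS : normalizerIn S S = S := normalizerIn_self S
  set H : FusionSystem S := castSys' hnS N with hH
  have hHsat : H.IsSaturated p := (castSys'_isSaturated hnS N p).2 hNsat
  have hHhom : ∀ P : Subgroup Ω, H.Hom P = F.normalizerHom S P := by
    intro P
    rw [hH, castSys'_hom, hN P]
  have hHF : H.IsSubsystemOf F := by
    intro P φ hφ
    rw [hHhom P] at hφ
    exact hφ.1
  have hfoc : H.focalSubgroup = N.focalSubgroup := by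
    unfold focalSubgroup
    simp only [hH, castSys'_hom]
  rw [← hfoc]
  symm
  apply (Cfsg.Agent.S5224.result p hS F hF H hHsat hHF).1.mp
  -- the elementary focal subgroups agree
  set Φ : Subgroup Ω := (frattini ↥S).map S.subtype with hΦ
  set B : Subgroup Ω := Φ ⊔ H.focalSubgroup with hB
  have hΦS : Φ ≤ S := by
    rintro y ⟨z, _, rfl⟩
    exact z.2
  have hBS : B ≤ S := sup_le hΦS (focal_le H)
  apply le_antisymm
  swap
  · exact sup_le le_sup_left ((focal_mono H F hHF).trans le_sup_right)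
  apply sup_le le_sup_left
  -- the quotient of S by B
  set B' : Subgroup ↥S := B.subgroupOf S with hB'
  have hfrB : frattini ↥S ≤ B' := by
    intro z hz
    rw [hB', Subgroup.mem_subgroupOf]
    exact (le_sup_left : Φ ≤ B) ⟨z, hz, rfl⟩
  have hcomB : commutator ↥S ≤ B' :=
    (Cfsg.Agent.Lib.Helper03.commutator_le_frattini_of_isPGroup hS).trans hfrB
  have hcomm_mem : ∀ a b : ↥S, a * b * a⁻¹ * b⁻¹ ∈ B' := by
    intro a b
    apply hcomB
    rw [commutator_eq_closure]
    exact Subgroup.subset_closure ⟨a, b, rfl⟩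
  haveI hBn : B'.Normal := by
    constructor
    intro n hn g
    have h1 : g * n * g⁻¹ = (g * n * g⁻¹ * n⁻¹) * n := by group
    rw [h1]
    exact B'.mul_mem (hcomm_mem g n) hn
  letI instA : CommGroup (↥S ⧸ B') :=
    { (inferInstance : Group (↥S ⧸ B')) with
      mul_comm := by
        intro a b
        induction a using QuotientGroup.induction_on with
        | H a =>
          induction b using QuotientGroup.induction_on with
          | H b =>
            rw [← QuotientGroup.mk_mul, ← QuotientGroup.mk_mul, QuotientGroup.eq]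
            have h1 : (a * b)⁻¹ * (b * a) = b⁻¹ * a⁻¹ * b⁻¹⁻¹ * a⁻¹⁻¹ := by group
            rw [h1]
            exact hcomm_mem b⁻¹ a⁻¹ }
  have hexp : ∀ a : ↥S ⧸ B', a ^ p = 1 := by
    intro a
    induction a using QuotientGroup.induction_on with
    | H a =>
      rw [← QuotientGroup.mk_pow, QuotientGroup.eq_one_iff]
      exact hfrB (Cfsg.Agent.Lib.Helper03.pow_mem_frattini_of_isPGroup hS a)
  have hNfocB : N.focalSubgroup ≤ B := by
    rw [← hfoc]; exact le_sup_right
  have hinv : ∀ α ∈ F.autGroup S, ∀ s : ↥S,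
      (QuotientGroup.mk' B') (α s) = (QuotientGroup.mk' B') s := by
    intro α hα s
    rw [QuotientGroup.mk'_apply, QuotientGroup.mk'_apply, QuotientGroup.eq, hB',
      Subgroup.mem_subgroupOf]
    have hmem : S.subtype.comp α.toMonoidHom ∈ N.Hom S := by
      rw [hN S]; exact aut_mem_normalizerHom F hα
    have h2 : ((s : Ω))⁻¹ * ((α s : ↥S) : Ω) ∈ N.focalSubgroup := by
      unfold focalSubgroup
      exact Subgroup.subset_closure ⟨S, S.subtype.comp α.toMonoidHom, s, hmem, rfl⟩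
    have h3 := hNfocB h2
    have h4 : (((α s)⁻¹ * s : ↥S) : Ω) = (((s : Ω))⁻¹ * ((α s : ↥S) : Ω))⁻¹ := by
      rw [Subgroup.coe_mul, Subgroup.coe_inv, _root_.mul_inv_rev, inv_inv]
    rw [h4]
    exact B.inv_mem h3
  have key := hst (↥S ⧸ B') hexp (QuotientGroup.mk' B') hinv
  unfold focalSubgroup
  rw [Subgroup.closure_le]
  rintro y ⟨P, φ, x, hφ, rfl⟩
  have h5 := key P φ hφ x
  rw [QuotientGroup.mk'_apply, QuotientGroup.mk'_apply, QuotientGroup.eq, hB',
    Subgroup.mem_subgroupOf] at h5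
  have h7 : ((x : Ω))⁻¹ * φ x =
      (((⟨φ x, (F.le_of_mem hφ).2 x⟩ : ↥S)⁻¹ * ⟨x, (F.le_of_mem hφ).1 x.2⟩ : ↥S) : Ω)⁻¹ := by
    rw [Subgroup.coe_mul, Subgroup.coe_inv, _root_.mul_inv_rev, inv_inv]
  rw [SetLike.mem_coe, h7]
  exact B.inv_mem h5

end Cfsg.Agent.Lib.Helper36.Yo
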